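import Cfsg.Agent.Lib.M12Uniq.Setup
import Cfsg.Agent.Lib.M12Uniq.ElevenNormalizer

/-!
The pairs of conjugate involutions whose product lies over a given element of prime order: their number
is the prime times a square.
-/

set_option linter.unusedSectionVars false
set_option linter.style.haveILetI false

namespace Cfsg.Agent.M22Uniq

open Cfsg Cfsg.Agent.Char Cfsg.Agent.Blocks Cfsg.Agent.CCSylow Cfsg.Agent.DefOne

open scoped ComplexConjugate

universe u

variable {G : Type u} [Group G] [Fintype G]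

/-- The pairs from two classes with the given product. -/
noncomputable def pairCount (g k y : G) : ℕ := by
  classical exact ((classFinset g ×ˢ classFinset k).filter fun p => p.1 * p.2 = y).card

/-- The class multiplication constant counts pairs. -/
theorem structure_count' (g k y : G) : (pairCount g k y : ℂ) *
    ((Nat.card (Subgroup.centralizer ({g} : Set G)) : ℂ) * Nat.card (Subgroup.centralizer ({k} : Set G))) =
    (Nat.card G : ℂ) * ∑ χ : IrrCharacter G,
      (χ : G → ℂ) g * (χ : G → ℂ) k * conj ((χ : G → ℂ) y) / (χ : G → ℂ) 1 := by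
  classical
  rw [pairCount]
  have hCy : (Nat.card (Subgroup.centralizer ({y} : Set G)) : ℂ) ≠ 0 := Nat.cast_ne_zero.2 Nat.card_pos.ne'
  set T := (classFinset g ×ˢ classFinset k).filter fun p => IsConj (p.1 * p.2) y with hT
  -- all the members of the class of `y` occur equally often
  have hfib : (T.card : ℂ) = ((Subgroup.centralizer ({y} : Set G)).index : ℂ) *
      ((classFinset g ×ˢ classFinset k).filter fun p => p.1 * p.2 = y).card := by
    have h1 := Finset.card_eq_sum_card_fiberwise (f := fun p : G × G => p.1 * p.2) (s := T)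
      (t := classFinset y) (fun p hp => mem_classFinset.2 (Finset.mem_filter.1 hp).2.symm)
    rw [h1, ← Cfsg.Agent.Char.card_classFinset, Nat.cast_sum, ← nsmul_eq_mul, ← Finset.sum_const]
    refine Finset.sum_congr rfl fun z hz => ?_
    norm_cast
    obtain ⟨c, hc⟩ := isConj_iff.1 (mem_classFinset.1 hz)
    refine (Finset.card_equiv ((MulAut.conj c).toEquiv.prodCongr (MulAut.conj c).toEquiv) fun p => ?_).symm
    simp only [hT, Finset.mem_filter, Finset.mem_product, mem_classFinset, Equiv.prodCongr_apply,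
      Prod.map_fst, Prod.map_snd, MulEquiv.toEquiv_eq_coe, MulEquiv.coe_toEquiv, MulAut.conj_apply]
    have e1 : c * p.1 * c⁻¹ * (c * p.2 * c⁻¹) = c * (p.1 * p.2) * c⁻¹ := by group
    rw [e1, ← hc]
    have hgc : ∀ a b : G, IsConj a (c * b * c⁻¹) ↔ IsConj a b := fun a b =>
      ⟨fun h => h.trans (isConj_iff.2 ⟨c⁻¹, by group⟩), fun h => h.trans (isConj_iff.2 ⟨c, rfl⟩)⟩
    rw [hgc, hgc, mul_left_inj, mul_right_inj]
    constructor
    · rintro ⟨h, he⟩
      refine ⟨⟨⟨h.1, h.2⟩, ?_⟩, he⟩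
      rw [he]; exact isConj_iff.2 ⟨c⁻¹, by group⟩
    · rintro ⟨⟨h, -⟩, he⟩; exact ⟨h, he⟩
  have hsum : ∑ χ : IrrCharacter G, (∑ a ∈ classFinset g, ∑ b ∈ classFinset k, (χ : G → ℂ) (a * b)) *
      conj ((χ : G → ℂ) y) = (T.card : ℂ) * Nat.card (Subgroup.centralizer ({y} : Set G)) := by
    simp only [Finset.sum_mul]
    rw [Finset.sum_comm, hT, Finset.natCast_card_filter, Finset.sum_mul, Finset.sum_product]
    refine Finset.sum_congr rfl fun a _ => ?_
    rw [Finset.sum_comm]
    refine Finset.sum_congr rfl fun b _ => ?_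
    show ∑ χ : IrrCharacter G, (χ : G → ℂ) (a * b) * conj ((χ : G → ℂ) y) = _
    by_cases hab : IsConj (a * b) y
    · rw [if_pos hab, one_mul, ← column_orth_of_isConj (IsConj.refl y)]
      refine Finset.sum_congr rfl fun χ _ => ?_
      rw [M11Local.class_eq (IsIrrCharacter.isCharacter χ.2) hab]
    · rw [if_neg hab, zero_mul, column_orth_of_not_isConj hab]
  rw [hfib] at hsum
  have hidx : ∀ x : G, ((Subgroup.centralizer ({x} : Set G)).index : ℂ) *
      Nat.card (Subgroup.centralizer ({x} : Set G)) = (Nat.card G : ℂ) := fun x => by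
    exact_mod_cast Subgroup.index_mul_card _
  set Z := ∑ χ : IrrCharacter G, (χ : G → ℂ) g * (χ : G → ℂ) k * conj ((χ : G → ℂ) y) / (χ : G → ℂ) 1
  have hZ : ∑ χ : IrrCharacter G, (∑ a ∈ classFinset g, ∑ b ∈ classFinset k, (χ : G → ℂ) (a * b)) *
      conj ((χ : G → ℂ) y) = ((Subgroup.centralizer ({g} : Set G)).index : ℂ) *
        ((Subgroup.centralizer ({k} : Set G)).index : ℂ) * Z := by
    rw [Finset.mul_sum]
    refine Finset.sum_congr rfl fun χ _ => ?_
    rw [TICongr.sum_class_mul χ.2]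
    ring
  rw [hZ] at hsum
  have hG0 : (Nat.card G : ℂ) ≠ 0 := Nat.cast_ne_zero.2 Nat.card_pos.ne'
  refine mul_left_cancel₀ hG0 ?_
  linear_combination (-(Nat.card (Subgroup.centralizer ({g} : Set G)) : ℂ) *
      Nat.card (Subgroup.centralizer ({k} : Set G))) * hsum +
    (-((((classFinset g ×ˢ classFinset k).filter fun p => p.1 * p.2 = y).card : ℂ)) *
      (Nat.card (Subgroup.centralizer ({g} : Set G)) : ℂ) *
      Nat.card (Subgroup.centralizer ({k} : Set G))) * hidx y +
    (((Subgroup.centralizer ({k} : Set G)).index : ℂ) *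
      Nat.card (Subgroup.centralizer ({k} : Set G)) * Z) * hidx g + ((Nat.card G : ℂ) * Z) * hidx k

section Pairs

variable {p : ℕ} [Fact p.Prime] {P : Sylow p G} {V : Subgroup G} {e : ℕ}
  (K : Conf p (P : Subgroup G) V (Subgroup.normalizer ((P : Subgroup G) : Set G)) e)

include K

/-- The number of pairs is the prime times a square, and zero when nothing can invert. -/
theorem pairs_square [Fintype V] (hp2 : 2 < p) {s : G} (hs : s * s = 1) {y : G} (hy : y ∈ (P : Subgroup G))
    (hy1 : y ≠ 1) :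
    ∃ k : ℕ, ∑ w : V, pairCount s s (y * (w : G)) = p * (k * k) ∧ (Odd e → k = 0) := by
  classical
  haveI : Fintype (P : Subgroup G) := Fintype.ofFinite _
  haveI : Fintype ((P : Subgroup G) →* ℂˣ) := Fintype.ofFinite _
  haveI : Fintype (Subgroup.normalizer ((P : Subgroup G) : Set G)) := Fintype.ofFinite _
  have hp : p.Prime := Fact.out
  have hyo : orderOf y = p := orderOf_P K hy hy1
  set A := (classFinset s).filter fun a => a * y * a⁻¹ = y⁻¹ with hA
  have hsq : ∀ a ∈ classFinset s, a * a = 1 := fun a ha => M12Uniq.sq_of_isConj (mem_classFinset.1 ha) hs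
  have hAmem : ∀ a, a ∈ A ↔ a ∈ classFinset s ∧ a * y * a⁻¹ = y⁻¹ := fun a => by rw [hA, Finset.mem_filter]
  have hpow : ∀ r ∈ (P : Subgroup G), ∃ j : ℤ, y ^ j = r := fun r hr => by
    obtain ⟨j, hj⟩ := Subgroup.mem_zpowers_iff.1 (mem_zpowers_of_prime_card (G := (P : Subgroup G)) K.hP
      (g := ⟨y, hy⟩) (g' := ⟨r, hr⟩) fun h => hy1 (congrArg Subtype.val h))
    exact ⟨j, by simpa using congrArg Subtype.val hj⟩
  have hPV : ∀ r ∈ (P : Subgroup G), r ∈ V → r = 1 := fun r hr hrV => by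
    by_contra h
    have := Subgroup.orderOf_dvd_natCard V hrV
    rw [orderOf_P K hr h] at this
    exact K.hV this

  -- the members of a pair invert `y`
  have hpair : ∀ w : V, ∀ a b : G, a ∈ classFinset s → b ∈ classFinset s → a * b = y * (w : G) →
      a ∈ A ∧ b ∈ A := by
    intro w a b ha hb hab
    have hcomm : Commute y (w : G) := K.D.pv _ hy _ w.2
    have h1 : a * (y * (w : G)) * a⁻¹ = (y * (w : G))⁻¹ := by
      rw [← hab, mul_inv_rev, inv_eq_of_mul_eq_one_left (hsq a ha), inv_eq_of_mul_eq_one_left (hsq b hb),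
        ← mul_assoc a a b, hsq a ha, one_mul]
    have hk : Nat.Coprime (Nat.card V) (orderOf y) := by
      rw [hyo]; exact ((hp.coprime_iff_not_dvd).2 K.hV).symm
    obtain ⟨l, hl⟩ := exists_pow_eq_self_of_coprime hk
    have hwk : (w : G) ^ Nat.card V = 1 := by rw [← Subgroup.coe_pow, pow_card_eq_one', Subgroup.coe_one]
    have h2 : a * y * a⁻¹ = y⁻¹ := by
      have h3 : (y * (w : G)) ^ (Nat.card V * l) = y := by
        rw [pow_mul, hcomm.mul_pow, hwk, mul_one, hl]
      calc a * y * a⁻¹ = a * (y * (w : G)) ^ (Nat.card V * l) * a⁻¹ := by rw [h3]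
        _ = ((y * (w : G))⁻¹) ^ (Nat.card V * l) := by rw [← conj_pow, h1]
        _ = y⁻¹ := by rw [inv_pow, h3]
    refine ⟨(hAmem a).2 ⟨ha, h2⟩, (hAmem b).2 ⟨hb, ?_⟩⟩
    have hb' : b = a * (y * (w : G)) := by rw [← hab, ← mul_assoc, hsq a ha, one_mul]
    have hy' : (y * (w : G)) * y * (y * (w : G))⁻¹ = y := by
      rw [mul_assoc y, ← hcomm.eq, ← mul_assoc, mul_assoc (y * y), mul_inv_rev]; group
    calc b * y * b⁻¹ = a * ((y * (w : G)) * y * (y * (w : G))⁻¹) * a⁻¹ := by rw [hb']; group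
      _ = y⁻¹ := by rw [hy', h2]
  -- the set is stable under the prime subgroup
  have hstab : ∀ a ∈ A, ∀ r ∈ (P : Subgroup G), a * r ∈ A := by
    intro a ha r hr
    obtain ⟨has, hay⟩ := (hAmem a).1 ha
    obtain ⟨j, rfl⟩ := hpow r hr
    refine (hAmem _).2 ⟨mem_classFinset.2 ((mem_classFinset.1 has).trans ?_), ?_⟩
    · set z := (y ^ j) ^ ((p - 1) / 2) with hz
      refine isConj_iff.2 ⟨z, ?_⟩
      have hinv : a * z * a⁻¹ = z⁻¹ := by
        rw [hz, ← conj_pow, ← conj_zpow, hay, inv_zpow, inv_pow]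
      have hza : z * a = a * z⁻¹ := by
        rw [← hinv, ← mul_assoc, ← mul_assoc, hsq a has, one_mul, inv_eq_of_mul_eq_one_left (hsq a has)]
      have hzz : z * z = (y ^ j)⁻¹ := by
        rw [hz, ← pow_add]
        obtain ⟨m, rfl⟩ := hp.odd_of_ne_two (by omega)
        rw [show (2 * m + 1 - 1) / 2 + (2 * m + 1 - 1) / 2 = 2 * m by omega]
        refine eq_inv_of_mul_eq_one_left ?_
        rw [← pow_succ, ← zpow_natCast, ← zpow_mul, mul_comm, zpow_mul, zpow_natCast,
          orderOf_dvd_iff_pow_eq_one.1 (dvd_of_eq hyo), one_zpow]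
      rw [hza, mul_assoc, ← mul_inv_rev, hzz, inv_inv]
    · calc a * y ^ j * y * (a * y ^ j)⁻¹ = a * (y ^ j * y * (y ^ j)⁻¹) * a⁻¹ := by group
        _ = y⁻¹ := by rw [(Commute.zpow_self y j).eq, mul_inv_cancel_right, hay]
  -- the products lie in the centralizer
  have hprod : ∀ a ∈ A, ∀ b ∈ A, ∃ q ∈ (P : Subgroup G), ∃ w ∈ V, q * w = a * b := by
    intro a ha b hb
    refine (K.hC _).1 ?_
    rw [centralizer_P K hy hy1, Subgroup.mem_centralizer_singleton_iff, ← mul_inv_eq_iff_eq_mul]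
    calc a * b * y * (a * b)⁻¹ = a * (b * y * b⁻¹) * a⁻¹ := by group
      _ = (a * y * a⁻¹)⁻¹ := by rw [((hAmem b).1 hb).2]; group
      _ = y := by rw [((hAmem a).1 ha).2, inv_inv]
  have hfib : ∀ a ∈ A, A.card = p * (A.filter fun b => y⁻¹ * (a * b) ∈ V).card := by
    intro a ha
    rw [← K.hP, Nat.card_eq_fintype_card, ← Finset.card_univ, ← Finset.card_product]
    refine (Finset.card_bij (fun rb _ => rb.2 * ((rb.1 : (P : Subgroup G)) : G)) (fun rb hrb => ?_)
      (fun rb hrb rc hrc hEq => ?_) fun c hc => ?_).symm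
    · exact hstab _ (Finset.mem_filter.1 (Finset.mem_product.1 hrb).2).1 _ rb.1.2
    · have hb := (Finset.mem_filter.1 (Finset.mem_product.1 hrb).2).2
      have hc' := (Finset.mem_filter.1 (Finset.mem_product.1 hrc).2).2
      have hr : ((rb.1 : (P : Subgroup G)) : G) * ((rc.1 : (P : Subgroup G)) : G)⁻¹ = 1 := by
        refine hPV _ ((P : Subgroup G).mul_mem rb.1.2 ((P : Subgroup G).inv_mem rc.1.2)) ?_
        have e1 : rc.2 = rb.2 * (((rb.1 : (P : Subgroup G)) : G) * ((rc.1 : (P : Subgroup G)) : G)⁻¹) := by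
          rw [← mul_assoc, hEq, mul_inv_cancel_right]
        have h := V.mul_mem (V.inv_mem hb) hc'
        rw [e1] at h
        simpa [mul_assoc] using h
      have h1 : rb.1 = rc.1 := Subtype.ext (mul_inv_eq_one.1 hr)
      refine Prod.ext h1 ?_
      rw [h1] at hEq
      exact mul_right_cancel hEq
    · obtain ⟨q, hq, w, hw, hqw⟩ := hprod a ha c hc
      refine ⟨(⟨y⁻¹ * q, (P : Subgroup G).mul_mem ((P : Subgroup G).inv_mem hy) hq⟩, c * (q⁻¹ * y)),
        Finset.mem_product.2 ⟨Finset.mem_univ _, Finset.mem_filter.2 ⟨hstab c hc _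
          ((P : Subgroup G).mul_mem ((P : Subgroup G).inv_mem hq) hy), ?_⟩⟩, by group⟩
      have hcw : Commute (q⁻¹ * y) w := K.D.pv _ ((P : Subgroup G).mul_mem ((P : Subgroup G).inv_mem hq) hy) _ hw
      have : y⁻¹ * (a * (c * (q⁻¹ * y))) = w := by
        rw [← mul_assoc a, ← hqw, mul_assoc q, ← hcw.eq]; group
      rwa [this]
  have hsum : ∑ w : V, pairCount s s (y * (w : G)) = ∑ a ∈ A, (A.filter fun b => y⁻¹ * (a * b) ∈ V).card := by
    rw [← Finset.card_sigma]
    simp only [pairCount]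
    rw [← Finset.card_sigma]
    refine Finset.card_bij (fun x _ => ⟨x.2.1, x.2.2⟩) (fun x hx => ?_) (fun x hx z hz h => ?_) fun x hx => ?_
    · simp only [Finset.mem_sigma, Finset.mem_filter, Finset.mem_product] at hx ⊢
      obtain ⟨h1, h2⟩ := hpair x.1 _ _ hx.2.1.1 hx.2.1.2 hx.2.2
      exact ⟨h1, h2, by rw [hx.2.2, inv_mul_cancel_left]; exact x.1.2⟩
    · simp only [Finset.mem_sigma, Finset.mem_filter, Finset.mem_product] at hx hz
      obtain ⟨w, a, b⟩ := x
      obtain ⟨w', a', b'⟩ := z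
      simp only [Sigma.mk.injEq, heq_eq_eq] at h
      obtain ⟨rfl, rfl⟩ := h
      obtain rfl : w = w' := Subtype.ext (mul_left_cancel (hx.2.2.symm.trans hz.2.2))
      rfl
    · obtain ⟨a, b⟩ := x
      simp only [Finset.mem_sigma, Finset.mem_filter] at hx
      refine ⟨⟨⟨_, hx.2.2⟩, a, b⟩, ?_, rfl⟩
      simp only [Finset.mem_sigma, Finset.mem_filter, Finset.mem_product, Finset.mem_univ, true_and]
      exact ⟨⟨((hAmem a).1 hx.1).1, ((hAmem b).1 hx.2.1).1⟩, by rw [mul_inv_cancel_left]⟩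
  refine ⟨A.card / p, ?_, fun he => ?_⟩
  · rw [hsum]
    rcases A.eq_empty_or_nonempty with h0 | ⟨a₀, ha₀⟩
    · rw [h0]; simp
    · have hk : A.card / p = (A.filter fun b => y⁻¹ * (a₀ * b) ∈ V).card :=
        Nat.div_eq_of_eq_mul_right hp.pos (hfib a₀ ha₀)
      have hall : ∀ a ∈ A, (A.filter fun b => y⁻¹ * (a * b) ∈ V).card = A.card / p := fun a ha =>
        (Nat.div_eq_of_eq_mul_right hp.pos (hfib a ha)).symm
      rw [Finset.sum_congr rfl hall, Finset.sum_const, smul_eq_mul]
      conv_lhs => rw [hfib a₀ ha₀, ← hk]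
      rw [Nat.mul_div_cancel_left _ hp.pos]
      ring
  · suffices A = ∅ by rw [this]; simp
    refine Finset.eq_empty_of_forall_notMem fun a ha => ?_
    obtain ⟨has, hay⟩ := (hAmem a).1 ha
    have hgN : a ∈ Subgroup.normalizer ((P : Subgroup G) : Set G) :=
      K.D.hTI _ hy hy1 a (hay ▸ (P : Subgroup G).inv_mem hy)
    haveI hnorm : ((Subgroup.centralizer ((P : Subgroup G) : Set G)).subgroupOf
        (Subgroup.normalizer ((P : Subgroup G) : Set G))).Normal := ⟨fun c hc g => by
      rw [Subgroup.mem_subgroupOf, Subgroup.mem_centralizer_iff] at hc ⊢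
      intro x hx
      have hg : (g : G)⁻¹ * x * g ∈ (P : Subgroup G) := by
        have := K.D.hNP _ (inv_mem g.2) x hx
        simpa using this
      have := hc _ hg
      simp only [Subgroup.coe_mul, Subgroup.coe_inv]
      calc x * ((g : G) * c * (g : G)⁻¹) = g * ((g : G)⁻¹ * x * g * c) * (g : G)⁻¹ := by group
        _ = g * (c * ((g : G)⁻¹ * x * g)) * (g : G)⁻¹ := by rw [this]
        _ = g * c * (g : G)⁻¹ * x := by group⟩
    have h := Subgroup.pow_index_mem ((Subgroup.centralizer ((P : Subgroup G) : Set G)).subgroupOf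
      (Subgroup.normalizer ((P : Subgroup G) : Set G))) (⟨a, hgN⟩ : Subgroup.normalizer ((P : Subgroup G) : Set G))
    rw [K.D.he, Subgroup.mem_subgroupOf] at h
    obtain ⟨m, rfl⟩ := he
    rw [SubgroupClass.coe_pow, pow_succ, pow_mul, pow_two, hsq a has, one_pow, one_mul] at h
    rw [centralizer_P K hy hy1, Subgroup.mem_centralizer_singleton_iff, ← mul_inv_eq_iff_eq_mul, hay] at h
    have h2 : y ^ 2 = 1 := by rw [pow_two]; nth_rewrite 1 [← h]; exact inv_mul_cancel _
    have := orderOf_dvd_of_pow_eq_one h2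
    rw [hyo] at this
    have := Nat.le_of_dvd (by norm_num) this
    omega

end Pairs

end Cfsg.Agent.M22Uniq
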