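import Cfsg.Agent.Lib.M22Uniq.Square
import Cfsg.Agent.Lib.M12Uniq.Forms
import Mathlib.GroupTheory.GroupAction.MultipleTransitivity

/-!
The action on 22 points: the numbers of fixed points and the transitivity on triples.
-/

set_option linter.unusedSectionVars false
set_option linter.style.haveILetI false

namespace Cfsg.Agent.M22Uniq

open Cfsg Cfsg.Agent.Char Cfsg.Agent.Blocks Module

open scoped ComplexConjugate

universe u v

section Fix

variable {G : Type u} [Group G] [Finite G] {V : Type v} [AddCommGroup V] [Module ℂ V] [FiniteDimensional ℂ V]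
  (D : M12Uniq.AlgData G V)

/-- The action on one point more than the dimension, with the numbers of fixed points. -/
theorem exists_action_fix (hfaith : ∀ g, D.rho g = 1 → g = 1) :
    ∃ (X : Type v) (_ : Fintype X) (φ : G →* Equiv.Perm X), Fintype.card X = finrank ℂ V + 1 ∧
      Function.Injective φ ∧ ∀ g, (Nat.card {x : X // φ g x = x} : ℂ) = 1 + D.rho.character g := by
  classical
  let X := M12Uniq.AlgExt D →ₐ[ℂ] ℂ
  have hli : LinearIndependent ℂ (fun f : X => f.toLinearMap) :=
    linearIndependent_algHom_toLinearMap ℂ (M12Uniq.AlgExt D) ℂ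
  have : Finite X := hli.finite
  let _ : Fintype X := Fintype.ofFinite X
  let ev : M12Uniq.AlgExt D →ₐ[ℂ] (X → ℂ) :=
    AlgHom.ofLinearMap (LinearMap.pi fun f : X => f.toLinearMap) (by ext f; simp)
      (fun u w => by ext f; simp)
  have hev : ∀ u f, ev u f = f u := fun _ _ => rfl
  have hinj : Function.Injective ev := by
    rw [injective_iff_map_eq_zero]
    exact fun u hu => D.separates u fun f => by rw [← hev, hu]; rfl
  have hdim : finrank ℂ (M12Uniq.AlgExt D) = finrank ℂ V + 1 := by
    show finrank ℂ (ℂ × V) = _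
    rw [finrank_prod, finrank_self, add_comm]
  have hcard : Fintype.card X = finrank ℂ V + 1 := by
    refine le_antisymm ?_ ?_
    · have := hli.fintype_card_le_finrank
      rwa [finrank_linearMap, finrank_self, mul_one, hdim] at this
    · have := LinearMap.finrank_le_finrank_of_injective (f := ev.toLinearMap) hinj
      rwa [finrank_pi, hdim] at this
  let φ : G →* Equiv.Perm X :=
    { toFun := fun g =>
        { toFun := fun f => f.comp (D.act g⁻¹)
          invFun := fun f => f.comp (D.act g)
          left_inv := fun f => by ext u; simp [AlgHom.comp_apply, D.act_comp, D.act_one]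
          right_inv := fun f => by ext u; simp [AlgHom.comp_apply, D.act_comp, D.act_one] }
      map_one' := by ext f u; simp [D.act_one]
      map_mul' := fun g h => by ext f u; simp [AlgHom.comp_apply, D.act_comp, mul_inv_rev] }
  have hφ : ∀ g f u, φ g f u = f (D.act g⁻¹ u) := fun _ _ _ => rfl
  refine ⟨X, inferInstance, φ, hcard, (injective_iff_map_eq_one φ).2 fun g hg => ?_, fun g => ?_⟩
  · refine inv_eq_one.1 (hfaith g⁻¹ (LinearMap.ext fun a => ?_))
    have : D.act g⁻¹ (D.pair 0 a) = D.pair 0 a := hinj (funext fun f => by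
      rw [hev, hev, ← hφ, hg]; rfl)
    exact congrArg Prod.snd this
  · let e : M12Uniq.AlgExt D ≃ₗ[ℂ] (X → ℂ) := LinearEquiv.ofInjectiveOfFinrankEq ev.toLinearMap hinj
      (by rw [finrank_pi, hdim, hcard])
    set T : (X → ℂ) →ₗ[ℂ] (X → ℂ) := LinearMap.funLeft ℂ ℂ (φ g⁻¹) with hT
    have hconj : e.conj ((D.act g).toLinearMap) = T := by
      refine LinearMap.ext fun h => ?_
      obtain ⟨u, rfl⟩ := e.surjective h
      rw [LinearEquiv.conj_apply_apply, e.symm_apply_apply, hT]
      funext f
      show ev (D.act g u) f = ev u (φ g⁻¹ f)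
      rw [hev, hev, hφ, inv_inv]
    have h1 : LinearMap.trace ℂ _ T = 1 + D.rho.character g := by
      rw [← hconj, LinearMap.trace_conj']
      show LinearMap.trace ℂ (ℂ × V) (LinearMap.prodMap LinearMap.id (D.rho g)) = _
      rw [LinearMap.trace_prodMap', LinearMap.trace_id, finrank_self, Nat.cast_one]
      rfl
    rw [← h1, LinearMap.trace_eq_matrix_trace ℂ (Pi.basisFun ℂ X), Matrix.trace,
      Finset.sum_congr rfl fun x _ => show Matrix.diag (LinearMap.toMatrix (Pi.basisFun ℂ X) (Pi.basisFun ℂ X) T) x =
        (if φ g⁻¹ x = x then (1 : ℂ) else 0) by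
          rw [Matrix.diag_apply, LinearMap.toMatrix_apply, Pi.basisFun_repr, Pi.basisFun_apply, hT,
            LinearMap.funLeft_apply, Pi.single_apply],
      Finset.sum_boole, Nat.card_eq_fintype_card, Fintype.card_subtype]
    norm_cast
    congr 1
    refine Finset.filter_congr fun x _ => ?_
    rw [map_inv, Equiv.Perm.inv_def, Equiv.symm_apply_eq, eq_comm]

end Fix

section Orbits

variable {G : Type*} [Group G] [Fintype G] {X : Type*} [Fintype X] [DecidableEq X] [MulAction G X]

/-- The equalities among three points. -/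
def pattern (t : X × X × X) : Fin 5 :=
  if t.1 = t.2.1 then (if t.1 = t.2.2 then 0 else 1) else if t.1 = t.2.2 then 2 else if t.2.1 = t.2.2 then 3 else 4

/-- Five orbits on triples mean transitivity on triples of distinct points. -/
theorem transitive_of_five (h3 : 3 ≤ Fintype.card X)
    (h5 : ∑ g : G, Nat.card {x : X // g • x = x} ^ 3 = 5 * Fintype.card G) :
    MulAction.IsMultiplyPretransitive G X 3 := by
  classical
  have hfix : ∀ g : G, Fintype.card (MulAction.fixedBy (X × X × X) g) = Nat.card {x : X // g • x = x} ^ 3 := by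
    intro g
    rw [← Nat.card_eq_fintype_card]
    rw [Nat.card_congr (β := {x : X // g • x = x} × {x : X // g • x = x} × {x : X // g • x = x})
      { toFun := fun t => (⟨t.1.1, congrArg Prod.fst t.2⟩, ⟨t.1.2.1, congrArg (fun s => s.2.1) t.2⟩,
          ⟨t.1.2.2, congrArg (fun s => s.2.2) t.2⟩)
        invFun := fun t => ⟨(t.1.1, t.2.1.1, t.2.2.1), Prod.ext t.1.2 (Prod.ext t.2.1.2 t.2.2.2)⟩
        left_inv := fun t => rfl
        right_inv := fun t => rfl }, Nat.card_prod, Nat.card_prod, pow_three]
  have hb := MulAction.sum_card_fixedBy_eq_card_orbits_mul_card_group G (X × X × X)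
  rw [Finset.sum_congr rfl fun g _ => hfix g, h5] at hb
  have hcard : Fintype.card (MulAction.orbitRel.Quotient G (X × X × X)) = 5 :=
    (Nat.eq_of_mul_eq_mul_right Fintype.card_pos hb).symm
  have hinv : ∀ s t : X × X × X, (MulAction.orbitRel G (X × X × X)).r s t → pattern s = pattern t := by
    intro s t h
    obtain ⟨g, rfl⟩ := MulAction.orbitRel_apply.1 h
    simp only [pattern, Prod.smul_fst, Prod.smul_snd, smul_left_cancel_iff]
  let f : MulAction.orbitRel.Quotient G (X × X × X) → Fin 5 := Quotient.lift pattern hinv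
  obtain ⟨p⟩ : Nonempty (Fin 3 ↪ X) := Function.Embedding.nonempty_of_card_le (by rwa [Fintype.card_fin])
  have n01 : p 0 ≠ p 1 := fun h => absurd (p.injective h) (by decide)
  have n02 : p 0 ≠ p 2 := fun h => absurd (p.injective h) (by decide)
  have n12 : p 1 ≠ p 2 := fun h => absurd (p.injective h) (by decide)
  have hsurj : Function.Surjective f := by
    intro k
    fin_cases k
    · exact ⟨Quotient.mk'' (p 0, p 0, p 0), by simp [f, pattern]⟩
    · exact ⟨Quotient.mk'' (p 0, p 0, p 1), by simp [f, pattern, n01]⟩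
    · exact ⟨Quotient.mk'' (p 0, p 1, p 0), by simp [f, pattern, n01]⟩
    · exact ⟨Quotient.mk'' (p 0, p 1, p 1), by simp [f, pattern, n01]⟩
    · exact ⟨Quotient.mk'' (p 0, p 1, p 2), by simp [f, pattern, n01, n02, n12]⟩
  have hbij := (Fintype.bijective_iff_surjective_and_card f).2 ⟨hsurj, by rw [hcard, Fintype.card_fin]⟩
  refine ⟨fun a b => ?_⟩
  have h4 : ∀ c : Fin 3 ↪ X, pattern (c 0, c 1, c 2) = 4 := fun c => by
    have m01 : c 0 ≠ c 1 := fun h => absurd (c.injective h) (by decide)
    have m02 : c 0 ≠ c 2 := fun h => absurd (c.injective h) (by decide)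
    have m12 : c 1 ≠ c 2 := fun h => absurd (c.injective h) (by decide)
    simp [pattern, m01, m02, m12]
  have heq : (Quotient.mk'' (b 0, b 1, b 2) : MulAction.orbitRel.Quotient G (X × X × X)) =
      Quotient.mk'' (a 0, a 1, a 2) := hbij.1 (show pattern _ = pattern _ by rw [h4, h4])
  obtain ⟨g, hg⟩ := MulAction.orbitRel_apply.1 (Quotient.exact' heq)
  simp only [Prod.smul_mk, Prod.mk.injEq] at hg
  refine ⟨g, Function.Embedding.ext fun i => ?_⟩
  rw [Function.Embedding.smul_apply]
  fin_cases i
  · exact hg.1
  · exact hg.2.1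
  · exact hg.2.2

end Orbits

variable {G : Type u} [Group G] [Fintype G] [IsSimpleGroup G] (hG : Nat.card G = 443520)

include hG

set_option maxHeartbeats 800000 in
/-- The action on 22 points. -/
theorem exists_degree22 : ∃ (X : Type) (_ : Fintype X) (φ : G →* Equiv.Perm X), Fintype.card X = 22 ∧
    Function.Injective φ ∧
    (∀ a b : Fin 3 ↪ X, ∃ g, ∀ i, φ g (a i) = b i) ∧
    (∀ u : G, orderOf u = 2 → Nat.card {x : X // φ u x = x} = 6) ∧
    (∀ w : G, orderOf w = 4 → Nat.card {x : X // φ w x = x} ≤ 2) := by
  classical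
  obtain ⟨χ, hd, hreal, h3, hskew, hu, hw⟩ := (frame hG).exists_char hG
  have h1 : (χ : G → ℂ) 1 = 21 := by rw [irr_one_eq_charDegree, hd]; norm_num
  obtain ⟨f, n, ρ, hρ, rfl⟩ := χ
  change ρ.character 1 = 21 at h1
  have hn : n = 21 := by
    rw [Representation.char_one, finrank_pi, Fintype.card_fin] at h1
    exact_mod_cast h1
  subst hn
  haveI := hρ
  obtain ⟨D, hD⟩ := M12Uniq.exists_algData ρ hreal (by decide) (by norm_num) h3 hskew
  have hfaith : ∀ g, D.rho g = 1 → g = 1 := by
    rw [hD]
    let f : G →* Module.End ℂ (Fin 21 → ℂ) := ρ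
    rcases IsSimpleGroup.eq_bot_or_eq_top_of_normal f.ker inferInstance with h | h
    · intro g hg
      have : g ∈ f.ker := hg
      rwa [h, Subgroup.mem_bot] at this
    · exfalso
      have h1 : ∀ g, ρ g = 1 := fun g => by
        have : g ∈ f.ker := by rw [h]; trivial
        exact this
      have h2 := D.no_fixed (Pi.single 0 1) (fun g => by rw [hD, h1]; rfl)
      simpa using congrFun h2 0
  obtain ⟨X, _, φ, hX, hinj, hfix⟩ := exists_action_fix D hfaith
  rw [finrank_pi, Fintype.card_fin] at hX
  rw [hD] at hfix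
  have hsum : ∑ g : G, (Nat.card {x : X // φ g x = x}) ^ 3 = 5 * Fintype.card G := by
    have hN : (Nat.card G : ℂ) ≠ 0 := Nat.cast_ne_zero.2 Nat.card_pos.ne'
    have s1 : ∑ g : G, ρ.character g = 0 := by
      have hne : ρ.character ≠ fun _ => (1 : ℂ) := fun h => by
        have := congrFun h 1
        rw [h1] at this
        norm_num at this
      have h := classInner_irr_of_ne (G := G) (⟨_, ρ, hρ, rfl⟩ : IsIrrCharacter G ρ.character) isIrrCharacter_one hne
      simp only [classInner, map_one, mul_one] at h
      exact (mul_eq_zero.1 h).resolve_left (inv_ne_zero hN)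
    have s2 : ∑ g : G, ρ.character g * ρ.character g = (Nat.card G : ℂ) := by
      have h := classInner_self_irr (G := G) (χ := ρ.character) ⟨_, ρ, hρ, rfl⟩
      simp only [classInner] at h
      rw [Finset.sum_congr rfl fun g _ => show ρ.character g * conj (ρ.character g) = ρ.character g * ρ.character g by
        rw [hreal g], inv_mul_eq_iff_eq_mul₀ hN, mul_one] at h
      exact h
    have s3 : ∑ g : G, ρ.character g * ρ.character g * ρ.character g = (Nat.card G : ℂ) := by
      have h := h3
      simp only [classInner] at h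
      rw [Finset.sum_congr rfl fun g _ => show ρ.character g * ρ.character g * conj (ρ.character g) =
        ρ.character g * ρ.character g * ρ.character g by rw [hreal g], inv_mul_eq_iff_eq_mul₀ hN, mul_one] at h
      exact h
    have : ((∑ g : G, (Nat.card {x : X // φ g x = x}) ^ 3 : ℕ) : ℂ) = ((5 * Fintype.card G : ℕ) : ℂ) := by
      push_cast
      rw [Finset.sum_congr rfl fun g _ => show (Nat.card {x : X // φ g x = x} : ℂ) ^ 3 =
        1 + 3 * ρ.character g + 3 * (ρ.character g * ρ.character g) + ρ.character g * ρ.character g * ρ.character g by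
          rw [hfix g]; ring]
      simp only [Finset.sum_add_distrib, ← Finset.mul_sum, s1, s2, s3, Finset.sum_const, Finset.card_univ,
        nsmul_eq_mul, Nat.card_eq_fintype_card]
      ring
    exact_mod_cast this
  letI : MulAction G X := MulAction.compHom X φ
  have h3t : MulAction.IsMultiplyPretransitive G X 3 := transitive_of_five (by omega) hsum
  refine ⟨X, inferInstance, φ, hX, hinj, fun a b => ?_, fun u ho => ?_, fun w ho => ?_⟩
  · obtain ⟨g, hg⟩ := h3t.exists_smul_eq a b
    exact ⟨g, fun i => congrArg (fun c : Fin 3 ↪ X => c i) hg⟩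
  · have h := hfix u
    rw [show ρ.character u = 5 from hu u ho] at h
    norm_num at h
    rw [Nat.card_eq_fintype_card]
    exact_mod_cast h
  · have h := hfix w
    have ha : ρ.character w = (((Nat.card {x : X // φ w x = x} : ℤ) - 1 : ℤ) : ℂ) := by
      push_cast
      linear_combination -h
    have := hw w ho _ ha
    omega

end Cfsg.Agent.M22Uniq
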