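import Cfsg.Agent.Lib.M22Uniq.Action
import Cfsg.Agent.Lib.Steiner.Std22

/-!
The fixed sets of the involutions form a Steiner system, and the group is that of degree 22.
-/

set_option linter.unusedSectionVars false
set_option linter.style.haveILetI false

namespace Cfsg.Agent.M22Uniq

open Cfsg Cfsg.Agent.Char Cfsg.Agent.Blocks Cfsg.Agent.Steiner Cfsg.Agent.Golay
open scoped Pointwise

universe u

/-- The value at an involution, squared and summed. -/
theorem sVal_sq_sum : (degList.map fun d => sVal d * sVal d).sum = 384 := by decide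

variable {G : Type u} [Group G] [Fintype G] [IsSimpleGroup G] (hG : Nat.card G = 443520)

include hG

/-- There are 1155 involutions. -/
theorem card_involutions [DecidableEq G] :
    (Finset.univ.filter fun g : G => orderOf g = 2).card = 1155 := by
  classical
  have F := frame hG
  haveI : Fact (Nat.Prime 2) := ⟨Nat.prime_two⟩
  obtain ⟨s, hs⟩ := exists_prime_orderOf_dvd_card' (G := G) 2 (by rw [hG]; norm_num)
  have hclass : Finset.univ.filter (fun g : G => orderOf g = 2) = classFinset s := by
    ext g
    simp only [Finset.mem_filter, Finset.mem_univ, true_and, mem_classFinset]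
    constructor
    · intro hg
      by_contra h
      have ho := column_orth_of_not_isConj h
      rw [Finset.sum_congr rfl fun (χ : IrrCharacter G) _ =>
          show (χ : G → ℂ) s * (starRingEnd ℂ) ((χ : G → ℂ) g) =
          ((sVal (charDegree (χ : G → ℂ)) * sVal (charDegree (χ : G → ℂ)) : ℤ) : ℂ) by
            rw [(F.inv s hs).2 χ, (F.inv g hg).2 χ, map_intCast, Int.cast_mul],
        ← Int.cast_sum, F.sum_by_deg fun d => sVal d * sVal d, sVal_sq_sum] at ho
      norm_num at ho
    · intro h
      obtain ⟨c, rfl⟩ := isConj_iff.1 h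
      rw [← MulAut.conj_apply, MulEquiv.orderOf_eq, hs]
  rw [hclass, Cfsg.Agent.Char.card_classFinset]
  have h := Subgroup.index_mul_card (Subgroup.centralizer ({s} : Set G))
  rw [(F.inv s hs).1, hG] at h
  omega

section Action

variable {X : Type} [Fintype X] [DecidableEq X] [MulAction G X] [FaithfulSMul G X] (hX : Fintype.card X = 22)
  (h3 : MulAction.IsMultiplyPretransitive G X 3)
  (hu : ∀ u : G, orderOf u = 2 → (Finset.univ.filter fun x : X => u • x = x).card = 6)
  (hw : ∀ w : G, orderOf w = 4 → (Finset.univ.filter fun x : X => w • x = x).card ≤ 2)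

include hX h3 hu hw

/-- Fifteen involutions fix a given triple. -/
theorem count_triple [DecidableEq G] (t : Fin 3 ↪ X) :
    (Finset.univ.filter fun g : G => orderOf g = 2 ∧ ∀ i, g • t i = t i).card = 15 := by
  classical
  set N : (Fin 3 ↪ X) → ℕ := fun t =>
    ((Finset.univ.filter fun g : G => orderOf g = 2).filter fun g => ∀ i, g • t i = t i).card with hN
  have hconst : ∀ t', N t' = N t := fun t' => by
    obtain ⟨c, hc⟩ := h3.exists_smul_eq t' t
    have hci : ∀ i, c • t' i = t i := fun i => congrArg (fun e : Fin 3 ↪ X => e i) hc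
    refine Finset.card_equiv (MulAut.conj c).toEquiv fun g => ?_
    simp only [Finset.mem_filter, Finset.mem_univ, true_and, MulEquiv.toEquiv_eq_coe, MulEquiv.coe_toEquiv,
      MulEquiv.orderOf_eq]
    refine and_congr_right fun _ => forall_congr' fun i => ?_
    rw [MulAut.conj_apply, ← hci i, mul_smul, mul_smul, inv_smul_smul, smul_left_cancel_iff]
  have hdc := Finset.sum_card_bipartiteAbove_eq_sum_card_bipartiteBelow
    (s := Finset.univ.filter fun g : G => orderOf g = 2) (t := (Finset.univ : Finset (Fin 3 ↪ X)))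
    (r := fun (g : G) (e : Fin 3 ↪ X) => ∀ i, g • e i = e i)
  have hleft : ∀ g ∈ Finset.univ.filter (fun g : G => orderOf g = 2),
      ((Finset.univ : Finset (Fin 3 ↪ X)).bipartiteAbove (fun (g : G) (e : Fin 3 ↪ X) => ∀ i, g • e i = e i) g).card = 120 := by
    intro g hg
    simp only [Finset.mem_filter, Finset.mem_univ, true_and] at hg
    rw [Finset.bipartiteAbove, ← Fintype.card_subtype,
      Fintype.card_congr (β := Fin 3 ↪ {x : X // g • x = x})
        { toFun := fun e => ⟨fun i => ⟨e.1 i, e.2 i⟩, fun i j h => e.1.injective (congrArg Subtype.val h)⟩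
          invFun := fun e => ⟨e.trans (Function.Embedding.subtype _), fun i => (e i).2⟩
          left_inv := fun e => rfl
          right_inv := fun e => rfl },
      Fintype.card_embedding_eq, Fintype.card_subtype, hu g hg, Fintype.card_fin]
    rfl
  rw [Finset.sum_congr rfl hleft, Finset.sum_const, card_involutions hG, smul_eq_mul,
    Finset.sum_congr rfl fun e _ => show ((Finset.univ.filter fun g : G => orderOf g = 2).bipartiteBelow
      (fun (g : G) (e : Fin 3 ↪ X) => ∀ i, g • e i = e i) e).card = N t from hconst e,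
    Finset.sum_const, Finset.card_univ, Fintype.card_embedding_eq, hX, Fintype.card_fin, smul_eq_mul,
    show Nat.descFactorial 22 3 = 9240 by decide] at hdc
  have : N t = 15 := by omega
  simpa [hN, Finset.filter_filter] using this

/-- The involutions fixing a triple have the same fixed points. -/
theorem fix_unique (t : Fin 3 ↪ X) {u v : G} (huo : orderOf u = 2) (hut : ∀ i, u • t i = t i) (hvo : orderOf v = 2)
    (hvt : ∀ i, v • t i = t i) :
    (Finset.univ.filter fun x : X => u • x = x) = Finset.univ.filter fun x : X => v • x = x := by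
  classical
  haveI : Fact (Nat.Prime 2) := ⟨Nat.prime_two⟩
  set H : Subgroup G := MulAction.stabilizer G t with hH
  have hmem : ∀ g : G, g ∈ H ↔ ∀ i, g • t i = t i := fun g =>
    ⟨fun h i => congrArg (fun e : Fin 3 ↪ X => e i) h, fun h => Function.Embedding.ext h⟩
  haveI := h3
  have hHcard : Nat.card H = 48 := by
    have h := Subgroup.card_mul_index H
    rw [hH, MulAction.index_stabilizer_of_transitive, Nat.card_eq_fintype_card (α := Fin 3 ↪ X),
      Fintype.card_embedding_eq, hX, Fintype.card_fin, hG, show Nat.descFactorial 22 3 = 9240 by decide] at h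
    rw [hH]
    omega
  obtain ⟨S⟩ : Nonempty (Sylow 2 H) := inferInstance
  set T : Subgroup G := (S : Subgroup H).map H.subtype with hT
  have hTcard : Nat.card T = 16 := by
    rw [hT, Subgroup.card_map_of_injective Subtype.val_injective, S.card_eq_multiplicity, hHcard,
      show (48 : ℕ) = 2 ^ 4 * 3 by norm_num, Nat.factorization_mul (by norm_num) (by norm_num), Finsupp.add_apply,
      Nat.factorization_pow_self Nat.prime_two, Nat.factorization_eq_zero_of_not_dvd (by norm_num : ¬ 2 ∣ 3)]
    rfl
  have hTle : ∀ g ∈ T, ∀ i, g • t i = t i := fun g hg => (hmem g).1 (Subgroup.map_subtype_le _ hg)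
  -- all the nontrivial elements are involutions
  have hinv : ∀ g ∈ T, g ≠ 1 → orderOf g = 2 := by
    intro g hg hg1
    obtain ⟨k, -, hk⟩ := (Nat.dvd_prime_pow Nat.prime_two).1
      (show orderOf g ∣ 2 ^ 4 by rw [show (2 : ℕ) ^ 4 = Nat.card T by rw [hTcard]; norm_num]
                                 exact Subgroup.orderOf_dvd_natCard _ hg)
    rcases k with _ | _ | k
    · exact absurd (orderOf_eq_one_iff.1 hk) hg1
    · simpa using hk
    · exfalso
      have ho : orderOf (g ^ 2 ^ k) = 4 := by
        rw [orderOf_pow' g (pow_ne_zero _ two_ne_zero), hk, Nat.gcd_eq_right ⟨4, by ring⟩,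
          show 2 ^ (k + 1 + 1) = 4 * 2 ^ k by ring, Nat.mul_div_cancel _ (pow_pos two_pos _)]
      have h := hw _ ho
      have hsub : (Finset.univ.map t) ⊆ Finset.univ.filter fun x : X => (g ^ 2 ^ k) • x = x := fun x hx => by
        obtain ⟨i, -, rfl⟩ := Finset.mem_map.1 hx
        exact Finset.mem_filter.2 ⟨Finset.mem_univ _, hTle _ (T.pow_mem hg _) i⟩
      have := Finset.card_le_card hsub
      rw [Finset.card_map, Finset.card_univ, Fintype.card_fin] at this
      omega
  have hcomm : ∀ a ∈ T, ∀ b ∈ T, a * b = b * a := fun a ha b hb => by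
    have sq : ∀ c ∈ T, c * c = 1 := fun c hc => by
      by_cases h : c = 1
      · rw [h, one_mul]
      · rw [← pow_two, ← hinv c hc h, pow_orderOf_eq_one]
    calc a * b = (a * b)⁻¹ := eq_inv_of_mul_eq_one_left (sq _ (T.mul_mem ha hb))
      _ = b⁻¹ * a⁻¹ := mul_inv_rev _ _
      _ = b * a := by rw [inv_eq_of_mul_eq_one_left (sq b hb), inv_eq_of_mul_eq_one_left (sq a ha)]
  -- the involutions fixing the triple
  set S₀ : Finset G := Finset.univ.filter fun g : G => g ∈ T ∧ g ≠ 1 with hS₀
  have hS₀card : S₀.card = 15 := by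
    have h : (Finset.univ.filter fun g : G => g ∈ T).card = 16 := by
      rw [← Fintype.card_subtype, ← Nat.card_eq_fintype_card]; exact hTcard
    rw [hS₀, show (Finset.univ.filter fun g : G => g ∈ T ∧ g ≠ 1) =
      (Finset.univ.filter fun g : G => g ∈ T).erase 1 by ext g; simp [and_comm],
      Finset.card_erase_of_mem (by simp [T.one_mem]), h]
  have hS₀eq : S₀ = Finset.univ.filter fun g : G => orderOf g = 2 ∧ ∀ i, g • t i = t i := by
    refine Finset.eq_of_subset_of_card_le (fun g hg => ?_) ?_
    · simp only [hS₀, Finset.mem_filter, Finset.mem_univ, true_and] at hg ⊢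
      exact ⟨hinv g hg.1 hg.2, hTle g hg.1⟩
    · rw [hS₀card, count_triple hG hX h3 hu hw t]
  -- the further fixed points
  set E : G → Finset X := fun g => (Finset.univ.filter fun x : X => g • x = x) \ Finset.univ.map t with hE
  have hEcard : ∀ g ∈ S₀, (E g).card = 3 := fun g hg => by
    simp only [hS₀, Finset.mem_filter, Finset.mem_univ, true_and] at hg
    have hsub : (Finset.univ.map t) ⊆ Finset.univ.filter fun x : X => g • x = x := fun x hx => by
      obtain ⟨i, -, rfl⟩ := Finset.mem_map.1 hx
      exact Finset.mem_filter.2 ⟨Finset.mem_univ _, hTle g hg.1 i⟩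
    simp only [hE]
    rw [Finset.card_sdiff_of_subset hsub, hu g (hinv g hg.1 hg.2), Finset.card_map, Finset.card_univ, Fintype.card_fin]
  set Y : Finset X := Finset.univ \ Finset.univ.map t with hY
  set K : X → Finset G := fun x => S₀.filter fun g => g • x = x with hK
  have hdc : ∑ x ∈ Y, (K x).card = 45 := by
    have h := Finset.sum_card_bipartiteAbove_eq_sum_card_bipartiteBelow (s := S₀) (t := Y)
      (r := fun (g : G) (x : X) => g • x = x)
    rw [Finset.sum_congr rfl fun g hg => show (Y.bipartiteAbove (fun (g : G) (x : X) => g • x = x) g).card = 3 by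
      rw [← hEcard g hg]
      congr 1
      ext x
      simp only [Finset.bipartiteAbove, hY, hE, Finset.mem_filter, Finset.mem_sdiff, Finset.mem_univ, true_and]
      tauto, Finset.sum_const, hS₀card] at h
    exact h.symm
  -- each number is 15, 7 or 0
  have hcases : ∀ x ∈ Y, (K x).card = 15 ∨ (K x).card = 7 ∨ (K x).card = 0 := by
    intro x hx
    by_cases h0 : (K x).card = 0
    · exact Or.inr (Or.inr h0)
    obtain ⟨g, hg⟩ := Finset.card_pos.1 (Nat.pos_of_ne_zero h0)
    simp only [hK, Finset.mem_filter] at hg
    have hgT : g ∈ T := by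
      have := hg.1
      simp only [hS₀, Finset.mem_filter, Finset.mem_univ, true_and] at this
      exact this.1
    have horb : Nat.card (MulAction.orbit T x) ≤ 3 := by
      rw [← hEcard g hg.1, ← Nat.card_eq_finsetCard]
      refine Nat.card_le_card_of_injective (fun z => ⟨(z : X), ?_⟩) fun a b h => Subtype.ext (congrArg Subtype.val h :)
      obtain ⟨⟨c, hcT⟩, hc⟩ := z.2
      simp only [hE, Finset.mem_sdiff, Finset.mem_filter, Finset.mem_univ, true_and, Finset.mem_map, not_exists]
      rw [← hc]
      show g • (c • x) = c • x ∧ ∀ i, ¬ t i = c • x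
      refine ⟨?_, fun i hi => ?_⟩
      · rw [← mul_smul, hcomm g hgT c hcT, mul_smul, hg.2]
      · have : x = t i := smul_left_cancel c (by rw [← hi, hTle c hcT i])
        simp [hY, this] at hx
    have hos := (MulAction.stabilizer T x).index_mul_card
    rw [MulAction.index_stabilizer, hTcard] at hos
    have hn : (MulAction.orbit T x).ncard = Nat.card (MulAction.orbit T x) := rfl
    rw [hn] at hos
    have hKc : (K x).card + 1 = Nat.card (MulAction.stabilizer T x) := by
      have e1 : (insert 1 (K x)).card = (K x).card + 1 := Finset.card_insert_of_notMem (by simp [hK, hS₀])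
      rw [← e1, ← Nat.card_eq_finsetCard]
      refine Nat.card_congr
        { toFun := fun g => ⟨⟨g.1, ?_⟩, ?_⟩
          invFun := fun g => ⟨((g.1 : T) : G), ?_⟩
          left_inv := fun g => rfl
          right_inv := fun g => rfl }
      · rcases Finset.mem_insert.1 g.2 with h | h
        · rw [h]; exact T.one_mem
        · have := (Finset.mem_filter.1 h).1
          simp only [hS₀, Finset.mem_filter, Finset.mem_univ, true_and] at this
          exact this.1
      · rw [MulAction.mem_stabilizer_iff]
        rcases Finset.mem_insert.1 g.2 with h | h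
        · exact (show (g.1 : G) • x = x by rw [h, one_smul])
        · exact (Finset.mem_filter.1 h).2
      · by_cases h : ((g.1 : T) : G) = 1
        · rw [h]; exact Finset.mem_insert_self _ _
        · refine Finset.mem_insert_of_mem (Finset.mem_filter.2 ⟨?_, g.2⟩)
          simp only [hS₀, Finset.mem_filter, Finset.mem_univ, true_and]
          exact ⟨(g.1 : T).2, h⟩
    rw [← hKc] at hos
    have : Nat.card (MulAction.orbit T x) = 0 ∨ Nat.card (MulAction.orbit T x) = 1 ∨
        Nat.card (MulAction.orbit T x) = 2 ∨ Nat.card (MulAction.orbit T x) = 3 := by omega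
    rcases this with e | e | e | e <;> rw [e] at hos <;> omega
  set F := Y.filter fun x => (K x).card = 15 with hF
  set P := Y.filter fun x => (K x).card = 7 with hP
  have hsplit : 15 * F.card + 7 * P.card = 45 := by
    have e : ∀ x ∈ Y, (K x).card = (if (K x).card = 15 then 15 else 0) + (if (K x).card = 7 then 7 else 0) :=
      fun x hx => by rcases hcases x hx with h | h | h <;> simp [h]
    rw [← hdc, Finset.sum_congr rfl e, Finset.sum_add_distrib, ← Finset.sum_filter, ← Finset.sum_filter,
      Finset.sum_const, Finset.sum_const, smul_eq_mul, smul_eq_mul]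
    ring
  have hFsub : ∀ g ∈ S₀, F ⊆ E g := fun g hg x hx => by
    obtain ⟨hxY, hxK⟩ := Finset.mem_filter.1 hx
    have : K x = S₀ := Finset.eq_of_subset_of_card_le (Finset.filter_subset _ _) (by rw [hxK, hS₀card])
    have hgK : g ∈ K x := this ▸ hg
    simp only [hY, Finset.mem_sdiff, Finset.mem_univ, true_and] at hxY
    simp only [hE, Finset.mem_sdiff, Finset.mem_filter, Finset.mem_univ, true_and]
    exact ⟨(Finset.mem_filter.1 hgK).2, hxY⟩
  have hmemS : ∀ g, orderOf g = 2 → (∀ i, g • t i = t i) → g ∈ S₀ := fun g h1 h2 => by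
    rw [hS₀eq]; simp [h1, h2]
  have hu' := hmemS u huo hut
  have hv' := hmemS v hvo hvt
  have hF3 : F.card = 3 := by
    have := Finset.card_le_card (hFsub u hu')
    rw [hEcard u hu'] at this
    omega
  have key : ∀ g ∈ S₀, (Finset.univ.filter fun x : X => g • x = x) = Finset.univ.map t ∪ F := fun g hg => by
    have he : F = E g := Finset.eq_of_subset_of_card_le (hFsub g hg) (by rw [hEcard g hg, hF3])
    rw [he]
    simp only [hE]
    rw [Finset.union_sdiff_of_subset]
    intro x hx
    obtain ⟨i, -, rfl⟩ := Finset.mem_map.1 hx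
    simp only [hS₀, Finset.mem_filter, Finset.mem_univ, true_and] at hg
    exact Finset.mem_filter.2 ⟨Finset.mem_univ _, hTle g hg.1 i⟩
  rw [key u hu', key v hv']

/-- The fixed sets of the involutions form a Steiner system. -/
theorem isSteiner_fix : IsSteinerSystem 3 6
    {b : Finset X | ∃ u : G, orderOf u = 2 ∧ b = Finset.univ.filter fun x : X => u • x = x} := by
  classical
  refine ⟨fun b hb => ?_, fun s hs => ?_⟩
  · obtain ⟨u, ho, rfl⟩ := hb
    exact hu u ho
  · let e : Fin 3 ≃ s := (Fintype.equivFinOfCardEq (by simp [hs])).symm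
    set t : Fin 3 ↪ X := e.toEmbedding.trans (Function.Embedding.subtype _) with ht
    have hmem : ∀ g : G, (s ⊆ Finset.univ.filter fun x : X => g • x = x) ↔ ∀ i, g • t i = t i := fun g => by
      refine ⟨fun h i => (Finset.mem_filter.1 (h (e i).2)).2, fun h x hx => ?_⟩
      refine Finset.mem_filter.2 ⟨Finset.mem_univ x, ?_⟩
      have := h (e.symm ⟨x, hx⟩)
      simpa [ht] using this
    obtain ⟨g, hg⟩ := Finset.card_pos.1 (show 0 < (Finset.univ.filter fun g : G => orderOf g = 2 ∧ ∀ i, g • t i = t i).card by
      rw [count_triple hG hX h3 hu hw t]; norm_num)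
    simp only [Finset.mem_filter, Finset.mem_univ, true_and] at hg
    refine ⟨_, ⟨⟨g, hg.1, rfl⟩, (hmem g).2 hg.2⟩, ?_⟩
    rintro b ⟨⟨v, hv, rfl⟩, hsub⟩
    exact fix_unique hG hX h3 hu hw t hv ((hmem v).1 hsub) hg.1 hg.2

end Action

/-- The simple group of order 443520 is the group of degree 22. -/
theorem nonempty_equiv : Nonempty (G ≃* ↥(stabSets [{(none : GolayPt)}, {some 0}])) := by
  classical
  obtain ⟨X, _, φ, hX, hinj, htr, hu, hw⟩ := exists_degree22 hG
  letI : MulAction G X := MulAction.compHom X φ
  haveI : FaithfulSMul G X := ⟨fun h => hinj (Equiv.ext h)⟩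
  have h3 : MulAction.IsMultiplyPretransitive G X 3 := ⟨fun a b => by
    obtain ⟨g, hg⟩ := htr a b
    exact ⟨g, Function.Embedding.ext hg⟩⟩
  have hcardfix : ∀ g : G, (Finset.univ.filter fun x : X => g • x = x).card = Nat.card {x : X // φ g x = x} := fun g => by
    rw [Nat.card_eq_fintype_card, Fintype.card_subtype]; rfl
  have hu' : ∀ u : G, orderOf u = 2 → (Finset.univ.filter fun x : X => u • x = x).card = 6 := fun u ho => by
    rw [hcardfix]; exact hu u ho
  have hw' : ∀ w : G, orderOf w = 4 → (Finset.univ.filter fun x : X => w • x = x).card ≤ 2 := fun w ho => by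
    rw [hcardfix]; exact hw w ho
  have hB := isSteiner_fix hG hX h3 hu' hw'
  set B := {b : Finset X | ∃ u : G, orderOf u = 2 ∧ b = Finset.univ.filter fun x : X => u • x = x}
  have hfixB : ∀ g : G, ∀ b ∈ B, φ g • b ∈ B := by
    rintro g b ⟨u, ho, rfl⟩
    refine ⟨g * u * g⁻¹, by rw [← MulAut.conj_apply, MulEquiv.orderOf_eq, ho], ?_⟩
    ext x
    rw [← Finset.inv_smul_mem_iff]
    simp only [Finset.mem_filter, Finset.mem_univ, true_and, mul_smul, ← map_inv]
    constructor
    · intro h
      have h' : u • (g⁻¹ • x) = g⁻¹ • x := h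
      rw [h', smul_inv_smul]
    · intro h
      show u • (g⁻¹ • x) = g⁻¹ • x
      exact eq_inv_smul_iff.2 h
  have hmemAut : ∀ g : G, φ g ∈ setSystemAut B := fun g => by
    rw [MulAction.mem_stabilizer_iff]
    ext b
    constructor
    · rintro ⟨c, hc, rfl⟩; exact hfixB g c hc
    · intro hb
      exact ⟨φ g⁻¹ • b, hfixB g⁻¹ b hb, by
        show φ g • φ g⁻¹ • b = b
        rw [← mul_smul, ← map_mul, mul_inv_cancel, map_one, one_smul]⟩
  obtain ⟨e, he⟩ := exists_iso22 hX hB
  let ψ : ↥pairStab ≃* ↥(setSystemAut B) := autStd22Equiv.trans (autEquiv e he)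
  have hle : stabSets [{(none : GolayPt)}, {some 0}] ≤ pairStab := fun g hg =>
    mem_stabSets.2 ⟨hg.1, fun s hs => by
      rw [List.mem_singleton.1 hs, Finset.insert_eq, Finset.smul_finset_union, hg.2 _ (by simp),
        hg.2 _ (by simp)]⟩
  set M := ((stabSets [{(none : GolayPt)}, {some 0}]).subgroupOf pairStab).map ψ.toMonoidHom with hMdef
  let eM := (Subgroup.subgroupOfEquivOfLe hle).symm.trans
    (((stabSets [{(none : GolayPt)}, {some 0}]).subgroupOf pairStab).equivMapOfInjective ψ.toMonoidHom ψ.injective)
  have hM : Nat.card M = 443520 := by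
    rw [hMdef, ← Nat.card_congr eM.toEquiv, ← stabIn_m22, card_stabIn_m22]
  have hidx : M.index = 2 := by
    have h := Subgroup.card_mul_index M
    rw [hM, ← Nat.card_congr ψ.toEquiv, card_pairStab] at h
    omega
  haveI : M.Normal := Subgroup.normal_of_index_eq_two hidx
  let Φ : G →* ↥(setSystemAut B) := φ.codRestrict _ hmemAut
  have hΦ : Function.Injective Φ := fun a b h => hinj (congrArg Subtype.val h)
  have hrange : Φ.range ≤ M := by
    rcases IsSimpleGroup.eq_bot_or_eq_top_of_normal ((QuotientGroup.mk' M).comp Φ).ker inferInstance with h | h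
    · exfalso
      have hc := Nat.card_le_card_of_injective _ ((MonoidHom.ker_eq_bot_iff _).1 h)
      rw [hG, ← Subgroup.index_eq_card, hidx] at hc
      omega
    · rintro _ ⟨g, rfl⟩
      have hg : g ∈ ((QuotientGroup.mk' M).comp Φ).ker := by rw [h]; trivial
      exact (QuotientGroup.eq_one_iff _).1 hg
  have heq : Φ.range = M := Subgroup.eq_of_le_of_card_ge hrange (by
    rw [hM, ← Nat.card_congr (MonoidHom.ofInjective hΦ).toEquiv, hG])
  exact ⟨(MonoidHom.ofInjective hΦ).trans ((MulEquiv.subgroupCongr heq).trans eM.symm)⟩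

end Cfsg.Agent.M22Uniq
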