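import Cfsg.Agent.Lib.M22Uniq.Engine

/-!
The search over the patterns at eleven: a part of the cases.
-/

namespace Cfsg.Agent.M22Uniq.Engine

set_option maxRecDepth 20000 in
theorem checkD : (([21] : List ℕ).all fun a => ([21, 32, 45] : List ℕ).all fun b => xDegs.all fun c => xDegs.all fun d =>
    !(Nat.ble a b && Nat.ble b c && Nat.ble c d) || caseOK [a, b, c, d]) = true := by
  decide +kernel

end Cfsg.Agent.M22Uniq.Engine
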