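import Cfsg.Agent.Lib.M22Uniq.Search

/-!
The searches excluding an involution centralizing an element of order eleven.
-/

namespace Cfsg.Agent.M22Uniq

/-- The degrees congruent to `1` or `-1` modulo eleven. -/
def xDegs : List ℕ := [10, 12, 21, 32, 45, 56, 120, 144, 210, 252, 320, 384, 560]

/-- The degrees congruent to `2` or `-2` modulo eleven. -/
def twoDegs : List ℕ := [2, 9, 20, 24, 35, 42, 64, 90, 112, 240, 288, 420, 504, 640]

/-- The degrees congruent to `5` or `-5` modulo eleven. -/
def tDegs : List ℕ := [5, 6, 16, 28, 60, 72, 105, 126, 160, 192, 280, 336]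

/-- The sign of a degree at eleven. -/
def sgEleven (d : ℕ) : ℤ := if d % 11 = 1 then 1 else -1

/-- The coefficient of the exceptional degree. -/
def excSign (e t : ℕ) : ℤ := if t % 11 = e then -1 else 1

/-- The possible terms at an involution centralizing an element of order eleven. -/
def involTerms (C : ℕ) (ds : List ℕ) (coef : ℕ → ℤ) (w : ℕ) : List Term :=
  ds.flatMap fun f => (valList (443520 / C) f 44 (sqrtBound C)).map fun a => ⟨f, coef f, a, w⟩

theorem mem_involTerms {C f w : ℕ} {ds : List ℕ} {coef : ℕ → ℤ} {a : ℤ} (hf : f ∈ ds) (h1 : |a| < f)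
    (hm : (44 : ℤ) ∣ (f : ℤ) - a) (hd : (f : ℤ) ∣ ((443520 / C : ℕ) : ℤ) * a) (hC : a * a ≤ C) :
    (⟨f, coef f, a, w⟩ : Term) ∈ involTerms C ds coef w :=
  List.mem_flatMap.2 ⟨f, hf, List.mem_map.2 ⟨a, mem_valList (lt_sqrtBound C) h1 hm hd hC, rfl⟩⟩

/-- The orders divisible by twenty-two. -/
def centOrders22 : List ℕ := [22, 44, 66, 88, 110, 132, 154, 176, 198, 220, 264, 308, 330, 352, 396, 440,
  462, 528, 616, 660, 704, 770, 792, 880, 924, 990, 1056, 1232, 1320, 1386, 1408, 1540, 1584, 1760, 1848,
  1980, 2112, 2310, 2464, 2640, 2772, 3080, 3168, 3520, 3696, 3960, 4224, 4620, 4928, 5280, 5544, 6160,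
  6336, 6930, 7040, 7392, 7920, 9240, 9856, 10560, 11088, 12320, 12672, 13860, 14784, 15840, 18480, 21120,
  22176, 24640, 27720, 29568, 31680, 36960, 44352, 49280, 55440, 63360, 73920, 88704, 110880, 147840,
  221760, 443520]

set_option maxRecDepth 4000 in
theorem centOrders22_complete : ((List.range 20161).all fun k : ℕ =>
    !(Nat.beq (20160 % k) 0) || centOrders22.contains (22 * k)) = true := by
  decide +kernel

theorem mem_centOrders22 {C : ℕ} (h : C ∣ 443520) (h22 : 22 ∣ C) : C ∈ centOrders22 := by
  obtain ⟨k, rfl⟩ := h22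
  have hk : k ∣ 20160 := by
    refine Nat.dvd_of_mul_dvd_mul_left (show 0 < 22 by norm_num) ?_
    simpa using h
  have hle := Nat.le_of_dvd (by norm_num) hk
  have h1 := List.all_eq_true.1 centOrders22_complete k (List.mem_range.2 (by omega))
  simpa [Nat.mod_eq_zero_of_dvd hk] using h1

/-- The search at eleven for a given action of the normalizer. -/
def elevenDead (e : ℕ) : Bool := centOrders22.all fun C =>
  if e = 10 then
    noSol C 443520 504 (involTerms C xDegs sgEleven 1) 9 (involTerms C xDegs sgEleven 1) ⟨1, 1, 1, 1, 1, 1⟩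
  else
    noSol C 443520 (if e = 2 then 20160 else 1)
      (involTerms C (if e = 2 then twoDegs else tDegs) (excSign e) (10 / e)) (e - 1)
      (involTerms C xDegs sgEleven 1) ⟨1, 1, 1, 1, 1, 1⟩

set_option maxRecDepth 10000 in
theorem elevenDead_two : elevenDead 2 = true := by decide +kernel

set_option maxRecDepth 10000 in
theorem elevenDead_five : elevenDead 5 = true := by decide +kernel

set_option maxRecDepth 10000 in
theorem elevenDead_ten : elevenDead 10 = true := by decide +kernel

end Cfsg.Agent.M22Uniq
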