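import Cfsg.Agent.Lib.M22Uniq.Setup
import Cfsg.Agent.Lib.M22Uniq.ElevenSearch
import Cfsg.Agent.Lib.M12Uniq.DefectZero

/-!
A simple group of order 443520: the centralizer of an element of order eleven is cyclic and its
normaliser has order 55.
-/

set_option linter.unusedSectionVars false
set_option linter.style.haveILetI false

namespace Cfsg.Agent.M22Uniq

open Cfsg Cfsg.Agent.Char Cfsg.Agent.Blocks Cfsg.Agent.CCSylow Cfsg.Agent.DefOne

open scoped ComplexConjugate

universe u

/-- The possible orders of the complement at eleven. -/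
def elevenShape (e v : ℕ) : Bool :=
  (Nat.beq e 2 && (Nat.beq (20160 % v) 0 && Nat.beq (v % 2) 0 || Nat.beq v 63)) ||
  (Nat.beq e 5 && (Nat.beq (v % 2) 0 || Nat.beq v 1)) ||
  (Nat.beq e 10 && Nat.beq (v % 2) 0 && (Nat.beq (504 % v) 0 || Nat.beq v 336))

set_option maxRecDepth 4000 in
theorem eleven_shape_check : ([2, 5, 10] : List ℕ).all (fun e => (List.range 3666).all fun j =>
    Nat.beq j 0 || !(Nat.beq (40320 % (e * (11 * j + 1))) 0) ||
      elevenShape e (40320 / (e * (11 * j + 1)))) = true := by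
  decide +kernel

theorem eleven_shape {e n v : ℕ} (he : e = 2 ∨ e = 5 ∨ e = 10) (h : n * (e * v) = 40320) (h1 : 1 < n)
    (h11 : n % 11 = 1) : elevenShape e v = true := by
  have hv : 0 < v := Nat.pos_of_ne_zero fun h0 => by simp [h0] at h
  have he0 : 0 < e := by omega
  have hn : n ≤ 40320 := h ▸ Nat.le_mul_of_pos_right n (Nat.mul_pos he0 hv)
  have h' := List.all_eq_true.1 (List.all_eq_true.1 eleven_shape_check e (by simp; omega)) (n / 11)
    (List.mem_range.2 (by omega))
  have en : 11 * (n / 11) + 1 = n := by omega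
  have hd : 40320 / (e * n) = v := Nat.div_eq_of_eq_mul_right (Nat.mul_pos he0 (by omega)) (by rw [← h]; ring)
  simp only [en, hd, Bool.or_eq_true, Bool.not_eq_true', ← Bool.not_eq_true, Nat.beq_eq] at h'
  rcases h' with (h' | h') | h'
  · omega
  · exact absurd (Nat.mod_eq_zero_of_dvd ⟨v, by rw [← h]; ring⟩) h'
  · exact h'

/-- The degrees congruent to `1` or `-1` modulo eleven are listed. -/
theorem deg_pm_eleven : ∀ d < 666, d ∣ 443520 → d % 11 = 1 ∨ d % 11 = 10 → d = 1 ∨ d ∈ xDegs := by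
  decide +kernel

/-- The degree patterns for an action of order two. -/
theorem two_pattern : ∀ d ∈ xDegs, ∀ s ∈ ([1, -1] : List ℤ), ((d : ℤ) - s) % 11 = 0 →
    443520 % (1 + s * d).natAbs = 0 → ((1 + s * d).natAbs % 11 = 2 ∨ (1 + s * d).natAbs % 11 = 9) →
    (d = 10 ∧ s = -1) ∨ (d = 21 ∧ s = -1) := by decide +kernel

/-- The degrees congruent to `2` or `-2` modulo eleven are listed. -/
theorem deg_two_eleven : ∀ d < 666, d ∣ 443520 → d % 11 = 2 ∨ d % 11 = 9 → d ∈ twoDegs := by
  decide +kernel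

/-- The degrees congruent to `5` or `-5` modulo eleven are listed. -/
theorem deg_five_eleven : ∀ d < 666, d ∣ 443520 → d % 11 = 5 ∨ d % 11 = 6 → d ∈ tDegs := by
  decide +kernel

/-- A seventh root of unity shifted by one is not divisible by seven. -/
theorem not_integral_root {ω : ℂ} (h7 : ω ^ 7 = 1) (hne : ω ≠ 1) : ¬ IsIntegral ℤ ((1 - ω) / 7) := by
  intro h
  have hω : IsIntegral ℤ ω := IsIntegral.of_pow (by norm_num : 0 < 7) (h7 ▸ isIntegral_one)
  have hk : ∀ k, IsIntegral ℤ ((1 - ω ^ k) / 7) := by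
    intro k
    induction k with
    | zero => simpa using isIntegral_zero
    | succ k ih =>
      have e : (1 - ω ^ (k + 1)) / 7 = (1 - ω ^ k) / 7 + ω ^ k * ((1 - ω) / 7) := by rw [pow_succ]; ring
      rw [e]
      exact ih.add ((hω.pow k).mul h)
  have hsum : ω ^ 6 + ω ^ 5 + ω ^ 4 + ω ^ 3 + ω ^ 2 + ω + 1 = 0 := by
    have h0 : (ω - 1) * (ω ^ 6 + ω ^ 5 + ω ^ 4 + ω ^ 3 + ω ^ 2 + ω + 1) = 0 := by linear_combination h7
    exact (mul_eq_zero.1 h0).resolve_left (sub_ne_zero.2 hne)
  have hP : (1 - ω) * (1 - ω ^ 2) * (1 - ω ^ 3) * (1 - ω ^ 4) * (1 - ω ^ 5) * (1 - ω ^ 6) = 7 := by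
    linear_combination (5 - ω ^ 3 - ω ^ 4 - 2 * ω ^ 5 - ω ^ 6 + 3 * ω ^ 7 + ω ^ 9 - ω ^ 12 - ω ^ 13 +
      ω ^ 14) * h7 - hsum
  have hint : IsIntegral ℤ ((1 - ω ^ 1) / 7 * ((1 - ω ^ 2) / 7) * ((1 - ω ^ 3) / 7) * ((1 - ω ^ 4) / 7) *
      ((1 - ω ^ 5) / 7) * ((1 - ω ^ 6) / 7)) :=
    (((((hk 1).mul (hk 2)).mul (hk 3)).mul (hk 4)).mul (hk 5)).mul (hk 6)
  have hval : (1 - ω ^ 1) / 7 * ((1 - ω ^ 2) / 7) * ((1 - ω ^ 3) / 7) * ((1 - ω ^ 4) / 7) *
      ((1 - ω ^ 5) / 7) * ((1 - ω ^ 6) / 7) = (((1 / 16807 : ℚ)) : ℂ) := by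
    push_cast
    linear_combination (1 / 117649 : ℂ) * hP
  obtain ⟨a, ha⟩ := exists_int_of_isIntegral (hval ▸ hint)
  have h1 : ((a * 16807 : ℤ) : ℚ) = ((1 : ℤ) : ℚ) := by push_cast; rw [← ha]; norm_num
  have h2 : a * 16807 = 1 := by exact_mod_cast h1
  omega

variable {G : Type u} [Group G] [Fintype G] [IsSimpleGroup G] (hG : Nat.card G = 443520)

include hG

/-- There are not twelve Sylow subgroups at eleven with an involution centralizing one of them. -/
theorem not_twelve [Fact (Nat.Prime 11)] {P : Sylow 11 G} {V : Subgroup G} {e : ℕ}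
    (K : Conf 11 (P : Subgroup G) V (Subgroup.normalizer ((P : Subgroup G) : Set G)) e)
    (h12 : (Subgroup.normalizer ((P : Subgroup G) : Set G)).index = 12) {v : G} (hv : v ∈ V)
    (hvo : orderOf v = 2) : False := by
  classical
  haveI : Fintype (P : Subgroup G) := Fintype.ofFinite _
  haveI : Fintype V := Fintype.ofFinite _
  haveI : Fintype (Subgroup.normalizer ((P : Subgroup G) : Set G)) := Fintype.ofFinite _
  haveI : Fintype ((P : Subgroup G) →* ℂˣ) := Fintype.ofFinite _
  obtain ⟨y, hy⟩ := exists_ne_one_P K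
  have hy1 : (y : G) ≠ 1 := fun h => hy (Subtype.ext h)
  have hyo : orderOf (y : G) = 11 := orderOf_P K y.2 hy1
  have hcard : Nat.card (Sylow 11 G) = 12 := P.card_eq_index_normalizer.trans h12
  let φ := MulAction.toPermHom G (Sylow 11 G)
  have hfix : ∀ g : G, φ g P = P ↔ g ∈ Subgroup.normalizer ((P : Subgroup G) : Set G) := fun g => by
    show g • P = P ↔ _
    exact Sylow.smul_eq_iff_mem_normalizer
  have hvP : φ v P = P := (hfix v).2 (Subgroup.centralizer_le_normalizer _ (V_le_centralizer K hv))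
  have hyP : φ y P = P := (hfix y).2 (Subgroup.le_normalizer y.2)
  have hker : φ.ker = ⊥ := by
    refine (IsSimpleGroup.eq_bot_or_eq_top_of_normal φ.ker inferInstance).resolve_right fun h => ?_
    have hN : Subgroup.normalizer ((P : Subgroup G) : Set G) = ⊤ := eq_top_iff.2 fun g _ =>
      (hfix g).1 (by
        have : g ∈ φ.ker := h ▸ Subgroup.mem_top g
        rw [MonoidHom.mem_ker] at this
        rw [this]; rfl)
    rw [hN, Subgroup.index_top] at h12
    norm_num at h12
  obtain ⟨Q, hQP⟩ : ∃ Q : Sylow 11 G, φ y Q ≠ Q := by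
    by_contra hc
    push Not at hc
    have : (y : G) ∈ φ.ker := MonoidHom.mem_ker.2 (Equiv.ext hc)
    rw [hker, Subgroup.mem_bot] at this
    exact hy1 this
  have hy11 : φ y ^ 11 = 1 := by rw [← map_pow, orderOf_dvd_iff_pow_eq_one.1 (dvd_of_eq hyo), map_one]
  have hper : Function.minimalPeriod (φ y) Q = 11 := by
    have hd : Function.minimalPeriod (φ y) Q ∣ 11 := Function.IsPeriodicPt.minimalPeriod_dvd (by
      show (φ y)^[11] Q = Q
      rw [← Equiv.Perm.coe_pow, hy11]; rfl)
    rcases (Nat.dvd_prime (Fact.out : Nat.Prime 11)).1 hd with h | h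
    · exact absurd (Function.minimalPeriod_eq_one_iff_isFixedPt.1 h) hQP
    · exact h
  have hiter : ∀ k, (φ y)^[k] Q = ((φ y) ^ k) Q := fun k => by rw [Equiv.Perm.coe_pow]
  have hne : ∀ k, ((φ y) ^ k) Q ≠ P := by
    intro k h
    have h' : ((φ y) ^ k) P = P := Equiv.Perm.pow_apply_eq_self_of_apply_eq_self hyP k
    exact hQP (by rw [((φ y) ^ k).injective (h.trans h'.symm)]; exact hyP)
  have hcover : ∀ R : Sylow 11 G, R ≠ P → ∃ k, k < 11 ∧ ((φ y) ^ k) Q = R := by
    haveI : Fintype (Sylow 11 G) := Fintype.ofFinite _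
    intro R hR
    by_contra hc
    push Not at hc
    have hinj : Set.InjOn (fun k => ((φ y) ^ k) Q) (Finset.range 11 : Set ℕ) := by
      intro a ha b hb hab
      simp only [Finset.coe_range, Set.mem_Iio] at ha hb
      exact Function.iterate_injOn_Iio_minimalPeriod (f := φ y) (x := Q) (by rw [hper]; exact ha)
        (by rw [hper]; exact hb) (by simpa only [hiter] using hab)
    have hsub : (Finset.range 11).image (fun k => ((φ y) ^ k) Q) ⊆ (Finset.univ.erase P).erase R := by
      intro S hS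
      obtain ⟨k, hk, rfl⟩ := Finset.mem_image.1 hS
      simp only [Finset.mem_erase, Finset.mem_univ, and_true]
      exact ⟨hc k (Finset.mem_range.1 hk), hne k⟩
    have h1 := Finset.card_le_card hsub
    rw [Finset.card_image_of_injOn hinj, Finset.card_range,
      Finset.card_erase_of_mem (Finset.mem_erase.2 ⟨hR, Finset.mem_univ _⟩),
      Finset.card_erase_of_mem (Finset.mem_univ _), Finset.card_univ, ← Nat.card_eq_fintype_card, hcard] at h1
    omega
  have hcomm : φ v * φ y = φ y * φ v := by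
    rw [← map_mul, ← map_mul, K.D.pv _ y.2 _ hv]
  have hcommk : ∀ k, φ v * φ y ^ k = φ y ^ k * φ v := fun k => ((Commute.pow_right hcomm k)).eq
  have hvQP : φ v Q ≠ P := fun h => hne 0 (by simpa using (φ v).injective (h.trans hvP.symm))
  obtain ⟨k, hk, hkv⟩ := hcover _ hvQP
  have hvv : φ v (φ v Q) = Q := by
    rw [← Equiv.Perm.mul_apply, ← map_mul, ← pow_two, orderOf_dvd_iff_pow_eq_one.1 (dvd_of_eq hvo), map_one]
    rfl
  have h2k : ((φ y) ^ (k + k)) Q = Q := by
    rw [pow_add, Equiv.Perm.mul_apply, hkv, ← Equiv.Perm.mul_apply, ← hcommk, Equiv.Perm.mul_apply, hkv, hvv]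
  have hk0 : k = 0 := by
    have h : 11 ∣ k + k := hper ▸ Function.IsPeriodicPt.minimalPeriod_dvd (show (φ y)^[k + k] Q = Q by
      rw [hiter]; exact h2k)
    omega
  have hvQ : φ v Q = Q := by rw [← hkv, hk0]; rfl
  have hall : φ v = 1 := by
    refine Equiv.ext fun R => ?_
    by_cases hR : R = P
    · subst hR; exact hvP
    · obtain ⟨j, -, rfl⟩ := hcover R hR
      rw [← Equiv.Perm.mul_apply, hcommk, Equiv.Perm.mul_apply, hvQ]; rfl
  have : v ∈ φ.ker := MonoidHom.mem_ker.2 hall
  rw [hker, Subgroup.mem_bot] at this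
  rw [this, orderOf_one] at hvo
  norm_num at hvo

variable [Fact (Nat.Prime 11)] {P : Sylow 11 G} {V : Subgroup G} {e : ℕ}
  (K : Conf 11 (P : Subgroup G) V (Subgroup.normalizer ((P : Subgroup G) : Set G)) e)

include K

/-- An element of order seven does not centralize an element of order eleven when `e` is two. -/
theorem no_seven (he : e = 2) (h7 : 7 ∣ Nat.card V) : False := by
  classical
  haveI : Fact (Nat.Prime 7) := ⟨by norm_num⟩
  obtain ⟨M, hM⟩ := exists_isPModular_witness 11
  haveI := IsPModular.isPrime hM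
  haveI : Fintype (P : Subgroup G) := Fintype.ofFinite _
  haveI : Fintype V := Fintype.ofFinite _
  haveI : Fintype (Subgroup.normalizer ((P : Subgroup G) : Set G)) := Fintype.ofFinite _
  haveI : Fintype ((P : Subgroup G) →* ℂˣ) := Fintype.ofFinite _
  obtain ⟨eb, X, Y, δ, sg, F⟩ := exists_families K hM (trivB V)
  obtain ⟨hXc, hYc, hXd, hYd, hrel, hagree, hprin⟩ := M12Uniq.families_facts hM (by norm_num) K F
  obtain ⟨hpX, hpsg⟩ := hprin.resolve_right fun h => by rw [h, he] at hYc; simp at hYc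
  have hB := principal_eq K hM F
  have hd1 : charDegree (principal G : G → ℂ) = 1 := Cfsg.Agent.CharX.charDegree_one
  obtain ⟨χ, hχe⟩ : ∃ χ, X.erase (principal G) = {χ} := Finset.card_eq_one.1 (by
    rw [Finset.card_erase_of_mem hpX, hXc, he])
  have hmem : χ ∈ X.erase (principal G) := by rw [hχe]; simp
  obtain ⟨hne, hχX⟩ := Finset.mem_erase.1 hmem
  obtain ⟨θ, hθ⟩ := F.nonempty
  have h := hrel θ hθ
  rw [← Finset.add_sum_erase _ _ hpX, hpsg, hd1, hχe, Finset.sum_singleton] at h
  obtain ⟨hf665, hfd⟩ := deg_facts hG χ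
  obtain ⟨-, htd⟩ := deg_facts hG θ
  have h1 := hXd χ hχX
  have h2 := hYd θ hθ
  rw [he] at h2
  set f := charDegree (χ : G → ℂ) with hf
  set t := charDegree (θ : G → ℂ) with ht
  have hpat : f ∈ xDegs := by
    have hmod : f % 11 = 1 ∨ f % 11 = 10 := by
      rcases F.signX χ hχX with e1 | e1 <;> rw [e1, Int.ModEq] at h1 <;> omega
    have hf1 : f ≠ 1 := fun h1 => hne (eq_principal hG h1)
    exact (deg_pm_eleven f (by omega) hfd hmod).resolve_left hf1
  have hts : (f = 10 ∧ sg χ = -1) ∨ (f = 21 ∧ sg χ = -1) := by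
    have et : (1 + sg χ * (f : ℤ)).natAbs = t := by rcases F.sign with e2 | e2 <;> rw [e2] at h <;> omega
    refine two_pattern f hpat (sg χ) (by rcases F.signX χ hχX with e1 | e1 <;> simp [e1]) ?_ ?_ ?_
    · exact Int.emod_eq_zero_of_dvd (Int.modEq_iff_dvd.1 h1.symm)
    · rw [et]; exact Nat.mod_eq_zero_of_dvd htd
    · rw [et]
      rcases F.sign with e2 | e2 <;> rw [e2, Int.ModEq] at h2 <;> omega
  obtain ⟨v, hv⟩ := exists_prime_orderOf_dvd_card' 7 h7
  have hvo : orderOf (v : G) = 7 := by rw [Subgroup.orderOf_coe, hv]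
  obtain ⟨ψ, hψ, hψv⟩ := M12Uniq.exists_fixed_character (IsIrrCharacter.isCharacter χ.2) (P : Subgroup G) V
    K.D.pv
  have hsum : ∀ w : V, (χ : G → ℂ) (w : G) + 10 * (sg χ : ℂ) = 11 * ψ w := by
    intro w
    have h := hψv w
    rw [K.hP, ← Finset.add_sum_erase _ _ (Finset.mem_univ (1 : (P : Subgroup G))), OneMemClass.coe_one,
      one_mul] at h
    have hrest : ∀ y ∈ Finset.univ.erase (1 : (P : Subgroup G)), (χ : G → ℂ) ((y : G) * w) = sg χ := by
      intro y hy
      have hy1 := Finset.ne_of_mem_erase hy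
      rw [section_const K hM (by rw [hB]; exact Or.inl hχX) y.2 (fun h => hy1 (Subtype.ext h)) w.2,
        ← phi_principal K hM (by rw [hB]; exact Or.inl hχX) hy1, Families.phi_X K F hχX hy1]
    rw [Finset.sum_congr rfl hrest, Finset.sum_const, Finset.card_erase_of_mem (Finset.mem_univ _),
      Finset.card_univ, ← Nat.card_eq_fintype_card, K.hP] at h
    simpa using h
  have hψ1 := hsum 1
  rw [OneMemClass.coe_one, irr_one_eq_charDegree, ← hf] at hψ1
  have hval := hsum v
  rcases hts with ⟨e0, e1⟩ | ⟨e0, e1⟩ <;> rw [e0, e1] at hψ1 <;> rw [e1] at hval <;> push_cast at hψ1 hval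
  · obtain ⟨n, ρ, rfl⟩ := hψ
    have hn : n = 0 := by
      rw [Representation.char_one, Module.finrank_pi, Fintype.card_fin] at hψ1
      have h' : (n : ℂ) = ((0 : ℕ) : ℂ) := by push_cast; linear_combination -(1 / 11 : ℂ) * hψ1
      exact_mod_cast h'
    subst hn
    have hz : ρ.character v = 0 := by
      show LinearMap.trace ℂ _ (ρ v) = 0
      rw [Subsingleton.elim (ρ v) 0, map_zero]
    refine norm_ne hG hne (g := (v : G)) (fun h => by rw [h, orderOf_one] at hvo; norm_num at hvo) ?_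
    rw [← hf, e0, show (χ : G → ℂ) (v : G) = 10 by rw [hz] at hval; linear_combination hval]
    norm_num
  · obtain ⟨lam, hlam⟩ := exists_hom_of_degree_one hψ (by linear_combination -(1 / 11 : ℂ) * hψ1)
    set ω : ℂ := ((lam v : ℂˣ) : ℂ) with hω
    have hω7 : ω ^ 7 = 1 := by
      rw [hω, ← Units.val_pow_eq_pow_val, ← map_pow, orderOf_dvd_iff_pow_eq_one.1 (dvd_of_eq hv), map_one,
        Units.val_one]
    have hχv : (χ : G → ℂ) (v : G) = 11 * ω + 10 := by rw [hlam] at hval; linear_combination hval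
    by_cases hω1 : ω = 1
    · refine norm_ne hG hne (g := (v : G)) (fun h => by rw [h, orderOf_one] at hvo; norm_num at hvo) ?_
      rw [← hf, e0, hχv, hω1]
      norm_num
    · refine not_integral_root hω7 hω1 ?_
      obtain ⟨⟨fχ, n, ρ, hρ, rfl⟩, hρi⟩ : { c : IrrCharacter G // c = χ } := ⟨χ, rfl⟩
      have hint := isIntegral_centralChar ρ (v : G)
      have hfun : (χ : G → ℂ) = ρ.character := by rw [← hρi]
      have hdn : (Module.finrank ℂ (Fin n → ℂ) : ℂ) = 21 := by
        rw [← Representation.char_one ρ, ← hfun, irr_one_eq_charDegree, ← hf, e0]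
        norm_num
      set i := (Subgroup.centralizer ({(v : G)} : Set G)).index with hi
      change IsIntegral ℤ ((i : ℂ) * ρ.character (v : G) / (Module.finrank ℂ (Fin n → ℂ) : ℂ)) at hint
      rw [hdn, ← hfun, hχv] at hint
      have hcop : Nat.Coprime i 7 := by
        refine ((Fact.out : Nat.Prime 7).coprime_iff_not_dvd.2 fun h7i => ?_).symm
        have hC : 7 ∣ Nat.card (Subgroup.centralizer ({(v : G)} : Set G)) := hvo ▸
          Subgroup.orderOf_dvd_natCard _ (Subgroup.mem_centralizer_singleton_iff.2 rfl)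
        have := Nat.mul_dvd_mul h7i hC
        rw [hi, Subgroup.index_mul_card, hG] at this
        norm_num at this
      -- from the integer multiple to the shifted root
      obtain ⟨a, b, hab⟩ : ∃ a b : ℤ, a * (i : ℤ) + b * 7 = 1 := by
        have h := Nat.gcd_eq_gcd_ab i 7
        rw [hcop] at h
        exact ⟨Nat.gcdA i 7, Nat.gcdB i 7, by push_cast at h; linarith⟩
      have hωi : IsIntegral ℤ ω := IsIntegral.of_pow (by norm_num : 0 < 7) (hω7 ▸ isIntegral_one)
      have hZ : ∀ z : ℤ, IsIntegral ℤ (z : ℂ) := fun z => isIntegral_algebraMap (R := ℤ) (x := z)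
      have hu : IsIntegral ℤ ((11 * ω + 10) / 7) := by
        have e : (11 * ω + 10) / 7 = (a : ℂ) * ((3 : ℤ) * ((i : ℂ) * (11 * ω + 10) / 21)) +
            (b : ℂ) * ((11 : ℤ) * ω + (10 : ℤ)) := by
          have habC : (a : ℂ) * (i : ℂ) + (b : ℂ) * 7 = 1 := by exact_mod_cast hab
          push_cast
          linear_combination (-(11 * ω + 10) / 7) * habC
        rw [e]
        exact ((hZ a).mul ((hZ 3).mul hint)).add ((hZ b).mul (((hZ 11).mul hωi).add (hZ 10)))
      have e2 : (1 - ω) / 7 = -((2 : ℤ) * ((11 * ω + 10) / 7)) + ((3 : ℤ) * ω + (3 : ℤ)) := by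
        push_cast; ring
      rw [e2]
      exact ((hZ 2).mul hu).neg.add (((hZ 3).mul hωi).add (hZ 3))

/-- Averaged counts of the products of two conjugates of `v` over a section. -/
theorem avg_count [Fintype (P : Subgroup G)] [Fintype V] (v : G) (y : (P : Subgroup G)) :
    ∃ n : ℕ, (n : ℂ) * ((Nat.card (Subgroup.centralizer ({v} : Set G)) : ℂ) *
      (Nat.card (Subgroup.centralizer ({v} : Set G)) : ℂ)) = 443520 * (Nat.card V : ℂ) *
      ∑ χ : IrrCharacter G, (χ : G → ℂ) v * (χ : G → ℂ) v *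
        conj (phi (χ : G → ℂ) (trivB V) y) / (χ : G → ℂ) 1 ∧
      ((∀ w : V, ¬ IsConj ((y : G) * w) ((y : G) * w)⁻¹) → v * v = 1 → n = 0) := by
  classical
  choose m hm using fun w : V => M12Uniq.structure_count v v ((y : G) * w)
  set C := (Nat.card (Subgroup.centralizer ({v} : Set G)) : ℂ) with hC
  refine ⟨∑ w : V, m w, ?_, fun hnr hvv => Finset.sum_eq_zero fun w _ => ?_⟩
  · have hphi : ∀ χ : IrrCharacter G, (χ : G → ℂ) v * (χ : G → ℂ) v *
        conj (phi (χ : G → ℂ) (trivB V) y) / (χ : G → ℂ) 1 = (Nat.card V : ℂ)⁻¹ * ∑ w : V,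
          (χ : G → ℂ) v * (χ : G → ℂ) v * conj ((χ : G → ℂ) ((y : G) * w)) / (χ : G → ℂ) 1 := by
      intro χ
      rw [phi, map_mul, map_inv₀, map_natCast, map_sum, Finset.mul_sum, Finset.mul_sum, Finset.mul_sum,
        Finset.sum_div]
      refine Finset.sum_congr rfl fun w _ => ?_
      rw [map_mul, Complex.conj_conj, show (trivB V : V → ℂ) w = 1 from rfl]
      ring
    rw [Finset.sum_congr rfl fun χ _ => hphi χ, ← Finset.mul_sum, Finset.sum_comm,
      mul_assoc (443520 : ℂ), mul_inv_cancel_left₀ (Nat.cast_ne_zero.2 Nat.card_pos.ne'),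
      Finset.mul_sum, Nat.cast_sum, Finset.sum_mul]
    refine Finset.sum_congr rfl fun w _ => ?_
    have h := hm w
    rw [hG] at h
    exact_mod_cast h
  · have h := hm w
    rw [M12Uniq.structure_zero_nonreal hvv hvv (hnr w), mul_zero] at h
    rcases mul_eq_zero.1 h with h0 | h0
    · exact_mod_cast h0
    · exact absurd h0 (mul_ne_zero (Nat.cast_ne_zero.2 Nat.card_pos.ne') (Nat.cast_ne_zero.2 Nat.card_pos.ne'))

/-- For an action of order five no element of the sections is real. -/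
theorem not_real_five (he : e = 5) {y : (P : Subgroup G)} (hy : y ≠ 1) (w : V) :
    ¬ IsConj ((y : G) * w) ((y : G) * w)⁻¹ := by
  intro h
  haveI : Fintype (Subgroup.normalizer ((P : Subgroup G) : Set G)) := Fintype.ofFinite _
  haveI : Fintype V := Fintype.ofFinite _
  haveI : Fintype (P : Subgroup G) := Fintype.ofFinite _
  haveI : Fintype ((P : Subgroup G) →* ℂˣ) := Fintype.ofFinite _
  obtain ⟨g, hg⟩ := isConj_iff.1 h
  have hcomm : Commute (y : G) (w : G) := K.D.pv _ y.2 _ w.2
  set k := Nat.card V with hk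
  have hwk : (w : G) ^ k = 1 := by rw [← Subgroup.coe_pow, pow_card_eq_one', Subgroup.coe_one]
  have hgk : g * (y : G) ^ k * g⁻¹ = ((y : G) ^ k)⁻¹ := by
    have h1 : g * ((y : G) * w) ^ k * g⁻¹ = (((y : G) * w) ^ k)⁻¹ := by rw [← conj_pow, hg, inv_pow]
    rwa [hcomm.mul_pow, hwk, mul_one] at h1
  have hy1 : (y : G) ≠ 1 := fun h => hy (Subtype.ext h)
  have hyo : orderOf (y : G) = 11 := orderOf_P K y.2 hy1
  have hk1 : (y : G) ^ k ≠ 1 := fun h0 => K.hV (hyo ▸ orderOf_dvd_of_pow_eq_one h0)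
  have hkP : (y : G) ^ k ∈ (P : Subgroup G) := pow_mem y.2 k
  have hgN : g ∈ Subgroup.normalizer ((P : Subgroup G) : Set G) :=
    K.D.hTI _ hkP hk1 g (hgk ▸ (P : Subgroup G).inv_mem hkP)
  have hsq : g * g * ((y : G) ^ k) * (g * g)⁻¹ = (y : G) ^ k := by
    rw [show g * g * (y : G) ^ k * (g * g)⁻¹ = g * (g * (y : G) ^ k * g⁻¹) * g⁻¹ by group, hgk, ← conj_inv,
      hgk, inv_inv]
  have h2 : g ^ 2 ∈ Subgroup.centralizer ({(y : G) ^ k} : Set G) := by
    rw [Subgroup.mem_centralizer_singleton_iff, pow_two, ← mul_inv_eq_iff_eq_mul]; exact hsq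
  haveI hnorm : ((Subgroup.centralizer ((P : Subgroup G) : Set G)).subgroupOf
      (Subgroup.normalizer ((P : Subgroup G) : Set G))).Normal := ⟨fun c hc a => by
    rw [Subgroup.mem_subgroupOf, Subgroup.mem_centralizer_iff] at hc ⊢
    intro x hx
    have ha : (a : G)⁻¹ * x * a ∈ (P : Subgroup G) := by
      have := K.D.hNP _ (inv_mem a.2) x hx
      simpa using this
    have := hc _ ha
    simp only [Subgroup.coe_mul, Subgroup.coe_inv]
    calc x * ((a : G) * c * (a : G)⁻¹) = a * ((a : G)⁻¹ * x * a * c) * (a : G)⁻¹ := by group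
      _ = a * (c * ((a : G)⁻¹ * x * a)) * (a : G)⁻¹ := by rw [this]
      _ = a * c * (a : G)⁻¹ * x := by group⟩
  have h5 : g ^ 5 ∈ Subgroup.centralizer ((P : Subgroup G) : Set G) := by
    have := Subgroup.pow_index_mem ((Subgroup.centralizer ((P : Subgroup G) : Set G)).subgroupOf
      (Subgroup.normalizer ((P : Subgroup G) : Set G))) (⟨g, hgN⟩ : Subgroup.normalizer ((P : Subgroup G) : Set G))
    rw [K.D.he, he, Subgroup.mem_subgroupOf] at this
    simpa using this
  have h5' : g ^ 5 ∈ Subgroup.centralizer ({(y : G) ^ k} : Set G) :=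
    centralizer_P K hkP hk1 ▸ h5
  have hgc : g ∈ Subgroup.centralizer ({(y : G) ^ k} : Set G) := by
    have := (Subgroup.centralizer ({(y : G) ^ k} : Set G)).mul_mem h5'
      ((Subgroup.centralizer ({(y : G) ^ k} : Set G)).inv_mem (pow_mem h2 2))
    rwa [← pow_mul, ← pow_sub g (by norm_num), show 5 - 2 * 2 = 1 from rfl, pow_one] at this
  rw [Subgroup.mem_centralizer_singleton_iff, ← mul_inv_eq_iff_eq_mul, hgk] at hgc
  have h22 : (y : G) ^ (k * 2) = 1 := by
    rw [pow_mul, pow_two]; nth_rewrite 1 [← hgc]; exact inv_mul_cancel _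
  have h11 := hyo ▸ orderOf_dvd_of_pow_eq_one h22
  rcases (Fact.out : Nat.Prime 11).dvd_mul.1 h11 with h0 | h0
  · exact K.hV h0
  · norm_num at h0

omit [Fact (Nat.Prime 11)] K in
omit hG K in
/-- The sums over a finite set of characters as sums over a multiset of terms. -/
theorem sum_terms {β : Type*} [AddCommMonoid β] (Z : Finset (IrrCharacter G)) (T : IrrCharacter G → Term)
    (F : Term → β) : ((Z.val.map T).map F).sum = ∑ χ ∈ Z, F (T χ) := by
  rw [Multiset.map_map]; rfl

set_option maxHeartbeats 1600000 in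
/-- An involution does not centralize an element of order eleven. -/
theorem inv_kills (he : e = 2 ∨ e = 5 ∨ e = 10) (h2 : 2 ∣ Nat.card V)
    (hV2 : e = 2 → Nat.card V ∣ 20160) (hV10 : e = 10 → Nat.card V ∣ 504) : False := by
  classical
  haveI : Fact (Nat.Prime 2) := ⟨Nat.prime_two⟩
  obtain ⟨M, hM⟩ := exists_isPModular_witness 11
  haveI := IsPModular.isPrime hM
  haveI : Fintype (P : Subgroup G) := Fintype.ofFinite _
  haveI : Fintype V := Fintype.ofFinite _
  haveI : Fintype (Subgroup.normalizer ((P : Subgroup G) : Set G)) := Fintype.ofFinite _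
  haveI : Fintype ((P : Subgroup G) →* ℂˣ) := Fintype.ofFinite _
  obtain ⟨eb, X, Y, δ, sg, F⟩ := exists_families K hM (trivB V)
  obtain ⟨hXc, hYc, hXd, hYd, hrel, hagree, hprin⟩ := M12Uniq.families_facts hM (by norm_num) K F
  have hB := principal_eq K hM F
  have hd1 : charDegree (principal G : G → ℂ) = 1 := Cfsg.Agent.CharX.charDegree_one
  obtain ⟨θ, hθ⟩ := F.nonempty
  obtain ⟨vv, hvv'⟩ := exists_prime_orderOf_dvd_card' 2 h2
  set v : G := (vv : G) with hv
  have hvo : orderOf v = 2 := by rw [hv, Subgroup.orderOf_coe, hvv']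
  have hvv : v * v = 1 := by rw [← pow_two, ← hvo, pow_orderOf_eq_one]
  have hv11 : ¬ 11 ∣ orderOf v := by rw [hvo]; norm_num
  obtain ⟨y, hy⟩ := exists_ne_one_P K
  have hy1 : (y : G) ≠ 1 := fun h => hy (Subtype.ext h)
  have hcomm : Commute (y : G) v := K.D.pv _ y.2 _ vv.2
  have hyo : orderOf (y : G) = 11 := orderOf_P K y.2 hy1
  set C := Nat.card (Subgroup.centralizer ({v} : Set G)) with hC
  have hiC : (Subgroup.centralizer ({v} : Set G)).index * C = 443520 := by
    rw [hC, Subgroup.index_mul_card, hG]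
  have hC0 : 0 < C := Nat.card_pos
  have hidx : 443520 / C = (Subgroup.centralizer ({v} : Set G)).index :=
    Nat.div_eq_of_eq_mul_left hC0 hiC.symm
  have hCmem : C ∈ centOrders22 := by
    refine mem_centOrders22 ⟨_, by rw [mul_comm, hiC]⟩ ?_
    have hmem : (y : G) * v ∈ Subgroup.centralizer ({v} : Set G) := by
      rw [Subgroup.mem_centralizer_singleton_iff, ← mul_assoc, ← hcomm.eq]
    have := Subgroup.orderOf_dvd_natCard _ hmem
    rwa [hcomm.orderOf_mul_eq_mul_orderOf_of_coprime (by rw [hyo, hvo]; norm_num), hyo, hvo] at this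
  -- the values at the involution
  have hval : ∀ χ, χ ∈ X ∪ Y → χ ≠ principal G → ∃ a : ℤ, (χ : G → ℂ) v = a ∧
      (44 : ℤ) ∣ (charDegree (χ : G → ℂ) : ℤ) - a ∧ |a| < (charDegree (χ : G → ℂ) : ℤ) := by
    intro χ hχ hne
    obtain ⟨a, ha, h4, hlt⟩ := involution_range hG hne hvo
    refine ⟨a, ha, ?_, hlt⟩
    have hχB : χ ∈ principalBlock M G := by rw [hB]; simpa using hχ
    set z : G := (y : G) * v with hz
    have hzo : orderOf z = 22 := by
      rw [hz, hcomm.orderOf_mul_eq_mul_orderOf_of_coprime (by rw [hyo, hvo]; norm_num), hyo, hvo]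
    obtain ⟨m, hm⟩ := M11Local.pow_sum (IsIrrCharacter.isCharacter χ.2) hzo (by norm_num)
    obtain ⟨m₀, hm₀⟩ := M11Local.pow_sum (IsIrrCharacter.isCharacter χ.2) hyo (by norm_num)
    have hy11 : (y : G) ^ 11 = 1 := orderOf_dvd_iff_pow_eq_one.1 (dvd_of_eq hyo)
    have hc : ∀ i, i % 11 ≠ 0 → (χ : G → ℂ) (z ^ i) = (χ : G → ℂ) ((y : G) ^ (i % 11)) := by
      intro i hi
      rw [hz, hcomm.mul_pow, ← pow_eq_pow_mod i hy11]
      exact section_const K hM hχB ((P : Subgroup G).pow_mem y.2 i) (fun h => hi (by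
        have := orderOf_dvd_of_pow_eq_one h
        rw [hyo] at this
        exact Nat.mod_eq_zero_of_dvd this)) (V.pow_mem vv.2 i)
    have hz0 : (χ : G → ℂ) (z ^ 11) = a := by
      rw [hz, hcomm.mul_pow, hy11, one_mul, show (11 : ℕ) = 2 * 5 + 1 from rfl, pow_succ, pow_mul,
        pow_two, hvv, one_pow, one_mul, ha]
    simp only [Finset.sum_range_succ, Finset.sum_range_zero, zero_add, pow_zero] at hm₀ hm
    rw [hc 1 (by norm_num), hc 2 (by norm_num), hc 3 (by norm_num), hc 4 (by norm_num),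
      hc 5 (by norm_num), hc 6 (by norm_num), hc 7 (by norm_num), hc 8 (by norm_num),
      hc 9 (by norm_num), hc 10 (by norm_num), hz0, hc 12 (by norm_num), hc 13 (by norm_num),
      hc 14 (by norm_num), hc 15 (by norm_num), hc 16 (by norm_num), hc 17 (by norm_num),
      hc 18 (by norm_num), hc 19 (by norm_num), hc 20 (by norm_num), hc 21 (by norm_num),
      irr_one_eq_charDegree] at hm
    rw [irr_one_eq_charDegree] at hm₀
    norm_num at hm hm₀
    have h22 : (22 : ℤ) * m = 22 * m₀ + a - (charDegree (χ : G → ℂ) : ℤ) := by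
      have : ((22 : ℤ) : ℂ) * (m : ℂ) = ((22 * m₀ + a - (charDegree (χ : G → ℂ) : ℤ) : ℤ) : ℂ) := by
        push_cast
        linear_combination 2 * hm₀ - hm
      exact_mod_cast this
    omega
  choose! a ha ha44 halt using hval
  -- the coefficients
  set c : IrrCharacter G → ℤ := fun χ => if χ ∈ X then sg χ else δ with hc
  have hcY : ∀ χ ∈ Y, c χ = δ := fun χ h => if_neg fun h' => Finset.disjoint_left.1 F.disj h' h
  have hcX : ∀ χ ∈ X, c χ = sg χ := fun χ h => if_pos h
  obtain ⟨a', hp', ha'ne⟩ : ∃ a' : IrrCharacter G → ℤ, a' (principal G) = 1 ∧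
      ∀ χ, χ ≠ principal G → a' χ = a χ :=
    ⟨fun χ => if χ = principal G then 1 else a χ, if_pos rfl, fun χ h => if_neg h⟩
  have ha'v : ∀ χ ∈ X ∪ Y, (χ : G → ℂ) v = (a' χ : ℂ) := fun χ h => by
    by_cases hp : χ = principal G
    · rw [hp, hp']; simp [principal]
    · rw [ha'ne χ hp]; exact ha χ h hp
  -- the sum of the exceptional values
  have hphiX : ∀ χ ∈ X, phi (χ : G → ℂ) (trivB V) y = (sg χ : ℂ) := fun χ h => Families.phi_X K F h hy
  have hphi0 : ∀ χ : IrrCharacter G, χ ∉ X ∪ Y → phi (χ : G → ℂ) (trivB V) y = 0 := fun χ h =>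
    phi_not_principal K hM (by rw [hB]; simpa using h) hy
  have hsumY : ∑ χ ∈ Y, phi (χ : G → ℂ) (trivB V) y = (δ : ℂ) := by
    have horth : ∑ χ : IrrCharacter G, phi (χ : G → ℂ) (trivB V) y * conj ((χ : G → ℂ) 1) = 0 := by
      simp only [phi, mul_assoc, Finset.sum_mul]
      rw [← Finset.mul_sum, Finset.sum_comm, Finset.sum_eq_zero fun w _ => ?_, mul_zero]
      have h0 : ¬ IsConj ((y : G) * w) 1 := fun h => hy1 (by
        have h1 := isConj_one_left.1 h
        have h2 : (y : G) ∈ V := by rw [eq_inv_of_mul_eq_one_left h1]; exact inv_mem w.2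
        have h3 := Subgroup.orderOf_dvd_natCard V h2
        rw [hyo] at h3
        exact absurd h3 K.hV)
      rw [← column_orth_of_not_isConj h0]
      refine Finset.sum_congr rfl fun χ _ => ?_
      rw [show (trivB V : V → ℂ) w = 1 from rfl, map_one, one_mul]
    rw [← Finset.sum_subset (Finset.subset_univ (X ∪ Y)) fun χ _ h => by rw [hphi0 χ h, zero_mul],
      Finset.sum_union F.disj, Finset.sum_congr rfl fun χ h => by rw [hphiX χ h],
      Finset.sum_congr (s₁ := Y) rfl fun χ h => by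
        rw [irr_one_eq_charDegree χ, hagree χ h θ hθ], ← Finset.sum_mul] at horth
    simp only [irr_one_eq_charDegree, map_natCast] at horth
    have h1 := hrel θ hθ
    have h1' : ∑ χ ∈ X, (sg χ : ℂ) * (charDegree (χ : G → ℂ) : ℂ) +
        (δ : ℂ) * (charDegree (θ : G → ℂ) : ℂ) = 0 := by exact_mod_cast h1
    have ht0 : (charDegree (θ : G → ℂ) : ℂ) ≠ 0 := Nat.cast_ne_zero.2 (charDegree_pos θ).ne'
    refine mul_right_cancel₀ ht0 ?_
    linear_combination horth - h1'
  have hvalY : ∀ χ ∈ Y, (χ : G → ℂ) v = (θ : G → ℂ) v := fun χ h => Families.agree K F h hθ hv11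
  -- the structure sum
  set S : ℚ := ∑ χ ∈ X, (sg χ : ℚ) * ((a' χ : ℚ) * a' χ) / (charDegree (χ : G → ℂ) : ℕ) +
    (δ : ℚ) * ((a' θ : ℚ) * a' θ) / (charDegree (θ : G → ℂ) : ℕ) with hS
  obtain ⟨cnt, hcnt, hzero⟩ := avg_count hG K v y
  rw [← Finset.sum_subset (Finset.subset_univ (X ∪ Y)) fun χ _ h => by
      rw [hphi0 χ h, map_zero, mul_zero, zero_div],
    Finset.sum_union F.disj] at hcnt
  have hSC : ∑ χ ∈ X, (χ : G → ℂ) v * (χ : G → ℂ) v * conj (phi (χ : G → ℂ) (trivB V) y) / (χ : G → ℂ) 1 +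
      ∑ χ ∈ Y, (χ : G → ℂ) v * (χ : G → ℂ) v * conj (phi (χ : G → ℂ) (trivB V) y) / (χ : G → ℂ) 1 = (S : ℂ) := by
    rw [hS]; push_cast
    congr 1
    · refine Finset.sum_congr rfl fun χ h => ?_
      rw [hphiX χ h, map_intCast, ha'v χ (Finset.mem_union_left _ h), irr_one_eq_charDegree]
      ring
    · rw [Finset.sum_congr rfl fun χ h => by
        rw [hvalY χ h, irr_one_eq_charDegree χ, hagree χ h θ hθ], ← Finset.sum_div, ← Finset.mul_sum,
        ← map_sum, hsumY, map_intCast, ha'v θ (Finset.mem_union_right _ hθ)]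
      ring
  rw [hSC] at hcnt
  have hcnt' : (cnt : ℚ) * ((C : ℚ) * C) = 443520 * (Nat.card V : ℚ) * S := by
    have h : (((cnt : ℚ) * ((C : ℚ) * C) : ℚ) : ℂ) = ((443520 * (Nat.card V : ℚ) * S : ℚ) : ℂ) := by
      push_cast; exact hcnt
    exact_mod_cast h
  obtain ⟨MM, n, hMM, hMMpos, hn⟩ : ∃ MM n : ℕ, MM = (if e = 10 then 504 else if e = 2 then 20160 else 1) ∧
      0 < MM ∧ (n : ℚ) * ((C : ℚ) * C) = ((443520 * MM : ℕ) : ℚ) * S := by
    refine ⟨_, if e = 5 then 0 else cnt * ((if e = 10 then 504 else 20160) / Nat.card V), rfl,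
      by split_ifs <;> norm_num, ?_⟩
    rcases he with h | h | h <;> simp only [h, reduceIte, show (2 : ℕ) ≠ 10 by norm_num,
      show (5 : ℕ) ≠ 10 by norm_num, show (10 : ℕ) ≠ 5 by norm_num, show (2 : ℕ) ≠ 5 by norm_num,
      show (5 : ℕ) ≠ 2 by norm_num]
    · obtain ⟨q, hq⟩ := hV2 h
      rw [hq, Nat.mul_div_cancel_left _ (Nat.card_pos)]
      push_cast
      linear_combination (q : ℚ) * hcnt'
    · rw [hzero (not_real_five hG K h hy) hvv, Nat.cast_zero, zero_mul] at hcnt'
      have hV0 : (Nat.card V : ℚ) ≠ 0 := Nat.cast_ne_zero.2 Nat.card_pos.ne'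
      have : S = 0 := by
        rcases mul_eq_zero.1 hcnt'.symm with h0 | h0
        · exact absurd h0 (mul_ne_zero (by norm_num) hV0)
        · exact h0
      rw [this, mul_zero, Nat.cast_zero, zero_mul]
    · obtain ⟨q, hq⟩ := hV10 h
      rw [hq, Nat.mul_div_cancel_left _ (Nat.card_pos)]
      push_cast
      linear_combination (q : ℚ) * hcnt'
  -- the relations
  have hD : ∑ χ ∈ X, sg χ * (charDegree (χ : G → ℂ) : ℤ) + δ * (charDegree (θ : G → ℂ) : ℤ) = 0 := hrel θ hθ
  have hL : ∑ χ ∈ X, sg χ * a' χ + δ * a' θ = 0 := by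
    have h := Families.relation K F hθ hv11
    rw [Finset.sum_congr rfl fun χ h => by rw [ha'v χ (Finset.mem_union_left _ h)],
      ha'v θ (Finset.mem_union_right _ hθ)] at h
    exact_mod_cast h
  have ha'Y : ∀ χ ∈ Y, a' χ = a' θ := fun χ h => by
    have h1 := ha'v χ (Finset.mem_union_right _ h)
    rw [hvalY χ h, ha'v θ (Finset.mem_union_right _ hθ)] at h1
    exact_mod_cast h1.symm
  have hnorm : ∑ χ ∈ X, a' χ ^ 2 + (Y.card : ℤ) * a' θ ^ 2 ≤ (C : ℤ) := by
    have h := M12Uniq.sum_sq_le v (X ∪ Y) a' ha'v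
    rwa [Finset.sum_union F.disj, Finset.sum_congr (s₁ := Y) rfl fun χ h => by rw [ha'Y χ h],
      Finset.sum_const, nsmul_eq_mul, ← hC] at h
  have hsq : ∑ χ ∈ X, (charDegree (χ : G → ℂ) : ℤ) ^ 2 + (Y.card : ℤ) * (charDegree (θ : G → ℂ) : ℤ) ^ 2 ≤
      443520 := by
    have h := Finset.sum_le_sum_of_subset (f := fun χ : IrrCharacter G => charDegree (χ : G → ℂ) ^ 2)
      (Finset.subset_univ (X ∪ Y))
    rw [Cfsg.Agent.CharX.sum_deg_sq, hG, Finset.sum_union F.disj,
      Finset.sum_congr (s₁ := Y) rfl fun χ h => by rw [hagree χ h θ hθ], Finset.sum_const, smul_eq_mul] at h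
    exact_mod_cast h
  -- the signs and the lists
  have hdeg : ∀ χ ∈ X ∪ Y, χ ≠ principal G → (c χ : ℤ) = 1 ∨ c χ = -1 := fun χ h _ => by
    rcases Finset.mem_union.1 h with h | h
    · rw [hcX χ h]; exact F.signX χ h
    · rw [hcY χ h]; exact F.sign
  have hinX : ∀ χ ∈ X ∪ Y, χ ≠ principal G → (χ ∈ X ∨ e = 10) → charDegree (χ : G → ℂ) ∈ xDegs ∧
      c χ = sgEleven (charDegree (χ : G → ℂ)) := by
    intro χ h hne hxe
    obtain ⟨h665, hdvd⟩ := deg_facts hG χ
    have hf1 : charDegree (χ : G → ℂ) ≠ 1 := fun h1 => hne (eq_principal hG h1)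
    have hmod : (charDegree (χ : G → ℂ) : ℤ) % 11 = c χ % 11 := by
      rcases Finset.mem_union.1 h with h' | h'
      · rw [hcX χ h']; exact hXd χ h'
      · have h10 : e = 10 := hxe.resolve_left fun hx => Finset.disjoint_left.1 F.disj hx h'
        have h2 := hYd χ h'
        rw [h10, Int.ModEq] at h2
        rw [hcY χ h']
        rcases F.sign with e2 | e2 <;> rw [e2] at h2 ⊢ <;> omega
    refine ⟨(deg_pm_eleven _ (by omega) hdvd ?_).resolve_left hf1, ?_⟩
    · rcases hdeg χ h hne with e1 | e1 <;> rw [e1] at hmod <;> omega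
    · rw [sgEleven]
      rcases hdeg χ h hne with e1 | e1 <;> rw [e1] at hmod ⊢ <;> split_ifs <;> omega
  have hterm : ∀ χ ∈ X ∪ Y, χ ≠ principal G → ∀ (ds : List ℕ) (coef : ℕ → ℤ) (w : ℕ),
      charDegree (χ : G → ℂ) ∈ ds → (w : ℤ) * a' χ ^ 2 ≤ C → 0 < w →
      (⟨charDegree (χ : G → ℂ), coef (charDegree (χ : G → ℂ)), a' χ, w⟩ : Term) ∈
        involTerms C ds coef w := by
    intro χ h hne ds coef w hds hw hw0
    rw [ha'ne χ hne] at hw ⊢
    refine mem_involTerms hds (halt χ h hne) (ha44 χ h hne) ?_ ?_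
    · rw [hidx]; exact M12Uniq.dvd_index_mul χ (ha χ h hne)
    · have hsqn := sq_nonneg (a χ)
      have hw1 : (1 : ℤ) ≤ (w : ℤ) := by exact_mod_cast hw0
      nlinarith
  have hX0 : ∀ χ ∈ X, a' χ ^ 2 ≤ C := fun χ h => by
    have := Finset.single_le_sum (f := fun χ => a' χ ^ 2) (fun _ _ => sq_nonneg _) h
    have h0 : 0 ≤ (Y.card : ℤ) * a' θ ^ 2 := mul_nonneg (Int.natCast_nonneg _) (sq_nonneg _)
    linarith
  have hY0 : (Y.card : ℤ) * a' θ ^ 2 ≤ C := by
    have : 0 ≤ ∑ χ ∈ X, a' χ ^ 2 := Finset.sum_nonneg fun _ _ => sq_nonneg _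
    linarith
  have hpos : ∀ χ : IrrCharacter G, 0 < charDegree (χ : G → ℂ) := fun χ => charDegree_pos χ
  by_cases h10 : e = 10
  · -- ten: a single family
    have hY1 : Y.card = 1 := by rw [h10] at hYc; omega
    have hYe : Y = {θ} := by
      obtain ⟨θ₀, hθ₀⟩ := Finset.card_eq_one.1 hY1
      rw [hθ₀] at hθ ⊢
      rw [Finset.mem_singleton] at hθ
      rw [hθ]
    set U := X ∪ Y with hU
    have hpU : principal G ∈ U := by
      rcases hprin with ⟨h, -⟩ | h
      · exact Finset.mem_union_left _ h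
      · exact Finset.mem_union_right _ (by rw [h]; exact Finset.mem_singleton_self _)
    have hsum : ∀ {β : Type} [CommRing β] (f : IrrCharacter G → β),
        ∑ χ ∈ X, (sg χ : β) * f χ + (δ : β) * f θ = ∑ χ ∈ U, (c χ : β) * f χ := by
      intro β _ f
      rw [hU, Finset.sum_union F.disj, hYe, Finset.sum_singleton, hcY θ hθ]
      exact congrArg (· + _) (Finset.sum_congr rfl fun χ h => by rw [hcX χ h])
    have hcp : c (principal G) = 1 := by
      rcases hprin with ⟨h, hsgp⟩ | h
      · rw [hcX _ h, hsgp]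
      · have hp : principal G ∈ Y := by rw [h]; exact Finset.mem_singleton_self _
        have h2 := hYd _ hp
        rw [hd1, h10, Int.ModEq] at h2
        rw [hcY _ hp]
        rcases F.sign with e2 | e2 <;> rw [e2] at h2 ⊢
        norm_num at h2
    set Z := U.erase (principal G) with hZ
    have hZc : Z.card = 10 := by
      rw [hZ, Finset.card_erase_of_mem hpU, hU, Finset.card_union_of_disjoint F.disj, hXc, h10, hY1]
    obtain ⟨z, hz⟩ : Z.Nonempty := Finset.card_pos.1 (by omega)
    let T : IrrCharacter G → Term := fun χ =>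
      ⟨charDegree (χ : G → ℂ), sgEleven (charDegree (χ : G → ℂ)), a' χ, 1⟩
    have hTc : ∀ χ ∈ Z, (T χ).c = c χ := fun χ h =>
      (hinX χ (Finset.mem_of_mem_erase h) (Finset.ne_of_mem_erase h) (Or.inr h10)).2.symm
    have hTm : ∀ χ ∈ Z, T χ ∈ involTerms C xDegs sgEleven 1 := fun χ h => by
      have hu := Finset.mem_of_mem_erase h
      refine hterm χ hu (Finset.ne_of_mem_erase h) _ _ 1
        (hinX χ hu (Finset.ne_of_mem_erase h) (Or.inr h10)).1 ?_ one_pos
      rw [Nat.cast_one, one_mul]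
      rcases Finset.mem_union.1 hu with h' | h'
      · exact hX0 χ h'
      · rw [ha'Y χ h']; simpa [hY1] using hY0
    have hsumZ : ∀ {β : Type} [AddCommMonoid β] (f : Term → β),
        ((T z ::ₘ (Z.erase z).val.map T).map f).sum = ∑ χ ∈ Z, f (T χ) := by
      intro β _ f
      rw [Multiset.map_cons, Multiset.sum_cons, sum_terms, Finset.add_sum_erase _ (fun χ => f (T χ)) hz]
    have hU' : ∀ {β : Type} [AddCommMonoid β] (f : IrrCharacter G → β),
        ∑ χ ∈ U, f χ = f (principal G) + ∑ χ ∈ Z, f χ := fun f => (Finset.add_sum_erase _ _ hpU).symm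
    have h := elevenDead_ten
    rw [elevenDead] at h
    have h := List.all_eq_true.1 h C hCmem
    rw [if_pos rfl] at h
    refine noSol_sound (by norm_num) h one_pos ((Z.erase z).val.map T) (T z)
      (by rw [Multiset.card_map, Finset.card_val, Finset.card_erase_of_mem hz, hZc])
      (fun x hx => by
        obtain ⟨χ, hχ, rfl⟩ := Multiset.mem_map.1 hx
        exact hTm χ (Finset.mem_of_mem_erase hχ)) (hTm z hz)
      (fun x hx => by
        rcases Multiset.mem_cons.1 hx with rfl | hx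
        · exact hpos z
        · obtain ⟨χ, -, rfl⟩ := Multiset.mem_map.1 hx; exact hpos χ) ?_ ?_ ?_ ?_ n ?_
    · rw [hsumZ, Finset.sum_congr rfl fun χ h => by rw [hTc χ h]]
      have h1 := hD
      have h2 := hsum (fun χ => (charDegree (χ : G → ℂ) : ℤ))
      simp only [Int.cast_id] at h2
      rw [h2, hU', hcp, hd1] at h1
      simpa using h1
    · rw [hsumZ, Finset.sum_congr rfl fun χ h => by rw [hTc χ h]]
      have h1 := hL
      have h2 := hsum a'
      simp only [Int.cast_id] at h2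
      rw [h2, hU', hcp, hp'] at h1
      simpa using h1
    · rw [hsumZ]
      have h1 := hnorm
      rw [show (Y.card : ℤ) * a' θ ^ 2 = ∑ χ ∈ Y, a' χ ^ 2 by rw [hYe]; simp, ← Finset.sum_union F.disj,
        ← hU, hU', hp'] at h1
      simpa [pow_two, T] using h1
    · rw [hsumZ]
      have h1 := hsq
      rw [show (Y.card : ℤ) * (charDegree (θ : G → ℂ) : ℤ) ^ 2 = ∑ χ ∈ Y, (charDegree (χ : G → ℂ) : ℤ) ^ 2
        by rw [hYe]; simp, ← Finset.sum_union F.disj, ← hU, hU', hd1] at h1
      simpa [pow_two, T] using h1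
    · rw [hsumZ, show 504 = MM by rw [hMM, if_pos h10], hn, hS]
      congr 1
      simp only [mul_div_assoc]
      rw [hsum (fun χ => (a' χ : ℚ) * ((a' χ : ℚ) / ((charDegree (χ : G → ℂ) : ℕ) : ℚ))), hU', hcp, hp', hd1,
        Finset.sum_congr (s₁ := Z) rfl fun χ h => by rw [show c χ = (T χ).c from (hTc χ h).symm]]
      norm_num
      rfl
  · -- two or five
    have he' : e = 2 ∨ e = 5 := by omega
    have hYcard : Y.card = 10 / e := by
      rcases he' with h | h <;> rw [h] at hYc ⊢ <;> omega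
    obtain ⟨hpX, hpsg⟩ := hprin.resolve_right fun h => by
      rw [h, Finset.card_singleton] at hYcard
      rcases he' with h0 | h0 <;> rw [h0] at hYcard <;> norm_num at hYcard
    have hθp : θ ≠ principal G := fun h => Finset.disjoint_left.1 F.disj hpX (h ▸ hθ)
    have hθU : θ ∈ X ∪ Y := Finset.mem_union_right _ hθ
    set t := charDegree (θ : G → ℂ) with ht
    obtain ⟨ht665, htd⟩ := deg_facts hG θ
    have htm := hYd θ hθ
    rw [Int.ModEq] at htm
    have hexc : excSign e t = δ := by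
      rw [excSign]
      rcases he' with h | h <;> rw [h] at htm ⊢ <;> rcases F.sign with e2 | e2 <;> rw [e2] at htm ⊢ <;>
        split_ifs <;> omega
    have htl : t ∈ (if e = 2 then twoDegs else tDegs) := by
      rcases he' with h | h <;> rw [h] at htm ⊢
      · exact deg_two_eleven t (by omega) htd (by rcases F.sign with e2 | e2 <;> rw [e2] at htm <;> omega)
      · exact deg_five_eleven t (by omega) htd (by rcases F.sign with e2 | e2 <;> rw [e2] at htm <;> omega)
    let T : IrrCharacter G → Term := fun χ =>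
      ⟨charDegree (χ : G → ℂ), sgEleven (charDegree (χ : G → ℂ)), a' χ, 1⟩
    let L : Term := ⟨t, excSign e t, a' θ, 10 / e⟩
    have hTc : ∀ χ ∈ X.erase (principal G), (T χ).c = sg χ := fun χ h => by
      have hx := Finset.mem_of_mem_erase h
      rw [← hcX χ hx]
      exact (hinX χ (Finset.mem_union_left _ hx) (Finset.ne_of_mem_erase h) (Or.inl hx)).2.symm
    have hXs : ∀ {β : Type} [AddCommMonoid β] (f : IrrCharacter G → β),
        ∑ χ ∈ X, f χ = f (principal G) + ∑ χ ∈ X.erase (principal G), f χ :=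
      fun f => (Finset.add_sum_erase _ _ hpX).symm
    have hsumT : ∀ {β : Type} [AddCommMonoid β] (f : Term → β),
        ((L ::ₘ (X.erase (principal G)).val.map T).map f).sum =
          f L + ∑ χ ∈ X.erase (principal G), f (T χ) := by
      intro β _ f
      rw [Multiset.map_cons, Multiset.sum_cons, sum_terms]
    have h : elevenDead e = true := by
      rcases he' with h | h <;> rw [h]
      · exact elevenDead_two
      · exact elevenDead_five
    rw [elevenDead] at h
    have h := List.all_eq_true.1 h C hCmem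
    rw [if_neg h10] at h
    have hMM' : (if e = 2 then 20160 else 1) = MM := by rw [hMM, if_neg h10]
    rw [hMM'] at h
    refine noSol_sound (by positivity) h one_pos ((X.erase (principal G)).val.map T) L
      (by rw [Multiset.card_map, Finset.card_val, Finset.card_erase_of_mem hpX, hXc])
      (fun x hx => by
        obtain ⟨χ, hχ, rfl⟩ := Multiset.mem_map.1 hx
        have hx' := Finset.mem_of_mem_erase hχ
        exact hterm χ (Finset.mem_union_left _ hx') (Finset.ne_of_mem_erase hχ) _ _ 1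
          (hinX χ (Finset.mem_union_left _ hx') (Finset.ne_of_mem_erase hχ) (Or.inl hx')).1
          (by rw [Nat.cast_one, one_mul]; exact hX0 χ hx') one_pos)
      (hterm θ hθU hθp _ _ _ htl (hYcard ▸ hY0) (by rcases he' with h0 | h0 <;> rw [h0] <;> norm_num))
      (fun x hx => by
        rcases Multiset.mem_cons.1 hx with rfl | hx
        · exact hpos θ
        · obtain ⟨χ, -, rfl⟩ := Multiset.mem_map.1 hx; exact hpos χ) ?_ ?_ ?_ ?_ n ?_
    · rw [hsumT, Finset.sum_congr rfl fun χ h => by rw [hTc χ h]]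
      have h1 := hD
      rw [hXs, hpsg, hd1] at h1
      simp only [L, T, hexc]
      push_cast at h1 ⊢
      linear_combination h1
    · rw [hsumT, Finset.sum_congr rfl fun χ h => by rw [hTc χ h]]
      have h1 := hL
      rw [hXs, hpsg, hp'] at h1
      simp only [L, T, hexc]
      linear_combination h1
    · rw [hsumT]
      have h1 := hnorm
      rw [hXs, hp', hYcard] at h1
      simp only [L, T]
      simp only [pow_two] at h1
      push_cast at h1 ⊢
      simp only [one_mul]
      linarith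
    · rw [hsumT]
      have h1 := hsq
      rw [hXs, hd1, hYcard] at h1
      simp only [L, T]
      simp only [pow_two] at h1
      push_cast at h1 ⊢
      simp only [one_mul]
      linarith
    · rw [hsumT, hn, hS, hXs, hpsg, hp', hd1,
        Finset.sum_congr (s₁ := X.erase (principal G)) rfl fun χ h => by
          rw [show (sg χ : ℤ) = (T χ).c from (hTc χ h).symm]]
      simp only [L, T, hexc]
      push_cast
      ring

omit [Fact (Nat.Prime 11)] K in
/-- The centralizer of an element of order eleven is cyclic and its normalizer has order 55. -/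
theorem eleven_normalizer : ∃ (P : Sylow 11 G) (V : Subgroup G),
    Conf 11 (P : Subgroup G) V (Subgroup.normalizer ((P : Subgroup G) : Set G)) 5 ∧ Nat.card V = 1 := by
  classical
  haveI : Fact (Nat.Prime 11) := ⟨by norm_num⟩
  obtain ⟨P, V, e, K, he, n, hn1, hn11, hn⟩ := exists_config hG (p := 11) (by norm_num) (by norm_num)
  have hn' : n * (e * Nat.card V) = 40320 := by
    have : 11 * (n * (e * Nat.card V)) = 11 * 40320 := by linear_combination hn
    omega
  have he1 : e ≠ 1 := by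
    rintro rfl
    obtain ⟨M, hM⟩ := exists_isPModular_witness 11
    haveI := IsPModular.isPrime hM
    haveI : Fintype (P : Subgroup G) := Fintype.ofFinite _
    haveI : Fintype V := Fintype.ofFinite _
    haveI : Fintype (Subgroup.normalizer ((P : Subgroup G) : Set G)) := Fintype.ofFinite _
    haveI : Fintype ((P : Subgroup G) →* ℂˣ) := Fintype.ofFinite _
    obtain ⟨eb, X, Y, δ, sg, F⟩ := exists_families K hM (trivB V)
    obtain ⟨hXc, hYc, hXd, hYd, hrel, hagree, hprin⟩ := M12Uniq.families_facts hM (by norm_num) K F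
    obtain ⟨θ, hθ⟩ := F.nonempty
    obtain ⟨hpX, hpsg⟩ := hprin.resolve_right fun h => by rw [h] at hYc; simp at hYc
    have h := hrel θ hθ
    obtain ⟨a, ha⟩ := Finset.card_eq_one.1 hXc
    rw [ha, Finset.mem_singleton] at hpX
    rw [ha, Finset.sum_singleton, ← hpX, hpsg,
      show charDegree (principal G : G → ℂ) = 1 from Cfsg.Agent.CharX.charDegree_one] at h
    have h1 : charDegree (θ : G → ℂ) = 1 := by
      rcases F.sign with e1 | e1 <;> rw [e1] at h <;> omega
    refine Finset.disjoint_left.1 F.disj (show principal G ∈ X by rw [ha, hpX]; simp) ?_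
    rw [← eq_principal hG h1]; exact hθ
  have he' : e = 2 ∨ e = 5 ∨ e = 10 := by
    have := Nat.le_of_dvd (by norm_num) he
    interval_cases e <;> first | omega | norm_num at he
  have hs := eleven_shape he' hn' hn1 hn11
  simp only [elevenShape, Bool.or_eq_true, Bool.and_eq_true, Nat.beq_eq] at hs
  rcases hs with (⟨rfl, h⟩ | ⟨rfl, h⟩) | ⟨⟨rfl, h2⟩, h⟩
  · exfalso
    rcases h with ⟨h20, h2⟩ | h63
    · exact inv_kills hG K (Or.inl rfl) (Nat.dvd_of_mod_eq_zero h2) (fun _ => Nat.dvd_of_mod_eq_zero h20)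
        (fun h => absurd h (by norm_num))
    · exact no_seven hG K rfl (by rw [h63]; norm_num)
  · rcases h with h | h
    · exact (inv_kills hG K (Or.inr (Or.inl rfl)) (Nat.dvd_of_mod_eq_zero h) (fun h => absurd h (by norm_num))
        (fun h => absurd h (by norm_num))).elim
    · exact ⟨P, V, K, h⟩
  · exfalso
    rcases h with h | h
    · exact inv_kills hG K (Or.inr (Or.inr rfl)) (Nat.dvd_of_mod_eq_zero h2) (fun h => absurd h (by norm_num))
        (fun _ => Nat.dvd_of_mod_eq_zero h)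
    · haveI : Fact (Nat.Prime 2) := ⟨Nat.prime_two⟩
      obtain ⟨v, hv⟩ := exists_prime_orderOf_dvd_card' 2 (show 2 ∣ Nat.card V by rw [h]; norm_num)
      refine not_twelve hG K ?_ v.2 (by rw [Subgroup.orderOf_coe, hv])
      have := (Subgroup.normalizer ((P : Subgroup G) : Set G)).index_mul_card
      rw [K.D.hcard, K.hP, hG, h] at this
      omega

end Cfsg.Agent.M22Uniq
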