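import Cfsg.Agent.Lib.M22Uniq.Sound
import Cfsg.Agent.Lib.M22Uniq.ElevenNormalizer

/-!
The configurations at five and seven, and the involutions used by the search.
-/

set_option linter.unusedSectionVars false
set_option linter.style.haveILetI false

namespace Cfsg.Agent.M22Uniq

open Cfsg Cfsg.Agent.Char Cfsg.Agent.Blocks Cfsg.Agent.CCSylow Cfsg.Agent.DefOne

open scoped ComplexConjugate

universe u

set_option maxRecDepth 10000 in
theorem cfg_five_check : ∀ e ∈ ([1, 2, 4] : List ℕ), ((List.range 8065).all fun v =>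
    Nat.beq (v * e) 0 || !(Nat.beq (8064 % (e * v)) 0) || !(Nat.beq (88704 / (e * v) % 5) 1) ||
      Engine.cfgFive.contains (e, v)) = true := by decide +kernel

set_option maxRecDepth 10000 in
theorem cfg_seven_check : ∀ e ∈ ([1, 2, 3, 6] : List ℕ), ((List.range 5761).all fun v =>
    Nat.beq (v * e) 0 || !(Nat.beq (5760 % (e * v)) 0) || !(Nat.beq (63360 / (e * v) % 7) 1) ||
      Engine.cfgSeven.contains (e, v)) = true := by decide +kernel

set_option maxRecDepth 10000 in
theorem central_check : ((List.range 316).all fun k => Nat.beq k 0 ||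
    !(Nat.beq (40320 % (128 * k)) 0) || Engine.centralOrders.contains (128 * k)) = true := by
  decide +kernel

variable {G : Type u} [Group G] [Fintype G]

/-- An element of order `q` with centralizer of order `q` commutes with nothing of another prime order. -/
theorem not_dvd_cent {q r : ℕ} [Fact q.Prime] (hr : r.Prime) (hne : r ≠ q)
    (hcent : ∀ z : G, orderOf z = q → Nat.card (Subgroup.centralizer ({z} : Set G)) = q)
    {s : G} (hs : orderOf s = r) : ¬ q ∣ Nat.card (Subgroup.centralizer ({s} : Set G)) := by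
  intro h
  obtain ⟨z, hz⟩ := exists_prime_orderOf_dvd_card' q h
  have hzo : orderOf (z : G) = q := by rw [Subgroup.orderOf_coe, hz]
  have hm : s ∈ Subgroup.centralizer ({(z : G)} : Set G) := by
    rw [Subgroup.mem_centralizer_singleton_iff]
    exact (Subgroup.mem_centralizer_singleton_iff.1 z.2).symm
  have h1 := Subgroup.orderOf_dvd_natCard _ hm
  rw [hcent _ hzo, hs] at h1
  exact hne ((Nat.prime_dvd_prime_iff_eq hr Fact.out).1 h1)

/-- An element of order `q` with centralizer of order `q` normalises no other Sylow subgroup trivially. -/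
theorem not_dvd_complement {p q : ℕ} [Fact p.Prime] [Fact q.Prime] (hne : p ≠ q)
    {P : Sylow p G} {V : Subgroup G} {e : ℕ}
    (K : Conf p (P : Subgroup G) V (Subgroup.normalizer ((P : Subgroup G) : Set G)) e)
    (hcent : ∀ z : G, orderOf z = q → Nat.card (Subgroup.centralizer ({z} : Set G)) = q) :
    ¬ q ∣ Nat.card V := by
  intro h
  haveI : Fintype (P : Subgroup G) := Fintype.ofFinite _
  haveI : Fintype V := Fintype.ofFinite _
  haveI : Fintype (Subgroup.normalizer ((P : Subgroup G) : Set G)) := Fintype.ofFinite _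
  haveI : Fintype ((P : Subgroup G) →* ℂˣ) := Fintype.ofFinite _
  obtain ⟨z, hz⟩ := exists_prime_orderOf_dvd_card' q h
  obtain ⟨y, hy⟩ := exists_ne_one_P K
  have hy1 : (y : G) ≠ 1 := fun h => hy (Subtype.ext h)
  have hm : (y : G) ∈ Subgroup.centralizer ({(z : G)} : Set G) := by
    rw [Subgroup.mem_centralizer_singleton_iff]
    exact K.D.pv _ y.2 _ z.2
  have h1 := Subgroup.orderOf_dvd_natCard _ hm
  rw [hcent _ (by rw [Subgroup.orderOf_coe, hz]), orderOf_P K y.2 hy1] at h1
  exact hne ((Nat.prime_dvd_prime_iff_eq Fact.out Fact.out).1 h1)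

/-- An involution of the complement commutes with an element of order `p`. -/
theorem two_mul_dvd_cent {p : ℕ} [Fact p.Prime] (hp2 : p ≠ 2) {P : Sylow p G} {V : Subgroup G} {e : ℕ}
    (K : Conf p (P : Subgroup G) V (Subgroup.normalizer ((P : Subgroup G) : Set G)) e)
    {u : G} (hu : u ∈ V) (ho : orderOf u = 2) :
    2 * p ∣ Nat.card (Subgroup.centralizer ({u} : Set G)) := by
  haveI : Fintype (P : Subgroup G) := Fintype.ofFinite _
  haveI : Fintype V := Fintype.ofFinite _
  haveI : Fintype (Subgroup.normalizer ((P : Subgroup G) : Set G)) := Fintype.ofFinite _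
  haveI : Fintype ((P : Subgroup G) →* ℂˣ) := Fintype.ofFinite _
  obtain ⟨y, hy⟩ := exists_ne_one_P K
  have hy1 : (y : G) ≠ 1 := fun h => hy (Subtype.ext h)
  have hm : (y : G) * u ∈ Subgroup.centralizer ({u} : Set G) := by
    have hc : (y : G) * u = u * y := K.D.pv _ y.2 _ hu
    rw [Subgroup.mem_centralizer_singleton_iff, ← mul_assoc, ← hc]
  have h1 := Subgroup.orderOf_dvd_natCard _ hm
  rwa [(show Commute (y : G) u from K.D.pv _ y.2 _ hu).orderOf_mul_eq_mul_orderOf_of_coprime
    (by rw [orderOf_P K y.2 hy1, ho]; exact (Nat.coprime_primes Fact.out Nat.prime_two).2 hp2),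
    orderOf_P K y.2 hy1, ho, mul_comm] at h1

/-- The centralizer of an involution in a complement of order four at seven. -/
theorem cent_seven [Fact (Nat.Prime 7)] {P : Sylow 7 G} {V : Subgroup G}
    (K : Conf 7 (P : Subgroup G) V (Subgroup.normalizer ((P : Subgroup G) : Set G)) 6)
    (hV : Nat.card V = 4) {u : G} (hu : u ∈ V) (ho : orderOf u = 2) :
    ∃ k n : ℕ, k ∣ 6 ∧ n % 7 = 1 ∧ Nat.card (Subgroup.centralizer ({u} : Set G)) = 28 * k * n := by
  haveI : Fintype (P : Subgroup G) := Fintype.ofFinite _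
  haveI : Fintype V := Fintype.ofFinite _
  haveI : Fintype (Subgroup.normalizer ((P : Subgroup G) : Set G)) := Fintype.ofFinite _
  haveI : Fintype ((P : Subgroup G) →* ℂˣ) := Fintype.ofFinite _
  set H := Subgroup.centralizer ({u} : Set G) with hH
  have hab : ∀ a ∈ V, a * u = u * a := fun a ha => by
    haveI : Fact (Nat.Prime 2) := ⟨Nat.prime_two⟩
    have h := (IsPGroup.isMulCommutative_of_card_eq_prime_sq (p := 2) (G := V) (by rw [hV]; norm_num)).is_comm.comm
      ⟨a, ha⟩ ⟨u, hu⟩
    exact congrArg Subtype.val h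
  have hPH : (P : Subgroup G) ≤ H := fun y hy => by
    rw [hH, Subgroup.mem_centralizer_singleton_iff]
    exact K.D.pv _ hy _ hu
  have hCH : Subgroup.centralizer ((P : Subgroup G) : Set G) ≤ H := fun x hx => by
    obtain ⟨y, hy, v, hv, rfl⟩ := (K.hC x).1 hx
    exact H.mul_mem (hPH hy) (by rw [hH, Subgroup.mem_centralizer_singleton_iff]; exact hab v hv)
  set N := Subgroup.normalizer ((P : Subgroup G) : Set G) with hN
  have hCN : Subgroup.centralizer ((P : Subgroup G) : Set G) ≤ N ⊓ H :=
    le_inf (Subgroup.centralizer_le_normalizer _) hCH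
  obtain ⟨k, hk⟩ := Subgroup.card_dvd_of_le hCN
  rw [card_centralizer K, hV] at hk
  have hk6 : k ∣ 6 := by
    have h := Subgroup.card_dvd_of_le (inf_le_left : N ⊓ H ≤ N)
    rw [hk, K.D.hcard, K.hP, hV] at h
    obtain ⟨j, hj⟩ := h
    exact ⟨j, by nlinarith⟩
  have hn := card_sylow_modEq_one 7 H
  rw [(P.subtype hPH).card_eq_index_normalizer] at hn
  have hidx := (Subgroup.normalizer ((P.subtype hPH : Subgroup H) : Set H)).index_mul_card
  have hcard : Nat.card (Subgroup.normalizer ((P.subtype hPH : Subgroup H) : Set H)) = 7 * 4 * k := by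
    rw [Sylow.coe_subtype, ← Subgroup.subgroupOf_normalizer_eq hPH, ← Subgroup.inf_subgroupOf_right,
      Nat.card_congr (Subgroup.subgroupOfEquivOfLe inf_le_right).toEquiv, ← hk]
  rw [hcard] at hidx
  exact ⟨k, (Subgroup.normalizer ((P.subtype hPH : Subgroup H) : Set H)).index, hk6,
    Nat.mod_eq_of_modEq hn (by norm_num), by rw [← hidx]; ring⟩

variable [IsSimpleGroup G] (hG : Nat.card G = 443520)

include hG

/-- The centralizers of the elements of order eleven. -/
theorem cent_eleven : ∀ z : G, orderOf z = 11 → Nat.card (Subgroup.centralizer ({z} : Set G)) = 11 := by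
  intro z hz
  haveI : Fact (Nat.Prime 11) := ⟨by norm_num⟩
  obtain ⟨P, V, K, hV⟩ := eleven_normalizer hG
  rw [cent_card K hz, hV, mul_one]

theorem cent_dvd {s : G} (hs : orderOf s = 2) :
    Nat.card (Subgroup.centralizer ({s} : Set G)) ∣ 40320 ∧
      ¬ 11 ∣ Nat.card (Subgroup.centralizer ({s} : Set G)) := by
  haveI : Fact (Nat.Prime 11) := ⟨by norm_num⟩
  have h11 := not_dvd_cent Nat.prime_two (by norm_num) (cent_eleven hG) hs
  refine ⟨?_, h11⟩
  have h : Nat.card (Subgroup.centralizer ({s} : Set G)) ∣ 11 * 40320 := by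
    rw [show 11 * 40320 = 443520 from rfl, ← hG]; exact Subgroup.card_subgroup_dvd_card _
  exact (((Nat.Prime.coprime_iff_not_dvd (by norm_num)).2 h11).symm).dvd_of_dvd_mul_left h

/-- A central involution. -/
theorem exists_central : ∃ s : G, orderOf s = 2 ∧
    Nat.card (Subgroup.centralizer ({s} : Set G)) ∈ Engine.centralOrders := by
  haveI : Fact (Nat.Prime 2) := ⟨Nat.prime_two⟩
  obtain ⟨S⟩ : Nonempty (Sylow 2 G) := inferInstance
  have hS : Nat.card S = 128 := by
    rw [S.card_eq_multiplicity, hG, show (443520 : ℕ) = 2 ^ 7 * 3465 by norm_num,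
      Nat.factorization_mul (by norm_num) (by norm_num), Finsupp.add_apply, Nat.factorization_pow_self Nat.prime_two,
      Nat.factorization_eq_zero_of_not_dvd (by norm_num : ¬ 2 ∣ 3465)]
    rfl
  haveI : Nontrivial S := Finite.one_lt_card_iff_nontrivial.1 (by rw [hS]; norm_num)
  haveI := S.isPGroup'.center_nontrivial
  obtain ⟨k, hk0, hk⟩ := (S.isPGroup'.to_subgroup (Subgroup.center S)).nontrivial_iff_card.1 inferInstance
  obtain ⟨z, hz⟩ := exists_prime_orderOf_dvd_card' (G := Subgroup.center S) 2
    (by rw [hk]; exact dvd_pow_self _ (by omega))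
  set s : G := ((z : S) : G) with hs
  have hso : orderOf s = 2 := by rw [hs, Subgroup.orderOf_coe, Subgroup.orderOf_coe, hz]
  have hle : (S : Subgroup G) ≤ Subgroup.centralizer ({s} : Set G) := fun x hx => by
    rw [Subgroup.mem_centralizer_singleton_iff]
    exact congrArg Subtype.val (Subgroup.mem_center_iff.1 z.2 ⟨x, hx⟩)
  refine ⟨s, hso, ?_⟩
  obtain ⟨j, hj⟩ := Subgroup.card_dvd_of_le hle
  rw [hS] at hj
  obtain ⟨hd, -⟩ := cent_dvd hG hso
  have hj0 : 0 < j := Nat.pos_of_ne_zero fun h => by
    rw [h, mul_zero] at hj; exact Nat.card_pos.ne' hj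
  have hle' := Nat.le_of_dvd (by norm_num) hd
  have h := List.all_eq_true.1 central_check j (List.mem_range.2 (by omega))
  rw [hj]
  have e1 : Nat.beq j 0 = false := by rw [← Bool.not_eq_true, Nat.beq_eq]; omega
  have e2 : Nat.beq (40320 % (128 * j)) 0 = true := by
    rw [Nat.beq_eq]; rw [hj] at hd; exact Nat.mod_eq_zero_of_dvd hd
  simpa [e1, e2] using h

/-- The configurations at five and seven are listed. -/
theorem cfg_mem {p : ℕ} [Fact p.Prime] (hp : p = 5 ∨ p = 7) :
    ∃ (P : Sylow p G) (V : Subgroup G) (e : ℕ),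
      Conf p (P : Subgroup G) V (Subgroup.normalizer ((P : Subgroup G) : Set G)) e ∧
      (e, Nat.card V) ∈ (if Nat.beq p 5 then Engine.cfgFive else Engine.cfgSeven) := by
  haveI : Fact (Nat.Prime 11) := ⟨by norm_num⟩
  obtain ⟨P, V, e, K, he, n, hn1, hnp, hn⟩ := exists_config hG (p := p)
    (by rcases hp with rfl | rfl <;> norm_num) (by rcases hp with rfl | rfl <;> norm_num)
  refine ⟨P, V, e, K, ?_⟩
  have h11 : ¬ 11 ∣ Nat.card V := not_dvd_complement (by omega) K (cent_eleven hG)
  have he0 : 0 < e := Nat.pos_of_ne_zero fun h => by rw [h] at hn; simp at hn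
  have hv0 : 0 < Nat.card V := Nat.card_pos
  have hev : e * Nat.card V ∣ 443520 / p := by
    have : p * (n * (e * Nat.card V)) = 443520 := by rw [← hn]; ring
    exact ⟨n, by rw [← this, Nat.mul_div_cancel_left _ (by omega), mul_comm]⟩
  have hnq : 443520 / p / (e * Nat.card V) = n := by
    rw [Nat.div_div_eq_div_mul, ← hn, show p * (e * Nat.card V) = e * (p * Nat.card V) by ring,
      Nat.mul_div_cancel _ (Nat.mul_pos he0 (Nat.mul_pos (by omega) hv0))]
  have he11 : ¬ 11 ∣ e := fun h => by
    have := Nat.le_of_dvd he0 h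
    have := Nat.le_of_dvd (by omega) he
    omega
  have hcop : Nat.Coprime (e * Nat.card V) 11 := by
    refine Nat.Coprime.mul_left ?_ ?_ <;>
      exact ((Nat.Prime.coprime_iff_not_dvd (by norm_num)).2 (by assumption)).symm
  rcases hp with rfl | rfl
  · have he' : e ∈ ([1, 2, 4] : List ℕ) := by
      have := Nat.le_of_dvd (by norm_num) he
      interval_cases e <;> first | (simp; done) | (exfalso; omega)
    have hd : e * Nat.card V ∣ 8064 := hcop.dvd_of_dvd_mul_right (by simpa using hev)
    have hle : Nat.card V ≤ 8064 := Nat.le_of_dvd (by norm_num) (dvd_trans (dvd_mul_left _ _) hd)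
    have h := List.all_eq_true.1 (cfg_five_check e he') (Nat.card V) (List.mem_range.2 (by omega))
    simp only [Bool.or_eq_true, Nat.beq_eq, Bool.not_eq_true', ← Bool.not_eq_true,
      show (443520 : ℕ) / 5 = 88704 by norm_num] at h hnq
    rw [if_pos (by rw [Nat.beq_eq])]
    rcases h with ((h | h) | h) | h
    · exact absurd h (Nat.mul_pos hv0 he0).ne'
    · exact absurd (Nat.mod_eq_zero_of_dvd hd) h
    · exact absurd (hnq ▸ hnp) h
    · exact List.contains_iff_mem.1 h
  · have he' : e ∈ ([1, 2, 3, 6] : List ℕ) := by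
      have := Nat.le_of_dvd (by norm_num) he
      interval_cases e <;> first | (simp; done) | (exfalso; omega)
    have hd : e * Nat.card V ∣ 5760 := hcop.dvd_of_dvd_mul_right (by simpa using hev)
    have hle : Nat.card V ≤ 5760 := Nat.le_of_dvd (by norm_num) (dvd_trans (dvd_mul_left _ _) hd)
    have h := List.all_eq_true.1 (cfg_seven_check e he') (Nat.card V) (List.mem_range.2 (by omega))
    simp only [Bool.or_eq_true, Nat.beq_eq, Bool.not_eq_true', ← Bool.not_eq_true,
      show (443520 : ℕ) / 7 = 63360 by norm_num] at h hnq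
    rw [if_neg (by rw [Nat.beq_eq]; norm_num)]
    rcases h with ((h | h) | h) | h
    · exact absurd h (Nat.mul_pos hv0 he0).ne'
    · exact absurd (Nat.mod_eq_zero_of_dvd hd) h
    · exact absurd (hnq ▸ hnp) h
    · exact List.contains_iff_mem.1 h

end Cfsg.Agent.M22Uniq
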