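import Cfsg.Agent.Lib.M22Uniq.Search
import Cfsg.Agent.Lib.M22Uniq.ElevenSearch
import Cfsg.Agent.Lib.M12Uniq.DegreeSearch

/-!
The search over the principal blocks at eleven, five and seven of a simple group of order 443520,
evaluated at involutions.
-/

namespace Cfsg.Agent.M22Uniq.Engine

open Cfsg.Agent.M22Uniq

/-- A column at an involution: the order of the centralizer with degrees and values. -/
abbrev Column := ℕ × List (ℕ × ℤ)

/-- The sign of a degree modulo a prime. -/
def sgn (p d : ℕ) : ℤ := if Nat.beq (d % p) 1 then 1 else -1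

/-- The conditions on one value. -/
def okVal (i f m : ℕ) (a : ℤ) : Bool :=
  Nat.blt a.natAbs f && Nat.beq (((f : ℤ) - a).natAbs % m) 0 && Nat.beq ((i * a.natAbs) % f) 0

/-- The possible values with the given bound on the square. -/
def vals (i f m R : ℕ) : List ℤ :=
  let b := Nat.sqrt R
  ((List.range (2 * b + 1)).map fun k : ℕ => (k : ℤ) - (b : ℤ)).filter (okVal i f m)

/-- All choices of values with bounded norm. -/
def prods (C : ℕ) : List (ℕ × List ℤ) → ℕ → List (List ℤ)
  | [], _ => [[]]
  | (w, l) :: ls, q => l.flatMap fun a =>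
      let q' := q + w * (a.natAbs * a.natAbs)
      if Nat.ble q' C then (prods C ls q').map (a :: ·) else []

/-- The signed sum of values. -/
def lin (p : ℕ) : List ℕ → List ℤ → ℤ
  | d :: ds, a :: as => sgn p d * a + lin p ds as
  | _, _ => 0

/-- The signed sum of the squares over the degrees, as a numerator and a denominator. -/
def quad (p : ℕ) : List ℕ → List ℤ → ℤ × ℕ
  | d :: ds, a :: as =>
      let r := quad p ds as
      (r.1 * d + sgn p d * (a * a) * r.2, r.2 * d)
  | _, _ => (1, 1)

/-- The norm of a column. -/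
def normKn (kn : List (ℕ × ℤ)) : ℕ := 1 + (kn.map fun z => z.2.natAbs * z.2.natAbs).sum

/-- The columns of the principal block at eleven. -/
def rowsEleven (c : List ℕ) (t : ℕ) (dl : ℤ) (m : ℕ → ℕ) (C : ℕ) : List Column :=
  let i := 443520 / C
  (prods C (c.map fun d => (1, vals i d (m d) C)) 1).filterMap fun as =>
    let e := -dl * (1 + lin 11 c as)
    let w := quad 11 c as
    if okVal i t (m t) e &&
        Nat.ble (1 + (as.map fun a => a.natAbs * a.natAbs).sum + 2 * (e.natAbs * e.natAbs)) C &&
        (w.1 * t + dl * (e * e) * w.2 == 0)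
    then some (C, c.zip as ++ [(t, e), (t, e)]) else none

/-- A principal block: the degrees in the first family and the degree in the second. -/
abbrev Tup := List ℕ × ℕ

/-- The sign of the second family. -/
def dlt (p : ℕ) (tp : Tup) : ℤ :=
  if 0 < 1 + (tp.1.map fun d => sgn p d * (d : ℤ)).sum then -1 else 1

/-- A square test. -/
def isSq (z : ℕ) : Bool := Nat.beq (Nat.sqrt z * Nat.sqrt z) z

/-- The condition on the number of pairs. -/
def countOK (p e v C : ℕ) (num : ℤ) (den : ℕ) : Bool :=
  if Nat.beq (e % 2) 1 then num == 0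
  else decide (0 ≤ num) && Nat.beq ((443520 * v * num.natAbs) % (p * (C * C) * den)) 0 &&
    isSq ((443520 * v * num.natAbs) / (p * (C * C) * den))

/-- The extensions of a column by a principal block. -/
def ext (p e v : ℕ) (closed : ℕ → Bool) (cong : Bool) (tp : Tup) (r : Column) : List Column :=
  let C := r.1
  let i := 443520 / C
  let q0 := normKn r.2
  let ny := (p - 1) / e
  let opts : ℕ → List ℤ := fun d =>
    (if closed d then (r.2.filter fun z => Nat.beq z.1 d).map (·.2) else vals i d 4 (C - q0)).filter
      fun a => !cong || Nat.beq (((d : ℤ) - a).natAbs % p) 0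
  let dl := dlt p tp
  let ws := tp.1.map fun d => ((if closed d then 0 else 1 : ℕ), opts d)
  (prods C ws q0).filterMap fun as =>
    let a := -dl * (1 + lin p tp.1 as)
    let q := q0 + (List.zipWith (fun wl (b : ℤ) => wl.1 * (b.natAbs * b.natAbs)) ws as).sum
    let w := quad p tp.1 as
    if ((if closed tp.2 then (r.2.filter fun z => Nat.beq z.1 tp.2).any fun z => z.2 == a
          else okVal i tp.2 4 a) &&
        (!cong || Nat.beq (((tp.2 : ℤ) - a).natAbs % p) 0) &&
        Nat.ble (q + (if closed tp.2 then 0 else ny) * (a.natAbs * a.natAbs)) C &&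
        countOK p e v C (w.1 * tp.2 + dl * (a * a) * w.2) (w.2 * tp.2))
    then some (C, r.2 ++ ((tp.1.zip as ++ List.replicate ny (tp.2, a)).filter fun z => !(closed z.1)))
    else none

/-- The degrees of all the characters. -/
def allDegs : List ℕ :=
  (List.range 666).filter fun d => Nat.ble 2 d && Nat.beq (443520 % d) 0

/-- The members of a block. -/
def members (p e : ℕ) (tp : Tup) : List ℕ := tp.1 ++ List.replicate ((p - 1) / e) tp.2

/-- The possible principal blocks. -/
def tuples (p e v : ℕ) (closed : ℕ → Bool) (degs : List ℕ) : List Tup :=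
  let i := 443520 / (p * v)
  let ny := (p - 1) / e
  let pool := allDegs.filter fun d => !(closed d) || degs.contains d
  let xs := pool.filter fun d => (Nat.beq (d % p) 1 || Nat.beq (d % p) (p - 1)) && Nat.beq (i % d) 0
  let ys := pool.filter fun d => Nat.beq (d % p) (e % p) || Nat.beq (d % p) ((p - e) % p)
  (M12Uniq.multiCombos xs (e - 1)).filterMap fun fs =>
    let x := (1 + (fs.map fun d => sgn p d * (d : ℤ)).sum).natAbs
    let mem := fs ++ List.replicate ny x
    if ys.contains x &&
        Nat.beq (((x : ℤ) + dlt p (fs, x) * (e : ℤ)).natAbs % p) 0 &&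
        (!(Nat.beq e (p - 1)) || (fs.all fun d => Nat.ble d x) && Nat.beq (i % x) 0) &&
        Nat.ble (1 + ((degs ++ mem.filter fun d => !(closed d)).map fun d => d * d).sum) 443520 &&
        (mem.all fun d => !(closed d) || Nat.ble (mem.count d) (degs.count d)) &&
        (!(Nat.beq v 1) || degs.all fun d => Nat.beq (d % p) 0 || Nat.ble (degs.count d) (mem.count d))
    then some (fs, x) else none

/-- The configurations at five. -/
def cfgFive : List (ℕ × ℕ) :=
  [(1, 8064), (1, 1344), (1, 504), (1, 384), (1, 224), (1, 144), (1, 84), (1, 64), (1, 24), (1, 14), (1, 9),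
   (1, 4), (2, 4032), (2, 672), (2, 252), (2, 192), (2, 112), (2, 72), (2, 42), (2, 32), (2, 12), (2, 7), (2, 2),
   (4, 2016), (4, 336), (4, 126), (4, 96), (4, 56), (4, 36), (4, 21), (4, 16), (4, 6), (4, 1)]

/-- The configurations at seven. -/
def cfgSeven : List (ℕ × ℕ) :=
  [(1, 2880), (1, 640), (1, 360), (1, 192), (1, 80), (1, 45), (1, 24), (1, 10), (1, 3), (2, 1440), (2, 320),
   (2, 180), (2, 96), (2, 40), (2, 12), (2, 5), (3, 960), (3, 120), (3, 64), (3, 15), (3, 8), (3, 1), (6, 480),
   (6, 60), (6, 32), (6, 4)]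

/-- The sizes of the centralizer of a central involution. -/
def centralOrders : List ℕ := [128, 384, 640, 896, 1152, 1920, 2688, 4480, 5760, 8064, 13440, 40320]

/-- The orders of centralizers of involutions commuting with an element of order `q`. -/
def upOrders (q : ℕ) : List ℕ :=
  ((List.range (40320 / (2 * q) + 1)).map fun k => 2 * q * k).filter fun C =>
    Nat.blt 0 C && Nat.beq (443520 % C) 0 && !(Nat.beq (C % 11) 0)

/-- The columns at the central involution. -/
def sRows (c : List ℕ) (t : ℕ) (dl : ℤ) : List Column := centralOrders.flatMap (rowsEleven c t dl fun _ => 4)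

/-- The columns at an involution commuting with an element of order `q`. -/
def uRows (q : ℕ) (c : List ℕ) (t : ℕ) (dl : ℤ) : List Column :=
  (upOrders q).flatMap (rowsEleven c t dl fun d => if Nat.beq (d % q) 0 then 4 * q else 4)

/-- The degrees closed after the block at eleven. -/
def closed₀ (d : ℕ) : Bool := !(Nat.beq (d % 11) 0)

/-- The degrees closed after a block at `p` with trivial complement. -/
def closed₁ (p d : ℕ) : Bool := !(Nat.beq (d % 11) 0) || !(Nat.beq (d % p) 0)

/-- The centralizer of an involution in a complement of order four at seven. -/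
def okOrder (q e v C : ℕ) : Bool :=
  !(Nat.beq q 7 && Nat.beq e 6 && Nat.beq v 4) ||
    (Nat.beq (C % 28) 0 && ([1, 2, 3, 6].any fun k => Nat.beq (C / 28 % k) 0 && Nat.beq (C / 28 / k % 7) 1))

/-- The remaining case. -/
def target : List ℕ × ℕ × Tup × Tup × Column :=
  ([21, 45, 45, 210], 280, ([55, 99], 45), ([21, 99, 154], 231),
   (384, [(21, 5), (45, -3), (45, -3), (210, 2), (280, -8), (280, -8), (55, 7), (99, 3), (154, 10), (231, 7)]))

/-- The check for the second prime. -/
def secondOK (p q : ℕ) (c : List ℕ) (t : ℕ) (dl : ℤ) (e : ℕ) (tp : Tup) (R : List Column) : Bool :=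
  let degs := c ++ [t, t] ++ (members p e tp).filter fun d => !(closed₀ d)
  (if Nat.beq q 5 then cfgFive else cfgSeven).all fun cf =>
    Nat.beq (cf.2 % p) 0 ||
    (tuples q cf.1 cf.2 (closed₁ p) degs).all fun t2 =>
      if Nat.beq (cf.2 % 2) 0 then
        ((uRows q c t dl).filter fun r => !(Nat.beq (r.1 % p) 0) && okOrder q cf.1 cf.2 r.1).all fun r =>
          (ext p e 1 closed₀ false tp r).all fun r' =>
            (ext q cf.1 cf.2 (closed₁ p) true t2 r').isEmpty
      else
        R.all fun r => (ext q cf.1 cf.2 (closed₁ p) false t2 r).all fun r' =>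
          Nat.beq p 7 && Nat.beq e 3 && Nat.beq cf.1 4 && Nat.beq cf.2 1 &&
            (c, t, tp, t2, r') == target

/-- The check for the first prime. -/
def firstOK (p q : ℕ) (c : List ℕ) (t : ℕ) (dl : ℤ) : Bool :=
  (if Nat.beq p 5 then cfgFive else cfgSeven).all fun cf =>
    if Nat.beq (cf.2 % 2) 0 then
      (uRows p c t dl).all fun r => (tuples p cf.1 cf.2 closed₀ (c ++ [t, t])).all fun tp =>
        (ext p cf.1 cf.2 closed₀ true tp r).isEmpty
    else
      (tuples p cf.1 cf.2 closed₀ (c ++ [t, t])).all fun tp =>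
        let R := (sRows c t dl).flatMap (ext p cf.1 cf.2 closed₀ false tp)
        R.isEmpty || (Nat.beq cf.2 1 && secondOK p q c t dl cf.1 tp R)

/-- The patterns for which the prime seven comes first. -/
def sevenFirst (c : List ℕ) (t : ℕ) : Bool :=
  ([([21, 21, 21, 56], 6), ([21, 21, 32, 32], 105), ([21, 21, 45, 56], 60), ([21, 21, 56, 120], 105),
    ([21, 21, 320, 384], 105), ([21, 32, 32, 210], 126), ([21, 32, 32, 252], 336), ([21, 32, 56, 56], 60),
    ([21, 45, 45, 56], 126), ([21, 45, 45, 210], 280), ([21, 56, 120, 210], 126), ([21, 56, 120, 252], 336),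
    ([21, 210, 210, 384], 16), ([21, 210, 320, 384], 126), ([56, 120, 210, 252], 105)] :
    List (List ℕ × ℕ)).contains (c, t)

/-- The check for a pattern at eleven. -/
def caseOK (c : List ℕ) : Bool :=
  let s := 1 + (c.map fun d => sgn 11 d * (d : ℤ)).sum
  let t := s.natAbs
  let dl : ℤ := if 0 < s then -1 else 1
  !(Nat.ble 2 t && tDegs.contains t && Nat.beq (((t : ℤ) + dl * 5).natAbs % 11) 0 &&
      Nat.ble (1 + (c.map fun d => d * d).sum + 2 * (t * t)) 443520) ||
    (sRows c t dl).isEmpty ||
    if sevenFirst c t then firstOK 7 5 c t dl else firstOK 5 7 c t dl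

end Cfsg.Agent.M22Uniq.Engine
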