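import Cfsg.Agent.Lib.M22Uniq.Setup
import Cfsg.Agent.Lib.M22Uniq.Invert
import Cfsg.Agent.Lib.M22Uniq.Engine
import Cfsg.Agent.Lib.M12Uniq.Congr

/-!
The principal block at a prime dividing the order once, in the form used by the search.
-/

set_option linter.unusedSectionVars false
set_option linter.style.haveILetI false

namespace Cfsg.Agent.M22Uniq

open Cfsg Cfsg.Agent.Char Cfsg.Agent.Blocks Cfsg.Agent.CCSylow Cfsg.Agent.DefOne

open scoped ComplexConjugate

universe u

variable {G : Type u} [Group G] [Fintype G]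

/-- A character at an element of square one is a rational integer. -/
theorem exists_int_of_sq {χ : G → ℂ} (hχ : IsCharacter G χ) {t : G} (ht : t * t = 1) :
    ∃ a : ℤ, χ t = a := by
  obtain ⟨n, ρ, rfl⟩ := hχ
  obtain ⟨k, -, h, -⟩ := M12Uniq.trace_det_involution (ρ t) (by rw [← map_mul, ht, map_one])
  exact ⟨(Module.finrank ℂ (Fin n → ℂ) : ℤ) - 2 * k, by rw [Representation.character, h]; push_cast; rfl⟩

/-- Sums over an enumeration of a finite set. -/
theorem list_sum_eq {α β : Type*} [AddCommMonoid β] {l : List α} {S : Finset α}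
    (h : (↑l : Multiset α) = S.val) (f : α → β) : (l.map f).sum = ∑ a ∈ S, f a := by
  rw [← Multiset.sum_coe, ← Multiset.map_coe, h]
  rfl

/-- The data of the principal block at a prime dividing the order once. -/
structure Blk (p e : ℕ) (V : Subgroup G) (tp : Engine.Tup) (cs ths : List (IrrCharacter G)) : Prop where
  nodup : (cs ++ ths).Nodup
  ne_principal : ∀ χ ∈ cs ++ ths, χ ≠ principal G
  degX : cs.map (fun χ : IrrCharacter G => charDegree (χ : G → ℂ)) = tp.1
  degY : ths.map (fun χ : IrrCharacter G => charDegree (χ : G → ℂ)) = List.replicate ((p - 1) / e) tp.2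
  nonempty : ths ≠ []
  len : tp.1.length = e - 1
  sorted : tp.1.Pairwise (· ≤ ·)
  modX : ∀ d ∈ tp.1, (d % p = 1 ∨ d % p = p - 1) ∧ 443520 / (p * Nat.card V) % d = 0
  modY : (tp.2 % p = e % p ∨ tp.2 % p = (p - e) % p) ∧
    ((tp.2 : ℤ) + Engine.dlt p tp * (e : ℤ)).natAbs % p = 0
  last : e = p - 1 → (∀ d ∈ tp.1, d ≤ tp.2) ∧ 443520 / (p * Nat.card V) % tp.2 = 0
  deg_eq : tp.2 = (1 + (tp.1.map fun d => Engine.sgn p d * (d : ℤ)).sum).natAbs
  others : Nat.card V = 1 → ∀ χ : IrrCharacter G, χ ≠ principal G → χ ∉ cs ++ ths →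
    p ∣ charDegree (χ : G → ℂ)
  relation : ∀ g : G, ¬ p ∣ orderOf g → ∀ θ ∈ ths,
    1 + (cs.map fun χ : IrrCharacter G =>
      (Engine.sgn p (charDegree (χ : G → ℂ)) : ℂ) * (χ : G → ℂ) g).sum +
      (Engine.dlt p tp : ℂ) * (θ : G → ℂ) g = 0
  count : ∀ s : G, orderOf s = 2 → ∀ θ ∈ ths, ∃ k : ℕ, (Odd e → k = 0) ∧
    (p : ℂ) * ((k : ℂ) * k) * ((Nat.card (Subgroup.centralizer ({s} : Set G)) : ℂ) *
      Nat.card (Subgroup.centralizer ({s} : Set G))) = 443520 * (Nat.card V : ℂ) *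
      (1 + (cs.map fun χ : IrrCharacter G => (Engine.sgn p (charDegree (χ : G → ℂ)) : ℂ) *
        ((χ : G → ℂ) s * (χ : G → ℂ) s) / (charDegree (χ : G → ℂ) : ℂ)).sum +
      (Engine.dlt p tp : ℂ) * ((θ : G → ℂ) s * (θ : G → ℂ) s) / (tp.2 : ℂ))
  congr : ∀ u ∈ V, orderOf u = 2 → ∀ χ ∈ cs ++ ths, ∀ a : ℤ, (χ : G → ℂ) u = a →
    (p : ℤ) ∣ (charDegree (χ : G → ℂ) : ℤ) - a

section Prime

variable {p : ℕ} [Fact p.Prime] {P : Sylow p G} {V : Subgroup G} {e : ℕ}
  (K : Conf p (P : Subgroup G) V (Subgroup.normalizer ((P : Subgroup G) : Set G)) e)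

include K

/-- The value at an involution of the complement of a character constant on the sections. -/
theorem congr_of_const {χ : IrrCharacter G} {u : G} (hu : u ∈ V) (ho : orderOf u = 2)
    (h : ∀ y ∈ (P : Subgroup G), y ≠ 1 → (χ : G → ℂ) (y * u) = (χ : G → ℂ) y) {a : ℤ}
    (ha : (χ : G → ℂ) u = a) : (p : ℤ) ∣ (charDegree (χ : G → ℂ) : ℤ) - a := by
  classical
  haveI : Fintype (P : Subgroup G) := Fintype.ofFinite _
  obtain ⟨ψ, hψ, hv⟩ := M12Uniq.exists_fixed_character (IsIrrCharacter.isCharacter χ.2) (P : Subgroup G) V K.D.pv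
  have huu : (⟨u, hu⟩ : V) * ⟨u, hu⟩ = 1 := Subtype.ext (show u * u = 1 by
    rw [← pow_two, ← ho, pow_orderOf_eq_one])
  obtain ⟨a₁, h₁⟩ := exists_int_of_sq hψ huu
  obtain ⟨a₀, h₀⟩ := exists_int_of_sq hψ (t := 1) (one_mul 1)
  have e1 := hv ⟨u, hu⟩
  have e0 := hv 1
  rw [← Finset.add_sum_erase _ _ (Finset.mem_univ (1 : (P : Subgroup G))), K.hP] at e1 e0
  simp only [OneMemClass.coe_one, one_mul, mul_one, ha, h₁, h₀, irr_one_eq_charDegree] at e1 e0
  rw [Finset.sum_congr rfl fun y hy => h _ y.2 fun h' => Finset.ne_of_mem_erase hy (Subtype.ext h')] at e1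
  refine ⟨a₀ - a₁, ?_⟩
  have : ((((charDegree (χ : G → ℂ) : ℤ) - a : ℤ)) : ℂ) = (((p : ℤ) * (a₀ - a₁) : ℤ) : ℂ) := by
    push_cast
    linear_combination e0 - e1
  exact_mod_cast this

/-- The value at an involution of the complement of a character of degree divisible by the prime. -/
theorem dvd_val {χ : IrrCharacter G} (hd : p ∣ charDegree (χ : G → ℂ)) {u : G} (hu : u ∈ V)
    (ho : orderOf u = 2) {a : ℤ} (ha : (χ : G → ℂ) u = a) : (p : ℤ) ∣ a := by
  classical
  haveI : Fintype (P : Subgroup G) := Fintype.ofFinite _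
  haveI : Fintype V := Fintype.ofFinite _
  haveI : Fintype (Subgroup.normalizer ((P : Subgroup G) : Set G)) := Fintype.ofFinite _
  haveI : Fintype ((P : Subgroup G) →* ℂˣ) := Fintype.ofFinite _
  obtain ⟨M, hM⟩ := exists_isPModular_witness p
  haveI := IsPModular.isPrime hM
  obtain ⟨ψ, hψ, hv⟩ := M12Uniq.exists_fixed_character (IsIrrCharacter.isCharacter χ.2) (P : Subgroup G) V K.D.pv
  have huu : (⟨u, hu⟩ : V) * ⟨u, hu⟩ = 1 := Subtype.ext (show u * u = 1 by
    rw [← pow_two, ← ho, pow_orderOf_eq_one])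
  obtain ⟨a₁, h₁⟩ := exists_int_of_sq hψ huu
  have e1 := hv ⟨u, hu⟩
  rw [← Finset.add_sum_erase _ _ (Finset.mem_univ (1 : (P : Subgroup G))), K.hP,
    Finset.sum_eq_zero fun y hy => section_zero_of_dvd K hM hd (Finset.ne_of_mem_erase hy) ⟨u, hu⟩,
    OneMemClass.coe_one, one_mul, add_zero] at e1
  refine ⟨a₁, ?_⟩
  have : ((a : ℤ) : ℂ) = (((p : ℤ) * a₁ : ℤ) : ℂ) := by
    rw [← ha, e1, h₁]; push_cast; rfl
  exact_mod_cast this

variable [IsSimpleGroup G] (hG : Nat.card G = 443520)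

include hG

set_option maxHeartbeats 1600000 in
/-- The principal block at a prime dividing the order once. -/
theorem exists_blk (hp2 : 2 < p) :
    ∃ (tp : Engine.Tup) (cs ths : List (IrrCharacter G)), Blk p e V tp cs ths := by
  classical
  haveI : Fintype (P : Subgroup G) := Fintype.ofFinite _
  haveI : Fintype V := Fintype.ofFinite _
  haveI : Fintype (Subgroup.normalizer ((P : Subgroup G) : Set G)) := Fintype.ofFinite _
  haveI : Fintype ((P : Subgroup G) →* ℂˣ) := Fintype.ofFinite _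
  have hp : p.Prime := Fact.out
  obtain ⟨M, hM⟩ := exists_isPModular_witness p
  haveI := IsPModular.isPrime hM
  obtain ⟨eb, X₀, Y₀, δ₀, sg₀, F⟩ := exists_families K hM (trivB V)
  obtain ⟨hXc, hYc, hXd, hYd, hrel, hagree, hprin⟩ := M12Uniq.families_facts hM hp2 K F
  have hB := principal_eq K hM F
  obtain ⟨y, hy⟩ := exists_ne_one_P K
  have hy1 : (y : G) ≠ 1 := fun h => hy (Subtype.ext h)
  have hd1 : charDegree (principal G : G → ℂ) = 1 := Cfsg.Agent.CharX.charDegree_one
  have hedvd : e ∣ p - 1 := ⟨Y₀.card, by rw [← hYc, mul_comm]⟩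
  have he0 : 0 < e := Nat.pos_of_ne_zero fun h => by rw [h, mul_zero] at hYc; omega
  -- the components
  set q : IrrCharacter G → ℂ := fun χ => phi (χ : G → ℂ) (trivB V) y with hq
  have hphiX : ∀ χ ∈ X₀, q χ = (sg₀ χ : ℂ) := fun χ h => Families.phi_X K F h hy
  have hphi0 : ∀ χ : IrrCharacter G, χ ∉ X₀ ∪ Y₀ → q χ = 0 := fun χ h =>
    phi_not_principal K hM (by rw [hB]; simpa using h) hy
  have hval : ∀ χ : IrrCharacter G, χ ∈ X₀ ∪ Y₀ → (χ : G → ℂ) y = q χ := fun χ h =>
    (phi_principal K hM (by rw [hB]; simpa using h) hy).symm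
  have hsumY : ∑ χ ∈ Y₀, q χ = (δ₀ : ℂ) := by
    obtain ⟨θ, hθ⟩ := F.nonempty
    have horth : ∑ χ : IrrCharacter G, q χ * conj ((χ : G → ℂ) 1) = 0 := by
      simp only [hq, phi, mul_assoc, Finset.sum_mul]
      rw [← Finset.mul_sum, Finset.sum_comm, Finset.sum_eq_zero fun w _ => ?_, mul_zero]
      have h0 : ¬ IsConj ((y : G) * w) 1 := fun h => hy1 (by
        have h1 := isConj_one_left.1 h
        have h2 : (y : G) ∈ V := by rw [eq_inv_of_mul_eq_one_left h1]; exact inv_mem w.2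
        have h3 := Subgroup.orderOf_dvd_natCard V h2
        rw [orderOf_P K y.2 hy1] at h3
        exact absurd h3 K.hV)
      rw [← column_orth_of_not_isConj h0]
      refine Finset.sum_congr rfl fun χ _ => ?_
      rw [show (trivB V : V → ℂ) w = 1 from rfl, map_one, one_mul]
    rw [← Finset.sum_subset (Finset.subset_univ (X₀ ∪ Y₀)) fun χ _ h => by rw [hphi0 χ h, zero_mul],
      Finset.sum_union F.disj, Finset.sum_congr rfl fun χ h => by rw [hphiX χ h],
      Finset.sum_congr (s₁ := Y₀) rfl fun χ h => by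
        rw [irr_one_eq_charDegree χ, hagree χ h θ hθ], ← Finset.sum_mul] at horth
    simp only [irr_one_eq_charDegree, map_natCast] at horth
    have h1 := hrel θ hθ
    have h1' : ∑ χ ∈ X₀, (sg₀ χ : ℂ) * (charDegree (χ : G → ℂ) : ℂ) +
        (δ₀ : ℂ) * (charDegree (θ : G → ℂ) : ℂ) = 0 := by exact_mod_cast h1
    refine mul_right_cancel₀ (Nat.cast_ne_zero.2 (charDegree_pos θ).ne' :
      (charDegree (θ : G → ℂ) : ℂ) ≠ 0) ?_
    linear_combination horth - h1'
  -- the normalised families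
  obtain ⟨X, Y, δ, sg, hU, hdis, hpX, hpsg, hXcard, hYcard, hδ, hsg, hdX, hdY, hqX, hqY, hR, hA, hlast⟩ :
      ∃ (X Y : Finset (IrrCharacter G)) (δ : ℤ) (sg : IrrCharacter G → ℤ), X ∪ Y = X₀ ∪ Y₀ ∧ Disjoint X Y ∧
      principal G ∈ X ∧ sg (principal G) = 1 ∧ X.card = e ∧ Y.card = (p - 1) / e ∧ (δ = 1 ∨ δ = -1) ∧
      (∀ χ ∈ X, sg χ = 1 ∨ sg χ = -1) ∧
      (∀ χ ∈ X, (charDegree (χ : G → ℂ) : ℤ) ≡ sg χ [ZMOD p]) ∧
      (∀ χ ∈ Y, (charDegree (χ : G → ℂ) : ℤ) ≡ -δ * e [ZMOD p]) ∧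
      (∀ χ ∈ X, q χ = (sg χ : ℂ)) ∧ ∑ χ ∈ Y, q χ = (δ : ℂ) ∧
      (∀ θ ∈ Y, ∀ g : G, ¬ p ∣ orderOf g →
        ∑ χ ∈ X, (sg χ : ℂ) * (χ : G → ℂ) g + (δ : ℂ) * (θ : G → ℂ) g = 0) ∧
      (∀ θ ∈ Y, ∀ θ' ∈ Y, ∀ g : G, ¬ p ∣ orderOf g → (θ : G → ℂ) g = (θ' : G → ℂ) g) ∧
      (e = p - 1 → ∀ χ ∈ X.erase (principal G), ∀ θ ∈ Y,
        charDegree (χ : G → ℂ) ≤ charDegree (θ : G → ℂ)) := by
    by_cases he : e = p - 1
    swap
    · obtain ⟨hpX, hpsg⟩ := hprin.resolve_right fun h => by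
        rw [h, Finset.card_singleton, one_mul] at hYc; exact he hYc
      exact ⟨X₀, Y₀, δ₀, sg₀, rfl, F.disj, hpX, hpsg, hXc, by rw [← hYc, Nat.mul_div_cancel _ he0],
        F.sign, F.signX, hXd, hYd, hphiX, hsumY, fun θ hθ g hg => Families.relation K F hθ hg,
        fun θ hθ θ' hθ' g hg => Families.agree K F hθ hθ' hg, fun h => absurd h he⟩
    · obtain ⟨θ₀, hθ₀⟩ : ∃ θ₀, Y₀ = {θ₀} := Finset.card_eq_one.1 (by
        rw [he] at hYc; exact Nat.eq_of_mul_eq_mul_right (by omega) (hYc.trans (one_mul _).symm))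
      have hθX : θ₀ ∉ X₀ := fun h => Finset.disjoint_left.1 F.disj h (by rw [hθ₀]; simp)
      set ε : IrrCharacter G → ℤ := fun χ => if χ ∈ X₀ then sg₀ χ else δ₀ with hε
      have hεY : ε θ₀ = δ₀ := if_neg hθX
      have hεX : ∀ χ ∈ X₀, ε χ = sg₀ χ := fun χ h => if_pos h
      have hU : X₀ ∪ Y₀ = insert θ₀ X₀ := by rw [hθ₀, Finset.union_comm, ← Finset.insert_eq]
      have hεsign : ∀ χ ∈ insert θ₀ X₀, ε χ = 1 ∨ ε χ = -1 := fun χ h => by
        rcases Finset.mem_insert.1 h with rfl | h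
        · rw [hεY]; exact F.sign
        · rw [hεX χ h]; exact F.signX χ h
      have hneg : ∀ δ : ℤ, -δ * (e : ℤ) ≡ δ [ZMOD p] := fun δ => by
        rw [Int.modEq_iff_dvd, he, Nat.cast_sub (by omega)]
        exact ⟨δ, by push_cast; ring⟩
      have hεd : ∀ χ ∈ insert θ₀ X₀, (charDegree (χ : G → ℂ) : ℤ) ≡ ε χ [ZMOD p] := fun χ h => by
        rcases Finset.mem_insert.1 h with rfl | h
        · rw [hεY]; exact (hYd _ (by rw [hθ₀]; simp)).trans (hneg δ₀)
        · rw [hεX χ h]; exact hXd χ h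
      have hεq : ∀ χ ∈ insert θ₀ X₀, q χ = (ε χ : ℂ) := fun χ h => by
        rcases Finset.mem_insert.1 h with rfl | h
        · rw [hθ₀, Finset.sum_singleton] at hsumY
          rw [hεY, hsumY]
        · rw [hεX χ h, hphiX χ h]
      have hεR : ∀ g : G, ¬ p ∣ orderOf g →
          ∑ χ ∈ insert θ₀ X₀, (ε χ : ℂ) * (χ : G → ℂ) g = 0 := fun g hg => by
        rw [Finset.sum_insert hθX, hεY, Finset.sum_congr rfl fun χ h => by rw [hεX χ h], add_comm]
        exact Families.relation K F (by rw [hθ₀]; simp) hg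
      have hpB : principal G ∈ insert θ₀ X₀ := by
        rcases hprin with ⟨h, -⟩ | h
        · exact Finset.mem_insert_of_mem h
        · rw [hθ₀, Finset.singleton_inj] at h; rw [h]; simp
      have hεp : ε (principal G) = 1 := by
        have h := hεd _ hpB
        rw [hd1, Int.modEq_iff_dvd] at h
        rcases hεsign _ hpB with e1 | e1
        · exact e1
        · rw [e1] at h
          exact absurd (Int.le_of_dvd (by norm_num) (dvd_neg.2 h)) (by push_cast; omega)
      have hcard : (insert θ₀ X₀).card = p := by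
        rw [Finset.card_insert_of_notMem hθX, hXc, he]; omega
      obtain ⟨θ, hθ, hmax⟩ := Finset.exists_max_image ((insert θ₀ X₀).erase (principal G))
        (fun χ : IrrCharacter G => charDegree (χ : G → ℂ))
        (Finset.card_pos.1 (by rw [Finset.card_erase_of_mem hpB, hcard]; omega))
      obtain ⟨hθp, hθB⟩ := Finset.mem_erase.1 hθ
      refine ⟨(insert θ₀ X₀).erase θ, {θ}, ε θ, ε, ?_, by simp, Finset.mem_erase.2 ⟨Ne.symm hθp, hpB⟩, hεp,
        by rw [Finset.card_erase_of_mem hθB, hcard, he], by rw [Finset.card_singleton, he, Nat.div_self (by omega)],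
        hεsign θ hθB, fun χ h => hεsign χ (Finset.mem_of_mem_erase h),
        fun χ h => hεd χ (Finset.mem_of_mem_erase h), fun χ h => ?_,
        fun χ h => hεq χ (Finset.mem_of_mem_erase h), by rw [Finset.sum_singleton, hεq θ hθB],
        fun χ h g hg => ?_, fun χ h χ' h' g _ => ?_, fun _ χ h χ' h' => ?_⟩
      · rw [Finset.union_comm, ← Finset.insert_eq, Finset.insert_erase hθB, hU]
      · rw [Finset.mem_singleton.1 h]; exact (hεd θ hθB).trans (hneg _).symm
      · rw [Finset.mem_singleton.1 h, Finset.sum_erase_add _ _ hθB]; exact hεR g hg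
      · rw [Finset.mem_singleton.1 h, Finset.mem_singleton.1 h']
      · rw [Finset.mem_singleton.1 h']
        obtain ⟨h1, h2⟩ := Finset.mem_erase.1 h
        exact hmax χ (Finset.mem_erase.2 ⟨h1, Finset.mem_of_mem_erase h2⟩)
  have hmemB : ∀ χ, χ ∈ X ∨ χ ∈ Y → χ ∈ X₀ ∪ Y₀ := fun χ h => by rw [← hU]; simpa using h
  have hYne : Y.Nonempty := Finset.card_pos.1 (by
    rw [hYcard]; exact Nat.div_pos (Nat.le_of_dvd (by omega) hedvd) he0)
  obtain ⟨θ, hθ⟩ := hYne
  set x := charDegree (θ : G → ℂ) with hx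
  have h1p : ¬ p ∣ orderOf (1 : G) := by simpa using hp.ne_one
  have hxall : ∀ χ ∈ Y, charDegree (χ : G → ℂ) = x := fun χ h => by
    have := hA χ h θ hθ 1 h1p
    rw [irr_one_eq_charDegree, irr_one_eq_charDegree] at this
    exact_mod_cast this
  -- the enumeration
  set fs := ((X.erase (principal G)).val.map fun χ : IrrCharacter G => charDegree (χ : G → ℂ)).sort (· ≤ ·)
    with hfs
  obtain ⟨cs, hcs, hcsm⟩ := M11Local.exists_list_map (fun χ : IrrCharacter G => charDegree (χ : G → ℂ))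
    fs (X.erase (principal G)).val (Multiset.sort_eq _ _).symm
  set ths := Y.toList with hths
  have hmc : ∀ χ, χ ∈ cs ↔ χ ∈ X.erase (principal G) := fun χ => by
    rw [← Finset.mem_val, ← hcs, Multiset.mem_coe]
  have hmt : ∀ χ, χ ∈ ths ↔ χ ∈ Y := fun χ => by rw [hths, Finset.mem_toList]
  have hm1 : (-1 : ℤ) % (p : ℤ) = (p : ℤ) - 1 := by
    rw [← Int.add_emod_right, Int.emod_eq_of_lt (by omega) (by omega)]
    ring
  have hsig : ∀ χ ∈ X, Engine.sgn p (charDegree (χ : G → ℂ)) = sg χ := fun χ h => by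
    have h1 := hdX χ h
    rw [Engine.sgn]
    rcases hsg χ h with e1 | e1 <;> rw [e1, Int.ModEq] at h1 <;> rw [e1]
    · rw [if_pos]
      rw [Nat.beq_eq]
      rw [Int.emod_eq_of_lt (by norm_num : (0 : ℤ) ≤ 1) (by omega)] at h1
      exact_mod_cast h1
    · rw [if_neg]
      rw [Nat.beq_eq]
      intro h2
      rw [← Int.natCast_emod, h2, hm1] at h1
      omega
  have hsumcs : ∀ f : IrrCharacter G → ℂ, (cs.map fun χ : IrrCharacter G =>
      (Engine.sgn p (charDegree (χ : G → ℂ)) : ℂ) * f χ).sum + f (principal G) =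
      ∑ χ ∈ X, (sg χ : ℂ) * f χ := fun f => by
    rw [list_sum_eq hcs, ← Finset.sum_erase_add _ _ hpX, hpsg, Int.cast_one, one_mul,
      Finset.sum_congr rfl fun χ h => by rw [hsig χ (Finset.mem_of_mem_erase h)]]
  have hone := hR θ hθ 1 h1p
  rw [← hsumcs fun χ => (χ : G → ℂ) 1] at hone
  simp only [irr_one_eq_charDegree, hd1] at hone
  have hone' : (1 + (fs.map fun d => Engine.sgn p d * (d : ℤ)).sum) + δ * (x : ℤ) = 0 := by
    have e1 : ((fs.map fun d => Engine.sgn p d * (d : ℤ)).sum : ℂ) = (cs.map fun χ : IrrCharacter G =>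
        (Engine.sgn p (charDegree (χ : G → ℂ)) : ℂ) * (charDegree (χ : G → ℂ) : ℂ)).sum := by
      rw [← hcsm, Int.cast_list_sum, List.map_map, List.map_map]
      congr 1
      refine List.map_congr_left fun χ _ => ?_
      simp
    have : (((1 + (fs.map fun d => Engine.sgn p d * (d : ℤ)).sum) + δ * (x : ℤ) : ℤ) : ℂ) = ((0 : ℤ) : ℂ) := by
      push_cast
      rw [← Int.cast_list_sum, e1]
      linear_combination hone
    exact_mod_cast this
  have hx0 : 0 < x := charDegree_pos θ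
  have hdlt : Engine.dlt p (fs, x) = δ := by
    simp only [Engine.dlt]
    rcases hδ with e1 | e1 <;> rw [e1] at hone' ⊢
    · rw [if_neg (by omega)]
    · rw [if_pos (by omega)]
  have hidx : ∀ χ : IrrCharacter G, ∀ a : ℤ, (χ : G → ℂ) y = a → (a = 1 ∨ a = -1) →
      443520 / (p * Nat.card V) % charDegree (χ : G → ℂ) = 0 := fun χ a ha h1 => by
    have h := M12Uniq.dvd_index_mul χ ha
    have h2 : (Subgroup.centralizer ({(y : G)} : Set G)).index = 443520 / (p * Nat.card V) := by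
      rw [← cent_card K (orderOf_P K y.2 hy1), ← hG, ← Subgroup.index_mul_card
        (Subgroup.centralizer ({(y : G)} : Set G)), Nat.mul_div_cancel _ Nat.card_pos]
    rw [h2] at h
    refine Nat.mod_eq_zero_of_dvd ?_
    have := Int.natAbs_dvd_natAbs.2 h
    rw [Int.natAbs_mul, Int.natAbs_natCast, Int.natAbs_natCast] at this
    rcases h1 with rfl | rfl <;> simpa using this
  refine ⟨(fs, x), cs, ths, ?_⟩
  refine
    { nodup := ?_, ne_principal := ?_, degX := hcsm, degY := ?_, nonempty := ?_, len := ?_, sorted := ?_,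
      modX := ?_, modY := ?_, last := ?_, deg_eq := ?_, others := ?_, relation := ?_, count := ?_, congr := ?_ }
  · rw [List.nodup_append]
    refine ⟨by rw [← Multiset.coe_nodup, hcs]; exact Finset.nodup _, Finset.nodup_toList _, ?_⟩
    intro a ha b hb hab
    subst hab
    exact Finset.disjoint_left.1 hdis (Finset.mem_of_mem_erase ((hmc a).1 ha)) ((hmt a).1 hb)
  · intro χ hχ h
    rcases List.mem_append.1 hχ with h' | h'
    · exact Finset.ne_of_mem_erase ((hmc χ).1 h') h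
    · exact Finset.disjoint_left.1 hdis hpX (h ▸ (hmt χ).1 h')
  · refine List.eq_replicate_iff.2 ⟨by rw [List.length_map, hths, Finset.length_toList, hYcard], ?_⟩
    intro d hd
    obtain ⟨χ, hχ, rfl⟩ := List.mem_map.1 hd
    exact hxall χ ((hmt χ).1 hχ)
  · intro h
    have := (hmt θ).2 hθ
    rw [h] at this
    simp at this
  · rw [hfs, Multiset.length_sort, Multiset.card_map, Finset.card_val, Finset.card_erase_of_mem hpX, hXcard]
  · rw [hfs]; exact Multiset.pairwise_sort _ _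
  · intro d hd
    rw [← hcsm] at hd
    obtain ⟨χ, hχ, rfl⟩ := List.mem_map.1 hd
    have hX := Finset.mem_of_mem_erase ((hmc χ).1 hχ)
    refine ⟨?_, hidx χ (sg χ) (by rw [hval χ (hmemB χ (Or.inl hX)), hqX χ hX]) (hsg χ hX)⟩
    have h1 := hdX χ hX
    rcases hsg χ hX with e1 | e1 <;> rw [e1, Int.ModEq] at h1
    · left
      rw [Int.emod_eq_of_lt (by norm_num : (0 : ℤ) ≤ 1) (by omega)] at h1
      exact_mod_cast h1
    · right
      rw [hm1, ← Int.natCast_emod] at h1
      omega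
  · have h1 := hdY θ hθ
    rw [← hx] at h1
    constructor
    · have hle : e ≤ p := by have := Nat.le_of_dvd (by omega) hedvd; omega
      rcases hδ with e1 | e1 <;> rw [e1] at h1
      · right
        have h2 : (x : ℤ) ≡ ((p - e : ℕ) : ℤ) [ZMOD p] := h1.trans (Int.modEq_iff_dvd.2 ⟨1, by
          rw [Nat.cast_sub hle]; ring⟩)
        exact Int.natCast_modEq_iff.1 h2
      · left
        rw [neg_neg, one_mul] at h1
        exact Int.natCast_modEq_iff.1 h1
    · show ((x : ℤ) + Engine.dlt p (fs, x) * (e : ℤ)).natAbs % p = 0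
      rw [hdlt]
      have h2 : (p : ℤ) ∣ (x : ℤ) + δ * e := by
        have := dvd_neg.2 (Int.modEq_iff_dvd.1 h1)
        exact this.trans (dvd_of_eq (by ring))
      exact Nat.mod_eq_zero_of_dvd (Int.natCast_dvd.1 h2)
  · intro he
    have hY1 : Y = {θ} := by
      refine Finset.eq_singleton_iff_unique_mem.2 ⟨hθ, fun a ha => ?_⟩
      exact Finset.card_le_one.1 (by rw [hYcard, he, Nat.div_self (by omega)]) a ha θ hθ
    refine ⟨fun d hd => ?_, ?_⟩
    · rw [← hcsm] at hd
      obtain ⟨χ, hχ, rfl⟩ := List.mem_map.1 hd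
      exact hlast he χ ((hmc χ).1 hχ) θ hθ
    · rw [hY1, Finset.sum_singleton] at hqY
      exact hidx θ δ (by rw [hval θ (hmemB θ (Or.inr hθ)), hqY]) hδ
  · show x = (1 + (fs.map fun d => Engine.sgn p d * (d : ℤ)).sum).natAbs
    rcases hδ with e1 | e1 <;> rw [e1] at hone' <;> omega
  · intro hV χ hne hnot
    have hB0 : χ ∉ X₀ ∪ Y₀ := fun h => hnot (by
      rw [← hU, Finset.mem_union] at h
      rw [List.mem_append, hmc, hmt, Finset.mem_erase]
      tauto)
    have h0 : (χ : G → ℂ) y = ((0 : ℤ) : ℂ) := by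
      have h := hphi0 χ hB0
      have hVb : V = ⊥ := Subgroup.card_eq_one.1 hV
      subst hVb
      rw [hq] at h
      simp only [phi] at h
      rw [Fintype.sum_unique] at h
      have e1 : (((default : (⊥ : Subgroup G))) : G) = 1 := Subgroup.mem_bot.1 (default : (⊥ : Subgroup G)).2
      rw [hV, Nat.cast_one, inv_one, one_mul, e1, mul_one] at h
      rw [show (trivB (⊥ : Subgroup G) : (⊥ : Subgroup G) → ℂ) default = 1 from rfl, map_one, mul_one] at h
      rw [h, Int.cast_zero]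
    have := M12Uniq.dvd_sub_deg (IsIrrCharacter.isCharacter χ.2) (irr_one_eq_charDegree χ)
      (k := 1) (by rw [orderOf_P K y.2 hy1, pow_one]) h0
    rw [sub_zero] at this
    exact_mod_cast this
  · intro g hg θ' hθ'
    have h := hR θ' ((hmt θ').1 hθ') g hg
    rw [← hsumcs fun χ => (χ : G → ℂ) g] at h
    rw [show Engine.dlt p (fs, x) = δ from hdlt]
    simp only [principal] at h
    linear_combination h
  · intro s hs θ' hθ'
    have hθ'' := (hmt θ').1 hθ'
    have hss : s * s = 1 := by rw [← pow_two, ← hs, pow_orderOf_eq_one]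
    have hsp : ¬ p ∣ orderOf s := by
      rw [hs]; intro h; have := Nat.le_of_dvd (by norm_num) h; omega
    obtain ⟨k, hk, hk0⟩ := pairs_square K hp2 hss y.2 hy1
    refine ⟨k, hk0, ?_⟩
    have hk' : ((∑ w : V, pairCount s s ((y : G) * w) : ℕ) : ℂ) = (p : ℂ) * ((k : ℂ) * k) := by
      rw [hk]; push_cast; rfl
    rw [← hk', Nat.cast_sum, Finset.sum_mul,
      Finset.sum_congr rfl fun (w : V) _ => structure_count' s s ((y : G) * (w : G)), hG, ← Finset.mul_sum,
      Finset.sum_comm, Nat.cast_ofNat, mul_assoc (443520 : ℂ)]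
    have hphi : ∀ χ : IrrCharacter G, (∑ w : V, (χ : G → ℂ) s * (χ : G → ℂ) s *
        conj ((χ : G → ℂ) ((y : G) * w)) / (χ : G → ℂ) 1) =
        (Nat.card V : ℂ) * ((χ : G → ℂ) s * (χ : G → ℂ) s * conj (q χ) / (charDegree (χ : G → ℂ) : ℂ)) := by
      intro χ
      simp only [hq, phi, map_mul, map_inv₀, map_natCast, map_sum, Complex.conj_conj,
        show ∀ w : V, (trivB V : V → ℂ) w = 1 from fun _ => rfl, mul_one, irr_one_eq_charDegree]
      rw [← Finset.sum_div, ← Finset.mul_sum]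
      field_simp
    rw [Finset.sum_congr rfl fun χ _ => hphi χ, ← Finset.mul_sum]
    congr 2
    rw [← Finset.sum_subset (Finset.subset_univ (X ∪ Y)) fun χ _ h => by
        rw [hphi0 χ (by rw [← hU]; exact h), map_zero, mul_zero, zero_div],
      Finset.sum_union hdis,
      Finset.sum_congr rfl fun χ h => by rw [hqX χ h, map_intCast],
      Finset.sum_congr (s₁ := Y) rfl fun χ h => by
        rw [hA χ h θ' hθ'' s hsp, hxall χ h], ← Finset.sum_div, ← Finset.mul_sum, ← map_sum, hqY, map_intCast]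
    rw [show Engine.dlt p (fs, x) = δ from hdlt]
    have h := hsumcs fun χ => (χ : G → ℂ) s * (χ : G → ℂ) s / (charDegree (χ : G → ℂ) : ℂ)
    simp only [hd1, Nat.cast_one, div_one] at h
    simp only [principal, mul_one] at h
    simp only [mul_div_assoc'] at h ⊢
    rw [Finset.sum_congr rfl fun χ _ => by rw [mul_comm ((χ : G → ℂ) s * (χ : G → ℂ) s)], ← h]
    ring
  · intro u hu ho χ hχ a ha
    refine congr_of_const K hu ho (fun z hz hz1 => ?_) ha
    refine section_const K hM ?_ hz hz1 hu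
    rw [hB]
    have hm : χ ∈ X₀ ∪ Y₀ := hmemB χ (by
      rcases List.mem_append.1 hχ with h | h
      · exact Or.inl (Finset.mem_of_mem_erase ((hmc χ).1 h))
      · exact Or.inr ((hmt χ).1 h))
    simpa using hm

end Prime

end Cfsg.Agent.M22Uniq
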