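import Cfsg.Agent.Lib.M22Uniq.Config
import Cfsg.Agent.Lib.M22Uniq.CheckA
import Cfsg.Agent.Lib.M22Uniq.CheckB
import Cfsg.Agent.Lib.M22Uniq.CheckC
import Cfsg.Agent.Lib.M22Uniq.CheckD
import Cfsg.Agent.Lib.M22Uniq.CheckE
import Cfsg.Agent.Lib.M22Uniq.CheckF

/-!
The search leaves one system of principal blocks.
-/

set_option linter.unusedSectionVars false
set_option linter.style.haveILetI false

namespace Cfsg.Agent.M22Uniq

open Cfsg Cfsg.Agent.Char Cfsg.Agent.Blocks Cfsg.Agent.CCSylow Cfsg.Agent.DefOne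

open scoped ComplexConjugate

universe u

/-- All the patterns at eleven pass. -/
theorem case_ok {a b c d : ℕ} (ha : a ∈ xDegs) (hb : b ∈ xDegs) (hc : c ∈ xDegs) (hd : d ∈ xDegs)
    (h1 : a ≤ b) (h2 : b ≤ c) (h3 : c ≤ d) : Engine.caseOK [a, b, c, d] = true := by
  have hle : (Nat.ble a b && Nat.ble b c && Nat.ble c d) = true := by simp [h1, h2, h3]
  have key : ∀ {A B : List ℕ}, (A.all fun a => B.all fun b => xDegs.all fun c => xDegs.all fun d =>
      !(Nat.ble a b && Nat.ble b c && Nat.ble c d) || Engine.caseOK [a, b, c, d]) = true →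
      a ∈ A → b ∈ B → Engine.caseOK [a, b, c, d] = true := fun {A B} h hA hB => by
    have := List.all_eq_true.1 (List.all_eq_true.1 (List.all_eq_true.1 (List.all_eq_true.1 h a hA) b hB) c hc) d hd
    simpa only [hle, Bool.not_true, Bool.false_or] using this
  have hA : a = 10 ∨ a = 12 ∨ a = 21 ∨ a ∈ ([32, 45, 56, 120, 144, 210, 252, 320, 384, 560] : List ℕ) := by
    simp only [xDegs, List.mem_cons, List.not_mem_nil, or_false] at ha ⊢
    omega
  have hb' := hb
  simp only [xDegs, List.mem_cons, List.not_mem_nil, or_false] at hb'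
  rcases hA with rfl | rfl | rfl | ha'
  · by_cases h : b ∈ ([10, 12, 21] : List ℕ)
    · exact key Engine.checkA (by simp) h
    · refine key Engine.checkB (by simp) ?_
      simp only [List.mem_cons, List.not_mem_nil, or_false] at h ⊢
      omega
  · exact key Engine.checkC (by simp) hb
  · by_cases h : b ∈ ([21, 32, 45] : List ℕ)
    · exact key Engine.checkD (by simp) h
    · refine key Engine.checkE (by simp) ?_
      simp only [List.mem_cons, List.not_mem_nil, or_false] at h ⊢
      omega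
  · exact key Engine.checkF ha' hb

variable {G : Type u} [Group G] [Fintype G]

/-- The degrees of the members of a block are prime to the prime. -/
theorem members_not_dvd {p e : ℕ} [Fact p.Prime] (hp2 : 2 < p) (he : e ∣ p - 1) {V : Subgroup G}
    {tp : Engine.Tup} {cs ths : List (IrrCharacter G)} (B : Blk p e V tp cs ths) :
    ∀ χ ∈ cs ++ ths, ¬ p ∣ charDegree (χ : G → ℂ) := by
  intro χ hχ h
  have he0 : 0 < e := Nat.pos_of_ne_zero fun h0 => by
    rw [h0] at he; have := Nat.eq_zero_of_zero_dvd he; omega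
  have hle := Nat.le_of_dvd (by omega) he
  have h0 := Nat.mod_eq_zero_of_dvd h
  rcases List.mem_append.1 hχ with h' | h'
  · have := (B.modX _ (B.degX ▸ List.mem_map_of_mem h')).1
    omega
  · have h2 : charDegree (χ : G → ℂ) ∈ List.replicate ((p - 1) / e) tp.2 := B.degY ▸ List.mem_map_of_mem h'
    have := B.modY.1
    rw [← List.eq_of_mem_replicate h2, h0, Nat.mod_eq_of_lt (show e < p by omega),
      Nat.mod_eq_of_lt (show p - e < p by omega)] at this
    omega

/-- A block with trivial complement closes the degrees prime to the prime. -/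
theorem known_ext {p e : ℕ} [Fact p.Prime] (hp2 : 2 < p) (he : e ∣ p - 1) {V : Subgroup G}
    (hV : Nat.card V = 1) {tp : Engine.Tup} {cs ths : List (IrrCharacter G)} (B : Blk p e V tp cs ths)
    {closed : ℕ → Bool} {L : List (IrrCharacter G)} (hL : Known closed L) :
    Known (fun d => closed d || !(Nat.beq (d % p) 0)) (extList closed L (cs ++ ths)) := by
  refine ⟨extList_nodup hL B.nodup, fun χ => ⟨fun h => ⟨extList_ne hL B.ne_principal χ h, ?_⟩, fun h => ?_⟩⟩
  · rcases List.mem_append.1 h with h' | h'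
    · simp [((hL.2 χ).1 h').2]
    · have := members_not_dvd hp2 he B χ (List.mem_filter.1 h').1
      rw [Bool.or_eq_true]
      right
      exact not_beq fun h0 => this (Nat.dvd_of_mod_eq_zero h0)
  · obtain ⟨hne, hc⟩ := h
    by_cases hcl : closed (charDegree (χ : G → ℂ)) = true
    · exact List.mem_append_left _ ((hL.2 χ).2 ⟨hne, hcl⟩)
    refine List.mem_append_right _ (List.mem_filter.2 ⟨?_, by simp [hcl]⟩)
    simp only [hcl, Bool.false_or, Bool.not_eq_true', ← Bool.not_eq_true, Nat.beq_eq] at hc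
    by_contra h
    exact hc (Nat.mod_eq_zero_of_dvd (B.others hV χ hne h))

/-- Nothing is known at the start. -/
theorem known_none : Known (G := G) (fun _ => false) [] :=
  ⟨List.nodup_nil, fun χ => by simp⟩

/-- The degrees of an extended list. -/
theorem extList_degs {p e : ℕ} {V : Subgroup G} {tp : Engine.Tup} {cs ths : List (IrrCharacter G)}
    (B : Blk p e V tp cs ths) (closed : ℕ → Bool) (L : List (IrrCharacter G)) :
    (extList closed L (cs ++ ths)).map (fun χ : IrrCharacter G => charDegree (χ : G → ℂ)) =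
      L.map (fun χ : IrrCharacter G => charDegree (χ : G → ℂ)) ++
        (Engine.members p e tp).filter fun d => !(closed d) := by
  rw [extList, List.map_append]
  congr 1
  rw [Engine.members, ← B.degX, ← B.degY, ← List.map_append, List.filter_map]
  rfl

/-- An involution in a subgroup of even order. -/
theorem exists_involution {V : Subgroup G} (h : Nat.beq (Nat.card V % 2) 0 = true) :
    ∃ u ∈ V, orderOf u = 2 := by
  haveI : Fact (Nat.Prime 2) := ⟨Nat.prime_two⟩
  obtain ⟨u, hu⟩ := exists_prime_orderOf_dvd_card' 2 (Nat.dvd_of_mod_eq_zero (Nat.eq_of_beq_eq_true h))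
  exact ⟨u, u.2, by rw [Subgroup.orderOf_coe, hu]⟩

variable [IsSimpleGroup G] (hG : Nat.card G = 443520)

include hG

/-- The order of the centralizer of an involution is among those for elements of order `q`. -/
theorem mem_upOrders {q : ℕ} [Fact q.Prime] (hq : q ≠ 2) {P : Sylow q G} {V : Subgroup G} {e : ℕ}
    (K : Conf q (P : Subgroup G) V (Subgroup.normalizer ((P : Subgroup G) : Set G)) e)
    {u : G} (hu : u ∈ V) (ho : orderOf u = 2) :
    Nat.card (Subgroup.centralizer ({u} : Set G)) ∈ Engine.upOrders q := by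
  set C := Nat.card (Subgroup.centralizer ({u} : Set G)) with hC
  obtain ⟨k, hk⟩ := two_mul_dvd_cent hq K hu ho
  obtain ⟨hd, h11⟩ := cent_dvd hG ho
  rw [← hC] at hk hd h11
  have hC0 : 0 < C := Nat.card_pos
  refine List.mem_filter.2 ⟨List.mem_map.2 ⟨k, List.mem_range.2 (Nat.lt_succ_of_le ?_), hk.symm⟩, ?_⟩
  · rw [Nat.le_div_iff_mul_le (Nat.mul_pos (by norm_num) (Fact.out : q.Prime).pos), mul_comm, ← hk]
    exact Nat.le_of_dvd (by norm_num) hd
  · simp only [Bool.and_eq_true, Nat.blt_eq, Nat.beq_eq, Bool.not_eq_true', ← Bool.not_eq_true]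
    exact ⟨⟨hC0, Nat.mod_eq_zero_of_dvd (hd.trans ⟨11, by norm_num⟩)⟩,
      fun h => h11 (Nat.dvd_of_mod_eq_zero h)⟩

/-- The column at an involution of a complement at `q` is found. -/
theorem mem_uRows {q : ℕ} [Fact q.Prime] (hq : q ≠ 2) {P : Sylow q G} {V : Subgroup G} {e : ℕ}
    (K : Conf q (P : Subgroup G) V (Subgroup.normalizer ((P : Subgroup G) : Set G)) e)
    {u : G} (hu : u ∈ V) (ho : orderOf u = 2) {W : Subgroup G} {tp : Engine.Tup}
    {cs ths : List (IrrCharacter G)} (B : Blk 11 5 W tp cs ths) :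
    colOf (cs ++ ths) u ∈ Engine.uRows q tp.1 tp.2 (Engine.dlt 11 tp) := by
  refine List.mem_flatMap.2 ⟨_, mem_upOrders hG hq K hu ho, mem_rowsEleven hG B ho _ fun χ hχ => ?_⟩
  have hne := B.ne_principal χ hχ
  have h4 := four_dvd hG hne ho
  split_ifs with h
  · have hqd : q ∣ charDegree (χ : G → ℂ) := Nat.dvd_of_mod_eq_zero (Nat.eq_of_beq_eq_true h)
    have hqa := dvd_val K hqd hu ho (ival_spec ho χ)
    have hcop : IsCoprime ((4 : ℕ) : ℤ) (q : ℤ) := by
      rw [Nat.isCoprime_iff_coprime]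
      exact Nat.Coprime.pow_left 2 ((Nat.coprime_primes Nat.prime_two Fact.out).2 (Ne.symm hq))
    rw [Nat.cast_mul]
    exact hcop.mul_dvd h4 (dvd_sub (Int.natCast_dvd_natCast.2 hqd) hqa)
  · exact h4

/-- The result of the search at the two primes. -/
theorem second_prime {p q : ℕ} [Fact p.Prime] [Fact q.Prime] (hpq : p = 5 ∧ q = 7 ∨ p = 7 ∧ q = 5)
    {W : Subgroup G} (hW : Nat.card W = 1) {tp : Engine.Tup} {cs ths : List (IrrCharacter G)}
    (B : Blk 11 5 W tp cs ths)
    {s : G} (hs : orderOf s = 2) (hsC : Nat.card (Subgroup.centralizer ({s} : Set G)) ∈ Engine.centralOrders)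
    (hok : Engine.firstOK p q tp.1 tp.2 (Engine.dlt 11 tp) = true) :
    p = 7 ∧ q = 5 ∧ ∃ (P : Sylow p G) (V : Subgroup G) (Q : Sylow q G) (U : Subgroup G) (tp' tp'' : Engine.Tup)
      (cs' ths' cs'' ths'' : List (IrrCharacter G)),
      Conf p (P : Subgroup G) V (Subgroup.normalizer ((P : Subgroup G) : Set G)) 3 ∧ Nat.card V = 1 ∧
      Conf q (Q : Subgroup G) U (Subgroup.normalizer ((Q : Subgroup G) : Set G)) 4 ∧ Nat.card U = 1 ∧
      Blk p 3 V tp' cs' ths' ∧ Blk q 4 U tp'' cs'' ths'' ∧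
      (tp.1, tp.2, tp', tp'', colOf (extList (Engine.closed₁ p) (extList Engine.closed₀ (cs ++ ths) (cs' ++ ths'))
        (cs'' ++ ths'')) s) = Engine.target := by
  haveI : Fact (Nat.Prime 11) := ⟨by norm_num⟩
  have hp2 : 2 < p := by omega
  have hq2 : 2 < q := by omega
  have hp' : ¬ p ∣ 2 := fun h => by have := Nat.le_of_dvd (by norm_num) h; omega
  have hq' : ¬ q ∣ 2 := fun h => by have := Nat.le_of_dvd (by norm_num) h; omega
  have hL₀ : Known Engine.closed₀ (cs ++ ths) := by
    have h := known_ext (p := 11) (by norm_num) (by norm_num) hW B known_none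
    show Known (fun d => !(Nat.beq (d % 11) 0)) (cs ++ ths)
    simpa [extList] using h
  have hdeg₀ : (cs ++ ths).map (fun χ : IrrCharacter G => charDegree (χ : G → ℂ)) =
      tp.1 ++ [tp.2, tp.2] := by
    rw [List.map_append, B.degX, B.degY]; rfl
  have hrow : colOf (cs ++ ths) s ∈ Engine.sRows tp.1 tp.2 (Engine.dlt 11 tp) :=
    List.mem_flatMap.2 ⟨_, hsC, mem_rowsEleven hG B hs _ fun χ hχ => four_dvd hG (B.ne_principal χ hχ) hs⟩
  -- the first prime
  obtain ⟨P, V, e, K, hcf⟩ := cfg_mem hG (p := p) (by omega)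
  haveI : Fintype (P : Subgroup G) := Fintype.ofFinite _
  haveI : Fintype ((P : Subgroup G) →* ℂˣ) := Fintype.ofFinite _
  have hed : e ∣ p - 1 := by have := dvd_card_sub_one K.D; rwa [K.hP] at this
  obtain ⟨tp', cs', ths', B'⟩ := exists_blk K hG hp2
  have htup := mem_tuples hG B' hL₀
  rw [hdeg₀] at htup
  have h := List.all_eq_true.1 hok _ hcf
  by_cases hev : Nat.beq (Nat.card V % 2) 0 = true
  · exfalso
    rw [if_pos hev] at h
    obtain ⟨u, hu, ho⟩ := exists_involution hev
    have h1 := List.all_eq_true.1 (List.all_eq_true.1 h _ (mem_uRows hG (by omega) K hu ho B)) _ htup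
    rw [List.isEmpty_iff] at h1
    have h2 := mem_ext hG B' hL₀ ho hp' (cong := true)
      fun _ χ hχ => B'.congr u hu ho χ hχ _ (ival_spec ho χ)
    rw [h1] at h2
    exact List.not_mem_nil h2
  rw [if_neg hev] at h
  have h1 := List.all_eq_true.1 h _ htup
  have hR : colOf (extList Engine.closed₀ (cs ++ ths) (cs' ++ ths')) s ∈
      (Engine.sRows tp.1 tp.2 (Engine.dlt 11 tp)).flatMap
        (Engine.ext p e (Nat.card V) Engine.closed₀ false tp') :=
    List.mem_flatMap.2 ⟨_, hrow, mem_ext hG B' hL₀ hs hp' (by simp)⟩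
  rw [Bool.or_eq_true, Bool.and_eq_true] at h1
  obtain ⟨hV, hsec⟩ := h1.resolve_left fun hemp => by
    rw [List.isEmpty_iff] at hemp
    rw [hemp] at hR
    exact List.not_mem_nil hR
  replace hV : Nat.card V = 1 := Nat.eq_of_beq_eq_true hV
  have hcentp : ∀ z : G, orderOf z = p → Nat.card (Subgroup.centralizer ({z} : Set G)) = p := fun z hz => by
    rw [cent_card K hz, hV, mul_one]
  have hL₁ : Known (Engine.closed₁ p) (extList Engine.closed₀ (cs ++ ths) (cs' ++ ths')) :=
    known_ext hp2 hed hV B' hL₀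
  have hdeg₁ := extList_degs B' Engine.closed₀ (cs ++ ths)
  rw [hdeg₀] at hdeg₁
  -- the second prime
  obtain ⟨Q, U, e', K', hcf'⟩ := cfg_mem hG (p := q) (by omega)
  obtain ⟨tp'', cs'', ths'', B''⟩ := exists_blk K' hG hq2
  have htup' := mem_tuples hG B'' hL₁
  rw [hdeg₁] at htup'
  have hpU : ¬ p ∣ Nat.card U := not_dvd_complement (by omega) K' hcentp
  have h2 := List.all_eq_true.1 hsec _ hcf'
  rw [Bool.or_eq_true] at h2
  have h3 := List.all_eq_true.1 (h2.resolve_left fun h0 => hpU (Nat.dvd_of_mod_eq_zero (Nat.eq_of_beq_eq_true h0)))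
    _ htup'
  by_cases hev' : Nat.beq (Nat.card U % 2) 0 = true
  · exfalso
    rw [if_pos hev'] at h3
    obtain ⟨u, hu, ho⟩ := exists_involution hev'
    have hmem : colOf (cs ++ ths) u ∈ (Engine.uRows q tp.1 tp.2 (Engine.dlt 11 tp)).filter
        fun r => !(Nat.beq (r.1 % p) 0) && Engine.okOrder q e' (Nat.card U) r.1 := by
      refine List.mem_filter.2 ⟨mem_uRows hG (by omega) K' hu ho B, ?_⟩
      rw [Bool.and_eq_true]
      refine ⟨not_beq fun h0 => not_dvd_cent Nat.prime_two (by omega) hcentp ho (Nat.dvd_of_mod_eq_zero h0), ?_⟩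
      show Engine.okOrder q e' (Nat.card U) (Nat.card (Subgroup.centralizer ({u} : Set G))) = true
      rw [Engine.okOrder, Bool.or_eq_true]
      by_cases hc : q = 7 ∧ e' = 6 ∧ Nat.card U = 4
      · right
        obtain ⟨rfl, rfl, hU⟩ := hc
        obtain ⟨k, n, hk, hn, hC⟩ := cent_seven K' hU hu ho
        have hk0 : 0 < k := Nat.pos_of_dvd_of_pos hk (by norm_num)
        rw [hC, Bool.and_eq_true, List.any_eq_true]
        refine ⟨by rw [Nat.beq_eq, mul_assoc, Nat.mul_mod_right], k, ?_, ?_⟩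
        · have := Nat.le_of_dvd (by norm_num) hk
          interval_cases k <;> first | (simp; done) | (exfalso; omega)
        · rw [Bool.and_eq_true, Nat.beq_eq, Nat.beq_eq, show 28 * k * n / 28 = k * n by
            rw [mul_assoc, Nat.mul_div_cancel_left _ (by norm_num)],
            Nat.mul_mod_right, Nat.mul_div_cancel_left _ hk0]
          exact ⟨rfl, hn⟩
      · left
        simp only [Bool.not_eq_true', ← Bool.not_eq_true, Bool.and_eq_true, Nat.beq_eq]
        exact fun h => hc ⟨h.1.1, h.1.2, h.2⟩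
    have h4 := List.all_eq_true.1 h3 _ hmem
    have h5 := mem_ext hG B' hL₀ ho hp' (cong := false) (by simp)
    rw [hV] at h5
    have h6 := List.all_eq_true.1 h4 _ h5
    rw [List.isEmpty_iff] at h6
    have h7 := mem_ext hG B'' hL₁ ho hq' (cong := true)
      fun _ χ hχ => B''.congr u hu ho χ hχ _ (ival_spec ho χ)
    rw [h6] at h7
    exact List.not_mem_nil h7
  rw [if_neg hev'] at h3
  have h4 := List.all_eq_true.1 (List.all_eq_true.1 h3 _ hR) _ (mem_ext hG B'' hL₁ hs hq' (cong := false) (by simp))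
  simp only [Bool.and_eq_true, Nat.beq_eq, beq_iff_eq] at h4
  obtain ⟨⟨⟨⟨hp7, he⟩, he'⟩, hU⟩, htgt⟩ := h4
  subst he; subst he'
  exact ⟨hp7, by omega, P, V, Q, U, tp', tp'', cs', ths', cs'', ths'', K, hV, K', hU, B', B'', htgt⟩

/-- The system of blocks and the column at a central involution. -/
theorem reduce : ∃ (s : G) (P₅ : Sylow 5 G) (V₅ : Subgroup G) (P₇ : Sylow 7 G) (V₇ : Subgroup G)
    (P : Sylow 11 G) (V : Subgroup G) (cs ths cs₇ ths₇ cs₅ ths₅ : List (IrrCharacter G)),
    orderOf s = 2 ∧ Nat.card (Subgroup.centralizer ({s} : Set G)) = 384 ∧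
    Conf 11 (P : Subgroup G) V (Subgroup.normalizer ((P : Subgroup G) : Set G)) 5 ∧ Nat.card V = 1 ∧
    Blk 11 5 V ([21, 45, 45, 210], 280) cs ths ∧
    Conf 7 (P₇ : Subgroup G) V₇ (Subgroup.normalizer ((P₇ : Subgroup G) : Set G)) 3 ∧ Nat.card V₇ = 1 ∧
    Blk 7 3 V₇ ([55, 99], 45) cs₇ ths₇ ∧
    Conf 5 (P₅ : Subgroup G) V₅ (Subgroup.normalizer ((P₅ : Subgroup G) : Set G)) 4 ∧ Nat.card V₅ = 1 ∧
    Blk 5 4 V₅ ([21, 99, 154], 231) cs₅ ths₅ ∧
    (extList (Engine.closed₁ 7) (extList Engine.closed₀ (cs ++ ths) (cs₇ ++ ths₇)) (cs₅ ++ ths₅)).map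
      (fun χ : IrrCharacter G => (charDegree (χ : G → ℂ), ival s χ)) =
      [(21, 5), (45, -3), (45, -3), (210, 2), (280, -8), (280, -8), (55, 7), (99, 3), (154, 10), (231, 7)] := by
  haveI : Fact (Nat.Prime 11) := ⟨by norm_num⟩
  haveI : Fact (Nat.Prime 5) := ⟨by norm_num⟩
  haveI : Fact (Nat.Prime 7) := ⟨by norm_num⟩
  obtain ⟨P, V, K, hV⟩ := eleven_normalizer hG
  obtain ⟨tp, cs, ths, B⟩ := exists_blk K hG (by norm_num)
  obtain ⟨s, hs, hsC⟩ := exists_central hG
  obtain ⟨c, t⟩ := tp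
  obtain ⟨a, b, c, d, rfl⟩ : ∃ a b c' d, c = [a, b, c', d] := by
    match c, B.len with
    | [a, b, c, d], _ => exact ⟨a, b, c, d, rfl⟩
  have hsort := B.sorted
  simp only [List.pairwise_cons, List.mem_cons, List.not_mem_nil, or_false, forall_eq_or_imp, forall_eq] at hsort
  have hx : ∀ x ∈ [a, b, c, d], x ∈ xDegs := fun x hx => by
    have hm : x ∈ cs.map fun χ : IrrCharacter G => charDegree (χ : G → ℂ) := by rw [B.degX]; exact hx
    obtain ⟨χ, hχ, rfl⟩ := List.mem_map.1 hm
    have hne := B.ne_principal χ (by simp [hχ])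
    obtain ⟨h1, h2⟩ := deg_facts hG χ
    exact (deg_pm_eleven _ (by omega) h2 (by have := (B.modX _ hx).1; omega)).resolve_left
      fun h => hne (eq_principal hG h)
  have hcase := case_ok (hx a (by simp)) (hx b (by simp)) (hx c (by simp)) (hx d (by simp))
    hsort.1.1 hsort.2.1.1 hsort.2.2.1
  have ht : (1 + (([a, b, c, d] : List ℕ).map fun d => Engine.sgn 11 d * (d : ℤ)).sum).natAbs = t := B.deg_eq.symm
  obtain ⟨θ, hθ⟩ := List.exists_mem_of_ne_nil _ B.nonempty
  have hθd : charDegree (θ : G → ℂ) = t := by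
    have h2 : charDegree (θ : G → ℂ) ∈ List.replicate ((11 - 1) / 5) t := B.degY ▸ List.mem_map_of_mem hθ
    exact List.eq_of_mem_replicate h2
  obtain ⟨ht1, ht2⟩ := deg_facts hG θ
  rw [hθd] at ht1 ht2
  have ht0 : 2 ≤ t := hθd ▸ two_le_deg hG (B.ne_principal θ (by simp [hθ]))
  have hmod := B.modY
  have hsq : 1 + (([a, b, c, d] : List ℕ).map fun d => d * d).sum + 2 * (t * t) ≤ 443520 := by
    classical
    have h := Finset.sum_le_sum_of_subset (f := fun χ : IrrCharacter G => charDegree (χ : G → ℂ) ^ 2)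
      (Finset.subset_univ (insert (principal G) (cs ++ ths).toFinset))
    rw [Cfsg.Agent.CharX.sum_deg_sq, hG,
      Finset.sum_insert fun h => B.ne_principal _ (List.mem_toFinset.1 h) rfl,
      List.sum_toFinset _ B.nodup,
      show charDegree (principal G : G → ℂ) = 1 from Cfsg.Agent.CharX.charDegree_one, one_pow] at h
    have e1 : ((cs ++ ths).map fun χ : IrrCharacter G => charDegree (χ : G → ℂ) ^ 2) =
        ([a, b, c, d] ++ [t, t]).map fun d => d * d := by
      have hX : cs.map (fun χ : IrrCharacter G => charDegree (χ : G → ℂ)) = [a, b, c, d] := B.degX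
      have hY : ths.map (fun χ : IrrCharacter G => charDegree (χ : G → ℂ)) = [t, t] := B.degY
      rw [← hX, ← hY, ← List.map_append, List.map_map]
      simp [Function.comp_def, pow_two]
    rw [e1] at h
    simp only [List.map_append, List.sum_append, List.map_cons, List.map_nil, List.sum_cons, List.sum_nil] at h ⊢
    omega
  have hrow : colOf (cs ++ ths) s ∈ Engine.sRows [a, b, c, d] t (Engine.dlt 11 ([a, b, c, d], t)) :=
    List.mem_flatMap.2 ⟨_, hsC, mem_rowsEleven hG B hs _ fun χ hχ => four_dvd hG (B.ne_principal χ hχ) hs⟩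
  simp only [Engine.caseOK, ht] at hcase
  rw [show (if 0 < 1 + (([a, b, c, d] : List ℕ).map fun d => Engine.sgn 11 d * (d : ℤ)).sum then (-1 : ℤ) else 1) =
    Engine.dlt 11 ([a, b, c, d], t) from rfl] at hcase
  rw [Bool.or_eq_true, Bool.or_eq_true] at hcase
  have hbranch := hcase.resolve_left fun h => by
    rcases h with h | h
    · simp only [Bool.not_eq_true', ← Bool.not_eq_true, Bool.and_eq_true, Nat.ble_eq, Nat.beq_eq,
        List.contains_iff_mem] at h
      refine h ⟨⟨⟨ht0, deg_five_eleven t (by omega) ht2 ?_⟩, hmod.2⟩, hsq⟩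
      have := hmod.1
      omega
    · rw [List.isEmpty_iff] at h
      rw [h] at hrow
      exact List.not_mem_nil hrow
  have key : ∀ {p q : ℕ} [Fact p.Prime] [Fact q.Prime], (p = 5 ∧ q = 7 ∨ p = 7 ∧ q = 5) →
      Engine.firstOK p q [a, b, c, d] t (Engine.dlt 11 ([a, b, c, d], t)) = true → p = 7 ∧ q = 5 := fun hpq h =>
    let r := second_prime hG hpq hV B hs hsC h
    ⟨r.1, r.2.1⟩
  split_ifs at hbranch with h7
  · obtain ⟨-, -, P₇, V₇, P₅, V₅, tp', tp'', cs₇, ths₇, cs₅, ths₅, K₇, hV₇, K₅, hV₅, B₇, B₅, htgt⟩ :=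
      second_prime hG (p := 7) (q := 5) (Or.inr ⟨rfl, rfl⟩) hV B hs hsC hbranch
    simp only [Engine.target, colOf, Prod.mk.injEq] at htgt
    obtain ⟨e1, rfl, rfl, rfl, hC, hcol⟩ := htgt
    rw [e1] at B
    exact ⟨s, P₅, V₅, P₇, V₇, P, V, cs, ths, cs₇, ths₇, cs₅, ths₅, hs, hC, K, hV, B, K₇, hV₇, B₇,
      K₅, hV₅, B₅, hcol⟩
  · exact absurd (key (p := 5) (q := 7) (Or.inl ⟨rfl, rfl⟩) hbranch).1 (by norm_num)

end Cfsg.Agent.M22Uniq
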