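import Mathlib.Algebra.BigOperators.Group.Multiset.Basic
import Mathlib.Data.Rat.Defs
import Mathlib.Tactic

/-!
An exhaustive search for a column of values with prescribed linear and quadratic relations.
-/

namespace Cfsg.Agent.M22Uniq

/-- A possible member of a relation: a degree `f`, a coefficient `c`, a value `a` and a weight `w`. -/
structure Term where
  f : ℕ
  c : ℤ
  a : ℤ
  w : ℕ
deriving DecidableEq

/-- The partial sums of a search: degrees, values, norm, squared degrees and the fraction. -/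
structure State where
  D : ℤ
  L : ℤ
  q : ℕ
  d2 : ℕ
  num : ℤ
  den : ℕ

/-- Adding a term. -/
def State.add (st : State) (o : Term) : State :=
  ⟨st.D + o.c * o.f, st.L + o.c * o.a, st.q + o.w * o.a.natAbs * o.a.natAbs, st.d2 + o.w * o.f * o.f,
    st.num * o.f + o.c * (o.a * o.a) * st.den, st.den * o.f⟩

/-- The conditions on complete sums. -/
def State.final (st : State) (C N M : ℕ) : Bool :=
  decide (st.D = 0) && decide (st.L = 0) && Nat.ble st.q C && Nat.ble st.d2 N &&
    decide (0 ≤ st.num) && Nat.beq ((N * M * st.num.natAbs) % (C * C * st.den)) 0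

/-- There is no way to choose `k` members of `opts` and one of `lasts`. -/
def noSol (C N M : ℕ) (lasts : List Term) : ℕ → List Term → State → Bool
  | 0, _, st => lasts.all fun o => !((st.add o).final C N M)
  | k + 1, opts, st => opts.tails.all fun tl => match tl with
    | [] => true
    | o :: _ => !(Nat.ble (st.q + o.w * o.a.natAbs * o.a.natAbs) C && Nat.ble (st.d2 + o.w * o.f * o.f) N) ||
        noSol C N M lasts k tl (st.add o)

theorem exists_first {α : Type*} {s : Multiset α} : ∀ {opts : List α}, (∀ x ∈ s, x ∈ opts) → s ≠ 0 →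
    ∃ tl ∈ opts.tails, ∃ o r, tl = o :: r ∧ o ∈ s ∧ ∀ x ∈ s, x ∈ tl
  | [], h, h0 => by
    obtain ⟨x, hx⟩ := Multiset.exists_mem_of_ne_zero h0
    exact absurd (h x hx) (by simp)
  | a :: l, h, h0 => by
    by_cases ha : a ∈ s
    · exact ⟨a :: l, by simp, a, l, rfl, ha, h⟩
    · obtain ⟨tl, htl, rest⟩ := exists_first (opts := l) (fun x hx => by
        rcases List.mem_cons.1 (h x hx) with rfl | hxl
        · exact absurd hx ha
        · exact hxl) h0
      exact ⟨tl, by rw [List.tails_cons]; exact List.mem_cons_of_mem _ htl, rest⟩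

/-- A positive answer of the search excludes solutions. -/
theorem noSol_sound {C N M : ℕ} {lasts : List Term} (hNM : 0 < N * M) :
    ∀ {k : ℕ} {opts : List Term} {st : State}, noSol C N M lasts k opts st = true → 0 < st.den →
    ∀ (s : Multiset Term) (l : Term), s.card = k → (∀ x ∈ s, x ∈ opts) → l ∈ lasts →
    (∀ x ∈ l ::ₘ s, 0 < x.f) →
    st.D + ((l ::ₘ s).map fun x => x.c * (x.f : ℤ)).sum = 0 →
    st.L + ((l ::ₘ s).map fun x => x.c * x.a).sum = 0 →
    (st.q : ℤ) + ((l ::ₘ s).map fun x => (x.w : ℤ) * (x.a * x.a)).sum ≤ C →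
    (st.d2 : ℤ) + ((l ::ₘ s).map fun x => (x.w : ℤ) * ((x.f : ℤ) * x.f)).sum ≤ N →
    ∀ n : ℕ, (n : ℚ) * ((C : ℚ) * C) ≠
      ((N * M : ℕ) : ℚ) * ((st.num : ℚ) / st.den + ((l ::ₘ s).map fun x => (x.c : ℚ) * ((x.a : ℚ) * x.a) / x.f).sum) := by
  intro k
  induction k with
  | zero =>
    intro opts st h hden s l hs hsub hl hpos hD hL hq hd n hn
    rw [Multiset.card_eq_zero.1 hs] at hD hL hq hd hn hpos
    simp only [Multiset.cons_zero, Multiset.map_singleton, Multiset.sum_singleton] at hD hL hq hd hn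
    have hlf : 0 < l.f := hpos l (by simp)
    rw [noSol] at h
    have h1 := List.all_eq_true.1 h l hl
    rw [Bool.not_eq_true', ← Bool.not_eq_true] at h1
    apply h1
    have hq' : ((st.q + l.w * l.a.natAbs * l.a.natAbs : ℕ) : ℤ) ≤ C := by
      push_cast; rw [mul_assoc, abs_mul_abs_self]; exact hq
    have hd' : ((st.d2 + l.w * l.f * l.f : ℕ) : ℤ) ≤ N := by push_cast; rw [mul_assoc]; exact hd
    set num : ℤ := st.num * l.f + l.c * (l.a * l.a) * st.den with hnum
    have h2 : (n : ℚ) * ((C : ℚ) * C) * ((st.den : ℚ) * l.f) = ((N * M : ℕ) : ℚ) * (num : ℚ) := by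
      rw [hn, hnum]; push_cast
      field_simp
    have h3 : (n : ℤ) * ((C : ℤ) * C * ((st.den : ℤ) * l.f)) = ((N * M : ℕ) : ℤ) * num := by
      have : (((n : ℤ) * ((C : ℤ) * C * ((st.den : ℤ) * l.f)) : ℤ) : ℚ) = ((((N * M : ℕ) : ℤ) * num : ℤ) : ℚ) := by
        push_cast at h2 ⊢; linear_combination h2
      exact_mod_cast this
    have hnn : 0 ≤ num := by
      by_contra hlt
      have h4 : ((N * M : ℕ) : ℤ) * num < 0 := mul_neg_of_pos_of_neg (by exact_mod_cast hNM) (not_le.1 hlt)
      rw [← h3] at h4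
      exact absurd h4 (not_lt.2 (by positivity))
    simp only [State.final, State.add, Bool.and_eq_true, Nat.ble_eq, Nat.beq_eq]
    refine ⟨⟨⟨⟨⟨decide_eq_true hD, decide_eq_true hL⟩, by exact_mod_cast hq'⟩, by exact_mod_cast hd'⟩, decide_eq_true hnn⟩, ?_⟩
    refine Nat.mod_eq_zero_of_dvd ⟨n, ?_⟩
    have : ((N * M * num.natAbs : ℕ) : ℤ) = ((C * C * (st.den * l.f) * n : ℕ) : ℤ) := by
      rw [Nat.cast_mul (N * M), Int.natCast_natAbs, abs_of_nonneg hnn, ← h3]; push_cast; ring
    exact_mod_cast this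
  | succ k ih =>
    intro opts st h hden s l hs hsub hl hpos hD hL hq hd n hn
    obtain ⟨tl, htl, o, r, rfl, ho, hin⟩ := exists_first hsub
      (fun h0 => by rw [h0] at hs; simp at hs)
    obtain ⟨s', rfl⟩ := Multiset.exists_cons_of_mem ho
    have h1 := List.all_eq_true.1 h _ htl
    simp only [Bool.or_eq_true, Bool.not_eq_true', ← Bool.not_eq_true, Bool.and_eq_true, Nat.ble_eq] at h1
    simp only [Multiset.map_cons, Multiset.sum_cons] at hD hL hq hd hn
    have hof : 0 < o.f := hpos o (by simp)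
    have nn1 : (0 : ℤ) ≤ (l.w : ℤ) * (l.a * l.a) := mul_nonneg (by positivity) (mul_self_nonneg _)
    have nn2 : (0 : ℤ) ≤ (l.w : ℤ) * ((l.f : ℤ) * l.f) := by positivity
    have nn3 : (0 : ℤ) ≤ (s'.map fun x : Term => (x.w : ℤ) * (x.a * x.a)).sum :=
      Multiset.sum_nonneg fun y hy => by
        obtain ⟨x, -, rfl⟩ := Multiset.mem_map.1 hy
        exact mul_nonneg (by positivity) (mul_self_nonneg _)
    have nn4 : (0 : ℤ) ≤ (s'.map fun x : Term => (x.w : ℤ) * ((x.f : ℤ) * x.f)).sum :=
      Multiset.sum_nonneg fun y hy => by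
        obtain ⟨x, -, rfl⟩ := Multiset.mem_map.1 hy
        positivity
    have eq1 : ((o.w * o.a.natAbs * o.a.natAbs : ℕ) : ℤ) = (o.w : ℤ) * (o.a * o.a) := by
      push_cast; rw [mul_assoc, abs_mul_abs_self]
    have eq2 : ((o.w * o.f * o.f : ℕ) : ℤ) = (o.w : ℤ) * ((o.f : ℤ) * o.f) := by push_cast; ring
    rcases h1 with h1 | h1
    · refine h1 ⟨?_, ?_⟩ <;> omega
    · refine ih (st := st.add o) h1 (Nat.mul_pos hden hof) s' l (by simpa using hs)
        (fun x hx => hin x (Multiset.mem_cons_of_mem hx)) hl (fun x hx => hpos x ?_) ?_ ?_ ?_ ?_ n ?_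
      · rcases Multiset.mem_cons.1 hx with rfl | hx'
        · simp
        · exact Multiset.mem_cons_of_mem (Multiset.mem_cons_of_mem hx')
      all_goals simp only [State.add, Multiset.map_cons, Multiset.sum_cons]
      · linear_combination hD
      · linear_combination hL
      · push_cast [← eq1] at *; omega
      · push_cast [← eq2] at *; omega
      · rw [hn]; push_cast
        have : (st.den : ℚ) ≠ 0 := Nat.cast_ne_zero.2 hden.ne'
        field_simp
        ring

/-- The possible values at an element: congruent to `f` modulo `m`, with the index condition, bounded by `b`. -/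
def valList (i f m b : ℕ) : List ℤ :=
  ((List.range (2 * b + 1)).map fun k : ℕ => (k : ℤ) - (b : ℤ)).filter fun a =>
    Nat.blt a.natAbs f && decide (((f : ℤ) - a) % (m : ℤ) = 0) && Nat.beq ((i * a.natAbs) % f) 0

theorem mem_valList {i f m b C : ℕ} {a : ℤ} (hb : C < (b + 1) * (b + 1)) (h1 : |a| < f)
    (hm : (m : ℤ) ∣ (f : ℤ) - a) (hd : (f : ℤ) ∣ (i : ℤ) * a) (hC : a * a ≤ C) :
    a ∈ valList i f m b := by
  have hab : |a| ≤ b := by
    by_contra h
    have h2 : ((b : ℤ) + 1) * (b + 1) ≤ |a| * |a| := by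
      have := mul_le_mul (Int.lt_iff_add_one_le.1 (not_le.1 h)) (Int.lt_iff_add_one_le.1 (not_le.1 h))
        (by positivity) (abs_nonneg a)
      exact this
    rw [abs_mul_abs_self] at h2
    have h3 : (C : ℤ) < ((b : ℤ) + 1) * (b + 1) := by exact_mod_cast hb
    linarith
  rw [abs_le] at hab
  refine List.mem_filter.2 ⟨List.mem_map.2 ⟨(a + b).toNat, List.mem_range.2 (by omega), by omega⟩, ?_⟩
  simp only [Bool.and_eq_true, decide_eq_true_eq, Nat.blt_eq, Nat.beq_eq]
  refine ⟨⟨by rw [abs_lt] at h1; omega, Int.emod_eq_zero_of_dvd hm⟩, Nat.mod_eq_zero_of_dvd ?_⟩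
  have := Int.natAbs_dvd_natAbs.2 hd
  rwa [Int.natAbs_natCast, Int.natAbs_mul, Int.natAbs_natCast] at this

/-- A bound on the square root. -/
def sqrtBound (C : ℕ) : ℕ := Nat.sqrt C

theorem lt_sqrtBound (C : ℕ) : C < (sqrtBound C + 1) * (sqrtBound C + 1) := Nat.lt_succ_sqrt C

end Cfsg.Agent.M22Uniq
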