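import Cfsg.Agent.Lib.M22Uniq.Local

/-!
The search finds the actual columns and blocks.
-/

set_option linter.unusedSectionVars false
set_option linter.style.haveILetI false

namespace Cfsg.Agent.M22Uniq

open Cfsg Cfsg.Agent.Char Cfsg.Agent.Blocks Cfsg.Agent.CCSylow Cfsg.Agent.DefOne

open scoped ComplexConjugate

universe u

/-! ### Lists -/

/-- A bounded choice of values is found. -/
theorem mem_prods {α : Type*} {C : ℕ} (W : α → ℕ) (O : α → List ℤ) (A : α → ℤ) : ∀ (ms : List α) (q : ℕ),
    (∀ m ∈ ms, A m ∈ O m) → q + (ms.map fun m => W m * ((A m).natAbs * (A m).natAbs)).sum ≤ C →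
    ms.map A ∈ Engine.prods C (ms.map fun m => (W m, O m)) q
  | [], q, _, _ => by simp [Engine.prods]
  | m :: ms, q, h, hq => by
    simp only [List.map_cons, List.sum_cons] at hq
    simp only [List.map_cons, Engine.prods, List.mem_flatMap]
    refine ⟨A m, h m (by simp), ?_⟩
    rw [if_pos (by rw [Nat.ble_eq]; omega)]
    exact List.mem_map.2 ⟨_, mem_prods W O A ms _ (fun x hx => h x (by simp [hx])) (by omega), rfl⟩

theorem lin_map {α : Type*} (p : ℕ) (D : α → ℕ) (A : α → ℤ) : ∀ ms : List α,
    Engine.lin p (ms.map D) (ms.map A) = (ms.map fun m => Engine.sgn p (D m) * A m).sum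
  | [] => rfl
  | m :: ms => by simp [Engine.lin, lin_map p D A ms]

theorem quad_map {α : Type*} (p : ℕ) (D : α → ℕ) (A : α → ℤ) : ∀ ms : List α, (∀ m ∈ ms, 0 < D m) →
    0 < (Engine.quad p (ms.map D) (ms.map A)).2 ∧
    ((Engine.quad p (ms.map D) (ms.map A)).1 : ℂ) / ((Engine.quad p (ms.map D) (ms.map A)).2 : ℂ) =
      1 + (ms.map fun m => (Engine.sgn p (D m) : ℂ) * ((A m : ℂ) * (A m : ℂ)) / (D m : ℂ)).sum
  | [], _ => by simp [Engine.quad]
  | m :: ms, h => by
    obtain ⟨h1, h2⟩ := quad_map p D A ms fun x hx => h x (by simp [hx])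
    have hD : 0 < D m := h m (by simp)
    refine ⟨by simp only [List.map_cons, Engine.quad]; exact Nat.mul_pos h1 hD, ?_⟩
    simp only [List.map_cons, Engine.quad, List.sum_cons]
    push_cast
    rw [add_div, mul_div_mul_right _ _ (Nat.cast_ne_zero.2 hD.ne' : (D m : ℂ) ≠ 0), h2]
    have h1' : ((Engine.quad p (ms.map D) (ms.map A)).2 : ℂ) ≠ 0 := Nat.cast_ne_zero.2 h1.ne'
    field_simp
    ring

theorem not_beq {a b : ℕ} (h : a ≠ b) : (!(Nat.beq a b)) = true := by
  rw [Bool.not_eq_true', ← Bool.not_eq_true, Nat.beq_eq]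
  exact h

theorem zipWith_map {α β γ δ : Type*} (f : β → γ → δ) (g : α → β) (k : α → γ) : ∀ ms : List α,
    List.zipWith f (ms.map g) (ms.map k) = ms.map fun m => f (g m) (k m)
  | [] => rfl
  | m :: ms => by simp [zipWith_map f g k ms]

theorem zip_maps {α β γ : Type*} (g : α → β) (k : α → γ) : ∀ ms : List α,
    (ms.map g).zip (ms.map k) = ms.map fun m => (g m, k m)
  | [] => rfl
  | m :: ms => by simp [zip_maps g k ms]

theorem sum_filter_weight {α : Type*} (c : α → Bool) (f : α → ℕ) : ∀ ms : List α,
    ((ms.filter fun m => !(c m)).map f).sum = (ms.map fun m => (if c m then 0 else 1) * f m).sum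
  | [] => rfl
  | m :: ms => by cases h : c m <;> simp [h, sum_filter_weight c f ms]

theorem count_map_le {α β : Type*} [BEq β] [LawfulBEq β] {l₁ l₂ : List α} (h₁ : l₁.Nodup) (f : α → β) (b : β)
    (h : ∀ a ∈ l₁, f a = b → a ∈ l₂) : (l₁.map f).count b ≤ (l₂.map f).count b := by
  rw [List.count_eq_countP, List.count_eq_countP, List.countP_map, List.countP_map,
    List.countP_eq_length_filter, List.countP_eq_length_filter]
  refine ((h₁.filter _).subperm ?_).length_le
  intro a ha
  obtain ⟨ha, hb⟩ := List.mem_filter.1 ha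
  exact List.mem_filter.2 ⟨h a ha (by simpa using hb), hb⟩

theorem mem_vals {i f m R : ℕ} {a : ℤ} (h : Engine.okVal i f m a = true) (hR : a.natAbs * a.natAbs ≤ R) :
    a ∈ Engine.vals i f m R := by
  have hb : a.natAbs ≤ Nat.sqrt R := Nat.le_sqrt.2 hR
  simp only [Engine.vals, List.mem_filter, List.mem_map, List.mem_range]
  refine ⟨⟨(a + (Nat.sqrt R : ℤ)).toNat, by omega, by omega⟩, h⟩

theorem multiCombos_sorted : ∀ (l : List ℕ) (n : ℕ) (t : List ℕ), l.Pairwise (· < ·) →
    t ∈ M12Uniq.multiCombos l n → t.Pairwise (· ≤ ·) ∧ ∀ x ∈ t, x ∈ l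
  | [], n, t, _, h => by
    simp only [M12Uniq.multiCombos] at h
    split_ifs at h
    · obtain rfl := List.mem_singleton.1 h
      simp
    · simp at h
  | a :: l, n, t, hl, h => by
    simp only [M12Uniq.multiCombos, List.mem_flatMap, List.mem_map] at h
    obtain ⟨j, -, t', ht', rfl⟩ := h
    obtain ⟨hl1, hl2⟩ := List.pairwise_cons.1 hl
    obtain ⟨h1, h2⟩ := multiCombos_sorted l _ t' hl2 ht'
    constructor
    · rw [List.pairwise_append]
      refine ⟨List.pairwise_replicate.2 (Or.inr le_rfl), h1, fun x hx y hy => ?_⟩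
      rw [List.eq_of_mem_replicate hx]
      exact (hl1 y (h2 y hy)).le
    · intro x hx
      rcases List.mem_append.1 hx with h' | h'
      · rw [List.eq_of_mem_replicate h']; simp
      · simp [h2 x h']

theorem mem_multiCombos {l fs : List ℕ} (hl : l.Pairwise (· < ·)) (hfs : fs.Pairwise (· ≤ ·))
    (h : ∀ x ∈ fs, x ∈ l) : fs ∈ M12Uniq.multiCombos l fs.length := by
  obtain ⟨t, ht, hts⟩ := M12Uniq.exists_multiCombo l (↑fs : Multiset ℕ) (by simpa using h)
  rw [Multiset.coe_card] at ht
  have hperm : t.Perm fs := Multiset.coe_eq_coe.1 hts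
  exact (hperm.eq_of_pairwise (fun a b _ _ => le_antisymm) (multiCombos_sorted _ _ _ hl ht).1 hfs) ▸ ht

variable {G : Type u} [Group G] [Fintype G]

/-- The value at an element as an integer, where it is one. -/
noncomputable def ival (s : G) (χ : IrrCharacter G) : ℤ := by
  classical exact if h : ∃ a : ℤ, (χ : G → ℂ) s = a then h.choose else 0

theorem ival_spec {s : G} (hs : orderOf s = 2) (χ : IrrCharacter G) : (χ : G → ℂ) s = (ival s χ : ℂ) := by
  classical
  have h := exists_int_of_sq (IsIrrCharacter.isCharacter χ.2) (t := s)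
    (by rw [← pow_two, ← hs, pow_orderOf_eq_one])
  rw [ival, dif_pos h]
  exact h.choose_spec

/-- The list of all the nonprincipal characters with closed degree. -/
def Known (closed : ℕ → Bool) (L : List (IrrCharacter G)) : Prop :=
  L.Nodup ∧ ∀ χ, χ ∈ L ↔ χ ≠ principal G ∧ closed (charDegree (χ : G → ℂ)) = true

/-- The column of a list of characters. -/
noncomputable def colOf (L : List (IrrCharacter G)) (s : G) : Engine.Column :=
  (Nat.card (Subgroup.centralizer ({s} : Set G)),
    L.map fun χ : IrrCharacter G => (charDegree (χ : G → ℂ), ival s χ))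

/-- The list extended by a block. -/
noncomputable def extList (closed : ℕ → Bool) (L : List (IrrCharacter G)) (ms : List (IrrCharacter G)) :
    List (IrrCharacter G) :=
  L ++ ms.filter fun χ : IrrCharacter G => !(closed (charDegree (χ : G → ℂ)))

theorem extList_nodup {closed : ℕ → Bool} {L ms : List (IrrCharacter G)} (hL : Known closed L)
    (hms : ms.Nodup) : (extList closed L ms).Nodup := by
  refine List.nodup_append.2 ⟨hL.1, hms.filter _, fun a ha b hb hab => ?_⟩
  subst hab
  have h := ((hL.2 a).1 ha).2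
  simp [h] at hb

theorem extList_ne {closed : ℕ → Bool} {L ms : List (IrrCharacter G)} (hL : Known closed L)
    (hms : ∀ χ ∈ ms, χ ≠ principal G) : ∀ χ ∈ extList closed L ms, χ ≠ principal G := fun χ hχ => by
  rcases List.mem_append.1 hχ with h | h
  · exact ((hL.2 χ).1 h).1
  · exact hms χ (List.mem_filter.1 h).1

/-- The norm of a column. -/
theorem norm_le {s : G} (hs : orderOf s = 2) {l : List (IrrCharacter G)} (hl : l.Nodup)
    (hne : ∀ χ ∈ l, χ ≠ principal G) :
    1 + (l.map fun χ => (ival s χ).natAbs * (ival s χ).natAbs).sum ≤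
      Nat.card (Subgroup.centralizer ({s} : Set G)) := by
  classical
  have h := M12Uniq.sum_sq_le s (insert (principal G) l.toFinset) (ival s) fun χ _ => ival_spec hs χ
  rw [Finset.sum_insert fun h => hne _ (List.mem_toFinset.1 h) rfl, List.sum_toFinset _ hl] at h
  have h1 : ival s (principal G) = 1 := by
    have := (ival_spec hs (principal G)).symm
    simp only [principal] at this
    exact_mod_cast this
  rw [h1] at h
  have e : ((l.map fun χ => (ival s χ).natAbs * (ival s χ).natAbs).sum : ℤ) =
      (l.map fun χ => ival s χ ^ 2).sum := by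
    rw [Nat.cast_list_sum, List.map_map]
    congr 1
    refine List.map_congr_left fun χ _ => ?_
    simp [← pow_two]
  omega

section Order

variable [IsSimpleGroup G] (hG : Nat.card G = 443520)

include hG

theorem two_le_deg {χ : IrrCharacter G} (hne : χ ≠ principal G) : 2 ≤ charDegree (χ : G → ℂ) := by
  have := charDegree_pos χ
  by_contra h
  exact hne (eq_principal hG (by omega))

/-- The conditions on one value hold. -/
theorem okVal_ival {χ : IrrCharacter G} (hne : χ ≠ principal G) {s : G} (hs : orderOf s = 2) {m : ℕ}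
    (hm : (m : ℤ) ∣ (charDegree (χ : G → ℂ) : ℤ) - ival s χ) :
    Engine.okVal (443520 / Nat.card (Subgroup.centralizer ({s} : Set G))) (charDegree (χ : G → ℂ)) m
      (ival s χ) = true := by
  obtain ⟨a, ha, -, hlt⟩ := involution_range hG hne hs
  have hai : a = ival s χ := by
    have := ival_spec hs χ
    rw [ha] at this
    exact_mod_cast this
  subst hai
  have hd := M12Uniq.dvd_index_mul χ ha
  have h2 : (Subgroup.centralizer ({s} : Set G)).index =
      443520 / Nat.card (Subgroup.centralizer ({s} : Set G)) := by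
    rw [← hG, ← Subgroup.index_mul_card (Subgroup.centralizer ({s} : Set G)),
      Nat.mul_div_cancel _ Nat.card_pos]
  rw [h2] at hd
  have hd' := Int.natAbs_dvd_natAbs.2 hd
  rw [Int.natAbs_mul, Int.natAbs_natCast, Int.natAbs_natCast] at hd'
  have hlt' : (ival s χ).natAbs < charDegree (χ : G → ℂ) := by
    rw [abs_lt] at hlt; omega
  simp only [Engine.okVal, Bool.and_eq_true, Nat.beq_eq, Nat.blt_eq]
  exact ⟨⟨hlt', Nat.mod_eq_zero_of_dvd (Int.natCast_dvd.1 hm)⟩, Nat.mod_eq_zero_of_dvd hd'⟩

theorem four_dvd {χ : IrrCharacter G} (hne : χ ≠ principal G) {s : G} (hs : orderOf s = 2) :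
    ((4 : ℕ) : ℤ) ∣ (charDegree (χ : G → ℂ) : ℤ) - ival s χ := by
  obtain ⟨a, ha, h4, -⟩ := involution_range hG hne hs
  have := ival_spec hs χ
  rw [ha] at this
  have h : a = ival s χ := by exact_mod_cast this
  subst h
  simpa using h4

variable {p e : ℕ} {V : Subgroup G} {tp : Engine.Tup} {cs ths : List (IrrCharacter G)}

omit [IsSimpleGroup G] hG in
theorem dlt_sign (p : ℕ) (tp : Engine.Tup) : Engine.dlt p tp = 1 ∨ Engine.dlt p tp = -1 := by
  rw [Engine.dlt]; split_ifs <;> simp

omit hG in
/-- The common value of the second family. -/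
theorem ths_val (B : Blk p e V tp cs ths) {s : G} (hs : orderOf s = 2) (hp : ¬ p ∣ 2) :
    ∀ θ ∈ ths, ival s θ = -Engine.dlt p tp *
      (1 + Engine.lin p tp.1 (cs.map (ival s))) := by
  intro θ hθ
  have h := B.relation s (by rwa [hs]) θ hθ
  have h0 : (1 + Engine.lin p tp.1 (cs.map (ival s))) + Engine.dlt p tp * ival s θ = 0 := by
    have h' : (((1 + Engine.lin p tp.1 (cs.map (ival s))) + Engine.dlt p tp * ival s θ : ℤ) : ℂ) =
        ((0 : ℤ) : ℂ) := by
      rw [← B.degX, lin_map, Int.cast_zero, ← h, ival_spec hs θ]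
      push_cast
      rw [List.map_map]
      congr 2
      congr 1
      refine List.map_congr_left fun χ _ => ?_
      simp only [Function.comp_apply, ival_spec hs χ, Int.cast_mul]
    exact_mod_cast h'
  rcases dlt_sign p tp with e1 | e1 <;> rw [e1] at h0 ⊢ <;> omega

omit hG in
theorem deg_pos_tp (B : Blk p e V tp cs ths) : 0 < tp.2 ∧ ∀ d ∈ tp.1, 0 < d := by
  constructor
  · obtain ⟨θ, hθ⟩ := List.exists_mem_of_ne_nil _ B.nonempty
    have h : charDegree (θ : G → ℂ) ∈ List.replicate ((p - 1) / e) tp.2 := B.degY ▸ List.mem_map_of_mem hθ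
    rw [← List.eq_of_mem_replicate h]
    exact charDegree_pos θ
  · intro d hd
    rw [← B.degX] at hd
    obtain ⟨χ, -, rfl⟩ := List.mem_map.1 hd
    exact charDegree_pos χ

omit hG in
/-- The second family as a constant list of pairs. -/
theorem ths_pairs (B : Blk p e V tp cs ths) {s : G} (hs : orderOf s = 2) (hp : ¬ p ∣ 2) :
    ths.map (fun χ : IrrCharacter G => (charDegree (χ : G → ℂ), ival s χ)) = List.replicate ((p - 1) / e)
      (tp.2, -Engine.dlt p tp * (1 + Engine.lin p tp.1 (cs.map (ival s)))) := by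
  refine List.eq_replicate_iff.2 ⟨?_, fun z hz => ?_⟩
  · rw [List.length_map]
    have := congrArg List.length B.degY
    rwa [List.length_map, List.length_replicate] at this
  · obtain ⟨χ, hχ, rfl⟩ := List.mem_map.1 hz
    have h : charDegree (χ : G → ℂ) ∈ List.replicate ((p - 1) / e) tp.2 := B.degY ▸ List.mem_map_of_mem hχ
    exact Prod.ext (List.eq_of_mem_replicate h) (ths_val B hs hp χ hχ)

omit hG in
/-- The count of pairs. -/
theorem count_eq (B : Blk p e V tp cs ths) {s : G} (hs : orderOf s = 2) (hp : ¬ p ∣ 2) :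
    ∃ k : ℕ, (Odd e → k = 0) ∧
      (p : ℤ) * (k * k) * ((Nat.card (Subgroup.centralizer ({s} : Set G)) : ℤ) *
        Nat.card (Subgroup.centralizer ({s} : Set G))) *
        ((Engine.quad p tp.1 (cs.map (ival s))).2 * tp.2 : ℕ) =
      443520 * (Nat.card V : ℤ) * ((Engine.quad p tp.1 (cs.map (ival s))).1 * tp.2 + Engine.dlt p tp *
        ((-Engine.dlt p tp * (1 + Engine.lin p tp.1 (cs.map (ival s)))) *
          (-Engine.dlt p tp * (1 + Engine.lin p tp.1 (cs.map (ival s))))) *
        (Engine.quad p tp.1 (cs.map (ival s))).2) := by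
  obtain ⟨θ, hθ⟩ := List.exists_mem_of_ne_nil _ B.nonempty
  obtain ⟨k, hk0, hk⟩ := B.count s hs θ hθ
  refine ⟨k, hk0, ?_⟩
  obtain ⟨hxp, hfp⟩ := deg_pos_tp B
  have hq := quad_map p (fun χ : IrrCharacter G => charDegree (χ : G → ℂ)) (ival s) cs
    (fun χ _ => charDegree_pos χ)
  rw [B.degX] at hq
  obtain ⟨hd0, hq⟩ := hq
  set w := Engine.quad p tp.1 (cs.map (ival s))
  rw [← ths_val B hs hp θ hθ]
  have h1 : (1 : ℂ) + (cs.map fun χ : IrrCharacter G => (Engine.sgn p (charDegree (χ : G → ℂ)) : ℂ) *
        ((χ : G → ℂ) s * (χ : G → ℂ) s) / (charDegree (χ : G → ℂ) : ℂ)).sum = (w.1 : ℂ) / (w.2 : ℂ) := by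
    rw [hq]
    congr 2
    exact List.map_congr_left fun χ _ => by rw [ival_spec hs χ]
  rw [h1, ival_spec hs θ] at hk
  have hd' : (w.2 : ℂ) ≠ 0 := Nat.cast_ne_zero.2 hd0.ne'
  have hx' : (tp.2 : ℂ) ≠ 0 := Nat.cast_ne_zero.2 hxp.ne'
  have : ((((p : ℤ) * (k * k) * ((Nat.card (Subgroup.centralizer ({s} : Set G)) : ℤ) *
        Nat.card (Subgroup.centralizer ({s} : Set G))) * ((w.2 * tp.2 : ℕ) : ℤ)) : ℤ) : ℂ) =
      ((443520 * (Nat.card V : ℤ) * (w.1 * tp.2 + Engine.dlt p tp * (ival s θ * ival s θ) * w.2) : ℤ) : ℂ) := by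
    push_cast
    rw [hk]
    field_simp
  exact_mod_cast this

/-- The columns of the block at eleven are found. -/
theorem mem_rowsEleven (B : Blk 11 5 V tp cs ths) {s : G} (hs : orderOf s = 2) (m : ℕ → ℕ)
    (hm : ∀ χ ∈ cs ++ ths, (m (charDegree (χ : G → ℂ)) : ℤ) ∣ (charDegree (χ : G → ℂ) : ℤ) - ival s χ) :
    colOf (cs ++ ths) s ∈ Engine.rowsEleven tp.1 tp.2 (Engine.dlt 11 tp) m
      (Nat.card (Subgroup.centralizer ({s} : Set G))) := by
  set C := Nat.card (Subgroup.centralizer ({s} : Set G))
  have hp : ¬ 11 ∣ 2 := by norm_num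
  have hn := norm_le hs B.nodup B.ne_principal
  have hY : ths.map (fun χ => (ival s χ).natAbs * (ival s χ).natAbs) = List.replicate 2
      ((-Engine.dlt 11 tp * (1 + Engine.lin 11 tp.1 (cs.map (ival s)))).natAbs *
        (-Engine.dlt 11 tp * (1 + Engine.lin 11 tp.1 (cs.map (ival s)))).natAbs) := by
    have := congrArg (List.map fun z : ℕ × ℤ => z.2.natAbs * z.2.natAbs) (ths_pairs B hs hp)
    rw [List.map_map, List.map_replicate] at this
    exact this
  rw [List.map_append, List.sum_append, hY, List.sum_replicate, smul_eq_mul] at hn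
  simp only [Engine.rowsEleven, List.mem_filterMap]
  refine ⟨cs.map (ival s), ?_, ?_⟩
  · have e1 : (tp.1.map fun d => ((1 : ℕ), Engine.vals (443520 / C) d (m d) C)) = cs.map fun χ : IrrCharacter G =>
        ((1 : ℕ), Engine.vals (443520 / C) (charDegree (χ : G → ℂ)) (m (charDegree (χ : G → ℂ))) C) := by
      rw [← B.degX, List.map_map]; rfl
    rw [e1]
    refine mem_prods (fun _ => 1) _ _ cs 1 (fun χ hχ => ?_) (by simp only [one_mul]; omega)
    refine mem_vals (okVal_ival hG (B.ne_principal χ (by simp [hχ])) hs (hm χ (by simp [hχ]))) ?_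
    have := List.le_sum_of_mem (List.mem_map_of_mem (f := fun χ => (ival s χ).natAbs * (ival s χ).natAbs) hχ)
    omega
  · obtain ⟨θ, hθ⟩ := List.exists_mem_of_ne_nil _ B.nonempty
    obtain ⟨k, hk0, hk⟩ := count_eq B hs hp
    rw [hk0 (by decide)] at hk
    have hth := ths_val B hs hp θ hθ
    set ev := -Engine.dlt 11 tp * (1 + Engine.lin 11 tp.1 (cs.map (ival s))) with hev
    have hok : Engine.okVal (443520 / C) tp.2 (m tp.2) ev = true := by
      have h1 := okVal_ival hG (B.ne_principal θ (by simp [hθ])) hs (hm θ (by simp [hθ]))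
      have h2 : charDegree (θ : G → ℂ) ∈ List.replicate ((11 - 1) / 5) tp.2 := B.degY ▸ List.mem_map_of_mem hθ
      rwa [hth, List.eq_of_mem_replicate h2] at h1
    have hz : (Engine.quad 11 tp.1 (cs.map (ival s))).1 * tp.2 + Engine.dlt 11 tp * (ev * ev) *
        (Engine.quad 11 tp.1 (cs.map (ival s))).2 = 0 := by
      have hV : (443520 : ℤ) * (Nat.card V : ℤ) ≠ 0 := mul_ne_zero (by norm_num) (Nat.cast_ne_zero.2 Nat.card_pos.ne')
      refine (mul_eq_zero.1 (hk.symm.trans ?_)).resolve_left hV
      simp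
    have hN : 1 + ((cs.map (ival s)).map fun a => a.natAbs * a.natAbs).sum + 2 * (ev.natAbs * ev.natAbs) ≤ C := by
      rw [List.map_map]
      simp only [Function.comp_def] at hn ⊢
      omega
    rw [if_pos (by
      simp only [Bool.and_eq_true, Nat.ble_eq, beq_iff_eq]
      exact ⟨⟨hok, hN⟩, hz⟩)]
    refine congrArg some (Prod.ext rfl ?_)
    show _ = (cs ++ ths).map _
    have hzip : tp.1.zip (cs.map (ival s)) =
        cs.map fun χ : IrrCharacter G => (charDegree (χ : G → ℂ), ival s χ) := by rw [← B.degX, zip_maps]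
    rw [List.map_append, ths_pairs B hs hp, hzip]
    rfl

/-- The extension of a column is found. -/
theorem mem_ext (B : Blk p e V tp cs ths) {closed : ℕ → Bool} {L : List (IrrCharacter G)}
    (hL : Known closed L) {s : G} (hs : orderOf s = 2) (hp : ¬ p ∣ 2) {cong : Bool}
    (hc : cong = true → ∀ χ ∈ cs ++ ths, (p : ℤ) ∣ (charDegree (χ : G → ℂ) : ℤ) - ival s χ) :
    colOf (extList closed L (cs ++ ths)) s ∈
      Engine.ext p e (Nat.card V) closed cong tp (colOf L s) := by
  set C := Nat.card (Subgroup.centralizer ({s} : Set G)) with hC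
  set ev := -Engine.dlt p tp * (1 + Engine.lin p tp.1 (cs.map (ival s))) with hev
  have hn := norm_le hs (extList_nodup hL B.nodup) (extList_ne hL B.ne_principal)
  rw [extList, List.map_append, List.sum_append,
    sum_filter_weight (fun χ : IrrCharacter G => closed (charDegree (χ : G → ℂ))), List.map_append,
    List.sum_append] at hn
  have hY : (ths.map fun χ : IrrCharacter G => (if closed (charDegree (χ : G → ℂ)) then 0 else 1) *
      ((ival s χ).natAbs * (ival s χ).natAbs)) = List.replicate ((p - 1) / e)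
      ((if closed tp.2 then 0 else 1) * (ev.natAbs * ev.natAbs)) := by
    have := congrArg (List.map fun z : ℕ × ℤ => (if closed z.1 then 0 else 1) * (z.2.natAbs * z.2.natAbs))
      (ths_pairs B hs hp)
    rw [List.map_map, List.map_replicate] at this
    exact this
  rw [hY, List.sum_replicate, smul_eq_mul] at hn
  have hq0 : Engine.normKn (colOf L s).2 = 1 + (L.map fun χ => (ival s χ).natAbs * (ival s χ).natAbs).sum := by
    simp [Engine.normKn, colOf, List.map_map, Function.comp_def]
  have hknown : ∀ χ : IrrCharacter G, χ ≠ principal G → closed (charDegree (χ : G → ℂ)) = true →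
      (charDegree (χ : G → ℂ), ival s χ) ∈ (colOf L s).2 := fun χ hne h =>
    List.mem_map.2 ⟨χ, (hL.2 χ).2 ⟨hne, h⟩, rfl⟩
  simp only [Engine.ext, List.mem_filterMap]
  rw [show (colOf L s).1 = C from rfl]
  refine ⟨cs.map (ival s), ?_, ?_⟩
  · rw [← B.degX, List.map_map]
    refine mem_prods (fun χ : IrrCharacter G => if closed (charDegree (χ : G → ℂ)) then 0 else 1) _ _ cs _
      (fun χ hχ => ?_) ?_
    · refine List.mem_filter.2 ⟨?_, ?_⟩
      · have hne := B.ne_principal χ (by simp [hχ])
        by_cases h : closed (charDegree (χ : G → ℂ)) = true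
        · rw [if_pos h]
          refine List.mem_map.2 ⟨_, List.mem_filter.2 ⟨hknown χ hne h, ?_⟩, rfl⟩
          simp
        · rw [if_neg h]
          refine mem_vals (okVal_ival hG hne hs (four_dvd hG hne hs)) ?_
          have := List.le_sum_of_mem (List.mem_map_of_mem (f := fun χ : IrrCharacter G =>
            (if closed (charDegree (χ : G → ℂ)) then 0 else 1) * ((ival s χ).natAbs * (ival s χ).natAbs)) hχ)
          rw [if_neg h, one_mul] at this
          rw [hq0]
          show _ ≤ C - _
          omega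
      · cases cong
        · rfl
        · simp only [Bool.not_true, Bool.false_or, Nat.beq_eq]
          exact Nat.mod_eq_zero_of_dvd (Int.natCast_dvd.1 (hc rfl χ (by simp [hχ])))
    · rw [hq0]
      show _ ≤ C
      omega
  · simp only [← hev]
    obtain ⟨θ, hθ⟩ := List.exists_mem_of_ne_nil _ B.nonempty
    have hth := ths_val B hs hp θ hθ
    have hθd : charDegree (θ : G → ℂ) = tp.2 := by
      have h2 : charDegree (θ : G → ℂ) ∈ List.replicate ((p - 1) / e) tp.2 := B.degY ▸ List.mem_map_of_mem hθ
      exact List.eq_of_mem_replicate h2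
    have hθne := B.ne_principal θ (by simp [hθ])
    obtain ⟨k, hk0, hk⟩ := count_eq B hs hp
    have hd0 : 0 < (Engine.quad p tp.1 (cs.map (ival s))).2 := by
      rw [← B.degX]; exact (quad_map p _ _ cs fun χ _ => charDegree_pos χ).1
    rw [← hev] at hk hth
    have hA : (if closed tp.2 then ((colOf L s).2.filter fun z => Nat.beq z.1 tp.2).any fun z => z.2 == ev
        else Engine.okVal (443520 / C) tp.2 4 ev) = true := by
      by_cases h : closed tp.2 = true
      · rw [if_pos h, List.any_eq_true]
        exact ⟨_, List.mem_filter.2 ⟨hknown θ hθne (hθd ▸ h), by simp [hθd]⟩, by simp [hth]⟩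
      · rw [if_neg h, ← hθd, ← hth]
        exact okVal_ival hG hθne hs (four_dvd hG hθne hs)
    have hB : (!cong || Nat.beq (((tp.2 : ℤ) - ev).natAbs % p) 0) = true := by
      cases cong
      · rfl
      · simp only [Bool.not_true, Bool.false_or, Nat.beq_eq]
        rw [← hθd, ← hth]
        exact Nat.mod_eq_zero_of_dvd (Int.natCast_dvd.1 (hc rfl θ (by simp [hθ])))
    have hzw : List.zipWith (fun (wl : ℕ × List ℤ) (b : ℤ) => wl.1 * (b.natAbs * b.natAbs))
        (tp.1.map fun d => ((if closed d then 0 else 1 : ℕ),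
          (if closed d then ((colOf L s).2.filter fun z => Nat.beq z.1 d).map (·.2)
            else Engine.vals (443520 / C) d 4 (C - Engine.normKn (colOf L s).2)).filter
              fun a => !cong || Nat.beq (((d : ℤ) - a).natAbs % p) 0)) (cs.map (ival s)) =
        cs.map fun χ : IrrCharacter G => (if closed (charDegree (χ : G → ℂ)) then 0 else 1) *
          ((ival s χ).natAbs * (ival s χ).natAbs) := by
      rw [← B.degX, List.map_map, zipWith_map]
      rfl
    have hN : (if closed tp.2 then 0 else (p - 1) / e) * (ev.natAbs * ev.natAbs) =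
        (p - 1) / e * ((if closed tp.2 then 0 else 1) * (ev.natAbs * ev.natAbs)) := by
      split_ifs <;> ring
    have hcount : Engine.countOK p e (Nat.card V) C
        ((Engine.quad p tp.1 (cs.map (ival s))).1 * tp.2 + Engine.dlt p tp * (ev * ev) *
          (Engine.quad p tp.1 (cs.map (ival s))).2)
        ((Engine.quad p tp.1 (cs.map (ival s))).2 * tp.2) = true := by
      set num := (Engine.quad p tp.1 (cs.map (ival s))).1 * tp.2 + Engine.dlt p tp * (ev * ev) *
          (Engine.quad p tp.1 (cs.map (ival s))).2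
      set den := (Engine.quad p tp.1 (cs.map (ival s))).2 * tp.2 with hden
      have hden0 : 0 < den := Nat.mul_pos hd0 (deg_pos_tp B).1
      have hV : (0 : ℤ) < 443520 * (Nat.card V : ℤ) := mul_pos (by norm_num) (Nat.cast_pos.2 Nat.card_pos)
      by_cases he : Nat.beq (e % 2) 1 = true
      · rw [Engine.countOK, if_pos he]
        rw [hk0 (Nat.odd_iff.2 (Nat.eq_of_beq_eq_true he))] at hk
        simp only [Nat.cast_zero, mul_zero, zero_mul] at hk
        rw [beq_iff_eq]
        exact (mul_eq_zero.1 hk.symm).resolve_left hV.ne'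
      · rw [Engine.countOK, if_neg he]
        have hp0 : 0 < p := Nat.pos_of_ne_zero fun h => by
          have := congrArg List.length B.degY
          rw [h, List.length_map, List.length_replicate, Nat.zero_sub, Nat.zero_div] at this
          exact B.nonempty (List.eq_nil_of_length_eq_zero this)
        have hpos : 0 ≤ num := by
          refine nonneg_of_mul_nonneg_right ?_ hV
          rw [← hk]
          positivity
        obtain ⟨n, hn'⟩ := Int.eq_ofNat_of_zero_le hpos
        rw [hn'] at hk ⊢
        have hk' : p * (k * k) * (C * C) * den = 443520 * Nat.card V * n := by exact_mod_cast hk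
        have e1 : 443520 * Nat.card V * n = p * (C * C) * den * (k * k) := by rw [← hk']; ring
        simp only [Bool.and_eq_true, decide_eq_true_eq, Nat.beq_eq, Engine.isSq, Int.natAbs_natCast]
        rw [e1, Nat.mul_div_cancel_left _ (Nat.mul_pos (Nat.mul_pos hp0 (Nat.mul_pos Nat.card_pos Nat.card_pos)) hden0),
          Nat.mul_mod_right, Nat.sqrt_eq]
        exact ⟨⟨Int.natCast_nonneg n, rfl⟩, rfl⟩
    rw [if_pos (by
      simp only [Bool.and_eq_true, Nat.ble_eq]
      refine ⟨⟨⟨hA, hB⟩, ?_⟩, hcount⟩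
      show _ ≤ C
      rw [hzw, hN, hq0]
      omega)]
    refine congrArg some (Prod.ext rfl ?_)
    show (colOf L s).2 ++ _ = (extList closed L (cs ++ ths)).map _
    rw [extList, List.map_append, show (colOf L s).2 = L.map _ from rfl]
    congr 1
    have hzip : tp.1.zip (cs.map (ival s)) =
        cs.map fun χ : IrrCharacter G => (charDegree (χ : G → ℂ), ival s χ) := by rw [← B.degX, zip_maps]
    rw [← ths_pairs B hs hp, hzip, ← List.map_append, List.filter_map]
    rfl

/-- The block is among the possible ones. -/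
theorem mem_tuples (B : Blk p e V tp cs ths) {closed : ℕ → Bool} {L : List (IrrCharacter G)}
    (hL : Known closed L) :
    tp ∈ Engine.tuples p e (Nat.card V) closed (L.map fun χ : IrrCharacter G => charDegree (χ : G → ℂ)) := by
  set degs := L.map fun χ : IrrCharacter G => charDegree (χ : G → ℂ) with hdegs
  have hmem : tp.1 ++ List.replicate ((p - 1) / e) tp.2 =
      (cs ++ ths).map fun χ : IrrCharacter G => charDegree (χ : G → ℂ) := by
    rw [List.map_append, B.degX, B.degY]
  have hpool : ∀ χ ∈ cs ++ ths, charDegree (χ : G → ℂ) ∈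
      Engine.allDegs.filter fun d => !(closed d) || degs.contains d := fun χ hχ => by
    have hne := B.ne_principal χ hχ
    obtain ⟨h1, h2⟩ := deg_facts hG χ
    have h3 := two_le_deg hG hne
    refine List.mem_filter.2 ⟨List.mem_filter.2 ⟨List.mem_range.2 (by omega), ?_⟩, ?_⟩
    · simp only [Bool.and_eq_true, Nat.ble_eq, Nat.beq_eq]
      exact ⟨h3, Nat.mod_eq_zero_of_dvd h2⟩
    · by_cases h : closed (charDegree (χ : G → ℂ)) = true
      · simp only [h, Bool.not_true, Bool.false_or, List.contains_iff_mem]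
        exact List.mem_map.2 ⟨χ, (hL.2 χ).2 ⟨hne, h⟩, rfl⟩
      · simp [h]
  obtain ⟨θ, hθ⟩ := List.exists_mem_of_ne_nil _ B.nonempty
  have hθd : charDegree (θ : G → ℂ) = tp.2 := by
    have h2 : charDegree (θ : G → ℂ) ∈ List.replicate ((p - 1) / e) tp.2 := B.degY ▸ List.mem_map_of_mem hθ
    exact List.eq_of_mem_replicate h2
  have hsorted : ∀ (f g : ℕ → Bool) (h : ℕ → Bool), ((((List.range 666).filter f).filter g).filter h).Pairwise (· < ·) :=
    fun f g h => ((List.pairwise_lt_range.filter _).filter _).filter _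
  simp only [Engine.tuples, List.mem_filterMap]
  refine ⟨tp.1, ?_, ?_⟩
  · rw [← B.len]
    refine mem_multiCombos (hsorted _ _ _) B.sorted fun d hd => ?_
    obtain ⟨hd1, hd2⟩ := B.modX d hd
    rw [← B.degX] at hd
    obtain ⟨χ, hχ, rfl⟩ := List.mem_map.1 hd
    refine List.mem_filter.2 ⟨hpool χ (by simp [hχ]), ?_⟩
    simp only [Bool.and_eq_true, Bool.or_eq_true, Nat.beq_eq]
    exact ⟨hd1, hd2⟩
  · rw [← B.deg_eq]
    have h1 : (List.filter (fun d => Nat.beq (d % p) (e % p) || Nat.beq (d % p) ((p - e) % p))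
        (Engine.allDegs.filter fun d => !(closed d) || degs.contains d)).contains tp.2 = true := by
      rw [List.contains_iff_mem]
      refine List.mem_filter.2 ⟨hθd ▸ hpool θ (by simp [hθ]), ?_⟩
      simp only [Bool.or_eq_true, Nat.beq_eq]
      exact B.modY.1
    have h2 : Nat.beq (((tp.2 : ℤ) + Engine.dlt p (tp.1, tp.2) * (e : ℤ)).natAbs % p) 0 = true :=
      by rw [Nat.beq_eq]; exact B.modY.2
    have h3 : (!(Nat.beq e (p - 1)) || (tp.1.all fun d => Nat.ble d tp.2) &&
        Nat.beq (443520 / (p * Nat.card V) % tp.2) 0) = true := by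
      by_cases he : e = p - 1
      · obtain ⟨ha, hb⟩ := B.last he
        simp only [Bool.or_eq_true, Bool.and_eq_true, List.all_eq_true, Nat.ble_eq, Nat.beq_eq]
        exact Or.inr ⟨ha, hb⟩
      · rw [not_beq he, Bool.true_or]
    have h4 : Nat.ble (1 + ((degs ++ (tp.1 ++ List.replicate ((p - 1) / e) tp.2).filter fun d => !(closed d)).map
        fun d => d * d).sum) 443520 = true := by
      classical
      rw [Nat.ble_eq, hmem, List.filter_map, hdegs, ← List.map_append, List.map_map]
      have h := Finset.sum_le_sum_of_subset (f := fun χ : IrrCharacter G => charDegree (χ : G → ℂ) ^ 2)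
        (Finset.subset_univ (insert (principal G) (extList closed L (cs ++ ths)).toFinset))
      rw [Cfsg.Agent.CharX.sum_deg_sq, hG,
        Finset.sum_insert fun h => extList_ne hL B.ne_principal _ (List.mem_toFinset.1 h) rfl,
        List.sum_toFinset _ (extList_nodup hL B.nodup),
        show charDegree (principal G : G → ℂ) = 1 from Cfsg.Agent.CharX.charDegree_one, one_pow] at h
      simp only [pow_two] at h
      simpa [extList, Function.comp_def] using h
    have h5 : ((tp.1 ++ List.replicate ((p - 1) / e) tp.2).all fun d => !(closed d) ||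
        Nat.ble ((tp.1 ++ List.replicate ((p - 1) / e) tp.2).count d) (degs.count d)) = true := by
      rw [List.all_eq_true]
      intro d _
      by_cases h : closed d = true
      · simp only [h, Bool.not_true, Bool.false_or, Nat.ble_eq]
        rw [hmem, hdegs]
        exact count_map_le B.nodup _ d fun χ hχ hd => (hL.2 χ).2 ⟨B.ne_principal χ hχ, hd ▸ h⟩
      · simp [h]
    have h6 : (!(Nat.beq (Nat.card V) 1) || degs.all fun d => Nat.beq (d % p) 0 ||
        Nat.ble (degs.count d) ((tp.1 ++ List.replicate ((p - 1) / e) tp.2).count d)) = true := by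
      by_cases hV : Nat.card V = 1
      · simp only [Bool.or_eq_true, List.all_eq_true, Nat.beq_eq, Nat.ble_eq]
        refine Or.inr fun d _ => ?_
        by_cases hd : d % p = 0
        · exact Or.inl hd
        refine Or.inr ?_
        rw [hmem, hdegs]
        refine count_map_le hL.1 _ d fun χ hχ hd' => ?_
        by_contra h
        exact hd (hd' ▸ Nat.mod_eq_zero_of_dvd (B.others hV χ ((hL.2 χ).1 hχ).1 h))
      · rw [not_beq hV, Bool.true_or]
    rw [if_pos (by
      simp only [Bool.and_eq_true]
      exact ⟨⟨⟨⟨⟨h1, h2⟩, h3⟩, h4⟩, h5⟩, h6⟩)]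

end Order

end Cfsg.Agent.M22Uniq
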