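import Cfsg.Agent.Lib.M22Uniq.Table
import Cfsg.Agent.Lib.M12Uniq.SymSquare
import Cfsg.Agent.Lib.DegreePTwo.Square

/-!
The character of degree 21: its square contains it once and its exterior square is irreducible.
-/

set_option linter.unusedSectionVars false
set_option linter.style.haveILetI false

namespace Cfsg.Agent.M22Uniq

open Cfsg Cfsg.Agent.Char Cfsg.Agent.Blocks Cfsg.Agent.CCSylow Cfsg.Agent.DefOne

open scoped ComplexConjugate

universe u

/-- The distinct degrees. -/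
def dList : List ℕ := [1, 21, 45, 210, 280, 55, 99, 154, 231, 385]

/-- The values at an element of order five, by degree. -/
def yVal (d : ℕ) : ℤ :=
  if Nat.beq d 1 || Nat.beq d 21 || Nat.beq d 231 then 1 else if Nat.beq d 99 || Nat.beq d 154 then -1 else 0

/-- The values at an element of order eleven, by degree, apart from 280. -/
def xVal (d : ℕ) : ℤ :=
  if Nat.beq d 21 then -1 else if Nat.beq d 1 || Nat.beq d 45 || Nat.beq d 210 then 1 else 0

/-- The integers of absolute value at most `B`. -/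
def ivals (B : ℕ) : List ℤ := (List.range (2 * B + 1)).map fun k : ℕ => (k : ℤ) - (B : ℤ)

theorem mem_ivals {B : ℕ} {a : ℤ} (h : a.natAbs ≤ B) : a ∈ ivals B := by
  simp only [ivals, List.mem_map, List.mem_range]
  exact ⟨(a + (B : ℤ)).toNat, by omega, by omega⟩

/-- A column at an element of order four. -/
def wVec (a r g c f : ℤ) : List (ℕ × ℤ) :=
  let d := c - 1 + r
  let t := 1 - a + 2 * r + g
  let h := d + f - 1 - a
  let k := -(1 + 5 * a - 6 * r + 2 * g - 16 * t + 7 * c + 3 * d + 10 * f + 7 * h)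
  [(1, 1), (21, a), (45, r), (45, r), (210, g), (280, t), (280, t), (55, c), (99, d), (154, f), (231, h), (385, k)]

/-- The conditions on a column at an element of order four. -/
def wOK (a r g c f : ℤ) : Bool :=
  let v := wVec a r g c f
  let q := (v.map fun z => z.2.natAbs * z.2.natAbs).sum
  ((v.map fun z => (z.1 : ℤ) * z.2).sum == 0) &&
  Nat.beq (384 % q) 0 &&
    v.all fun z => Nat.beq ((443520 / q * z.2.natAbs) % z.1) 0 && Nat.beq (((z.1 : ℤ) - z.2).natAbs % 2) 0

/-- The linear condition on the columns: it is affine in the third value, with slope 6160. -/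
def wLin (a r g c f : ℤ) : ℤ :=
  let d := c - 1 + r
  let t := 1 - a + 2 * r + g
  let h := d + f - 1 - a
  1 + 21 * a + 90 * r + 210 * g + 560 * t + 55 * c + 99 * d + 154 * f + 231 * h -
    385 * (1 + 5 * a - 6 * r + 2 * g - 16 * t + 7 * c + 3 * d + 10 * f + 7 * h)

/-- No column fits the reducible exterior square. -/
def wCheckA : Bool :=
  (ivals 19).all fun a => (ivals 13).all fun r =>
    let s := a * a - 5
    !(s % 2 == 0) ||
      let d := s / 2 - a - 2 * r
      let c := d + 1 - r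
      Nat.blt 19 d.natAbs || Nat.blt 19 c.natAbs ||
        (ivals 19).all fun f =>
          let al := wLin a r 0 c f
          !(al % 6160 == 0) ||
            let g := -al / 6160
            !(wOK a r g c f)

/-- An element of order four fixes at most two points. -/
def wCheckB : Bool :=
  (ivals 19).all fun a => decide (a < 2) ||
    let s := a * a - 5
    !(s % 2 == 0) ||
      let g := s / 2
      Nat.blt 19 g.natAbs ||
        (ivals 13).all fun r => (ivals 19).all fun c => (ivals 19).all fun f =>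
          !((a * a + 5) / 2 - 1 == a + c + f || (a * a + 5) / 2 - 1 == a + 2 * c + (c - 1 + r)) || !(wOK a r g c f)

set_option maxRecDepth 20000 in
set_option maxHeartbeats 2000000 in
theorem wCheckA_true : wCheckA = true := by decide +kernel

set_option maxRecDepth 20000 in
set_option maxHeartbeats 2000000 in
theorem wCheckB_true : wCheckB = true := by decide +kernel

variable {G : Type u} [Group G] [Fintype G]

namespace Frame

variable (F : Frame G)

include F

theorem deg_mem (χ : IrrCharacter G) : charDegree (χ : G → ℂ) ∈ degList := by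
  rw [← Multiset.mem_coe, ← F.degrees]
  exact Multiset.mem_map_of_mem _ (Finset.mem_univ χ)

theorem deg_mem' (χ : IrrCharacter G) : charDegree (χ : G → ℂ) ∈ dList := by
  have h := F.deg_mem χ
  simp only [degList, dList, List.mem_cons, List.not_mem_nil, or_false] at h ⊢
  omega

theorem card_deg [DecidableEq (IrrCharacter G)] (d : ℕ) :
    (Finset.univ.filter fun χ : IrrCharacter G => charDegree (χ : G → ℂ) = d).card = degList.count d := by
  rw [← Multiset.coe_count, ← F.degrees, Multiset.count_map, Finset.card, Finset.filter_val]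
  exact congrArg Multiset.card (Multiset.filter_congr fun χ _ => eq_comm)

theorem exists_deg (d : ℕ) (h : d ∈ degList) : ∃ χ : IrrCharacter G, charDegree (χ : G → ℂ) = d := by
  rw [← Multiset.mem_coe, ← F.degrees, Multiset.mem_map] at h
  obtain ⟨χ, -, hχ⟩ := h
  exact ⟨χ, hχ⟩

theorem unique_deg {χ ψ : IrrCharacter G} {d : ℕ} (hd : degList.count d = 1)
    (hχ : charDegree (χ : G → ℂ) = d) (hψ : charDegree (ψ : G → ℂ) = d) : ψ = χ := by
  classical
  exact Finset.card_le_one.1 ((F.card_deg d).trans hd).le ψ (by simp [hψ]) χ (by simp [hχ])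

/-- A sum of a function of the degree. -/
theorem sum_by_deg {M : Type*} [AddCommMonoid M] (Φ : ℕ → M) :
    ∑ χ : IrrCharacter G, Φ (charDegree (χ : G → ℂ)) = (degList.map Φ).sum := by
  rw [Finset.sum_eq_multiset_sum, ← Multiset.sum_coe, ← Multiset.map_coe, ← F.degrees, Multiset.map_map]
  rfl

/-- The integer values at an element of order prime to 385. -/
theorem exists_vals {g : G} (h7 : ¬ 7 ∣ orderOf g) (h11 : ¬ 11 ∣ orderOf g) :
    ∃ Φ : ℕ → ℤ, Φ 1 = 1 ∧ ∀ χ : IrrCharacter G, (χ : G → ℂ) g = (Φ (charDegree (χ : G → ℂ)) : ℂ) := by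
  classical
  have hint : ∀ χ : IrrCharacter G, ∃ a : ℤ, (χ : G → ℂ) g = a := fun χ =>
    M12Uniq.exists_int_of_agree χ g fun ψ hψ => F.agree ψ χ hψ g (fun _ => h7) (fun _ => h11)
  choose a ha using hint
  set Φ : ℕ → ℤ := fun d => if h : ∃ χ : IrrCharacter G, charDegree (χ : G → ℂ) = d then a h.choose else 0 with hΦ
  have hval : ∀ χ : IrrCharacter G, (χ : G → ℂ) g = (Φ (charDegree (χ : G → ℂ)) : ℂ) := fun χ => by
    have hex : ∃ ψ : IrrCharacter G, charDegree (ψ : G → ℂ) = charDegree (χ : G → ℂ) := ⟨χ, rfl⟩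
    rw [hΦ]
    simp only [dif_pos hex]
    rw [← ha hex.choose]
    exact F.agree χ hex.choose hex.choose_spec.symm g (fun _ => h7) (fun _ => h11)
  refine ⟨Φ, ?_, hval⟩
  have h := hval (principal G)
  rw [show charDegree (principal G : G → ℂ) = 1 from Cfsg.Agent.CharX.charDegree_one,
    show (principal G : G → ℂ) g = 1 from rfl] at h
  exact_mod_cast h.symm

/-- A combination of the characters evaluated through the degrees. -/
theorem eval_by_deg (m : IrrCharacter G → ℕ) {φ : G → ℂ} (hφ : φ = ∑ ψ, (m ψ : ℂ) • (ψ : G → ℂ)) (g : G)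
    (Φ : ℕ → ℤ) (hΦ : ∀ ψ, m ψ ≠ 0 → (ψ : G → ℂ) g = (Φ (charDegree (ψ : G → ℂ)) : ℂ)) :
    φ g = ((dList.map fun d => ((∑ ψ ∈ Finset.univ.filter fun ψ : IrrCharacter G => charDegree (ψ : G → ℂ) = d,
      m ψ : ℕ) : ℤ) * Φ d).sum : ℤ) := by
  classical
  rw [← List.sum_toFinset _ (by decide : dList.Nodup), Int.cast_sum, hφ, Finset.sum_apply,
    ← Finset.sum_fiberwise_of_maps_to (t := dList.toFinset)
      (fun (ψ : IrrCharacter G) _ => List.mem_toFinset.2 (F.deg_mem' ψ))]
  refine Finset.sum_congr rfl fun d _ => ?_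
  push_cast
  rw [Finset.sum_mul]
  refine Finset.sum_congr rfl fun ψ hψ => ?_
  rw [Pi.smul_apply, smul_eq_mul]
  by_cases h : m ψ = 0
  · simp [h]
  · rw [hΦ ψ h, (Finset.mem_filter.1 hψ).2]

variable [IsSimpleGroup G] (hG : Nat.card G = 443520)

include hG

/-- The values at an element of order five. -/
theorem five_vals : ∃ y : G, orderOf y = 5 ∧ ∀ z : G, z ≠ 1 → z ∈ Subgroup.zpowers y → ∀ χ : IrrCharacter G,
    (χ : G → ℂ) z = (yVal (charDegree (χ : G → ℂ)) : ℂ) := by
  classical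
  haveI : Fact (Nat.Prime 5) := ⟨by norm_num⟩
  obtain ⟨P, V, hV, K⟩ := F.normal5
  haveI : Fintype (P : Subgroup G) := Fintype.ofFinite _
  haveI : Fintype V := Fintype.ofFinite _
  haveI : Fintype (Subgroup.normalizer ((P : Subgroup G) : Set G)) := Fintype.ofFinite _
  haveI : Fintype ((P : Subgroup G) →* ℂˣ) := Fintype.ofFinite _
  obtain ⟨M, hM⟩ := exists_isPModular_witness 5
  haveI := IsPModular.isPrime hM
  obtain ⟨y₀, hy₀⟩ := exists_ne_one_P K
  refine ⟨y₀, orderOf_P K y₀.2 fun h => hy₀ (Subtype.ext h), fun y hy1 hmem => ?_⟩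
  have hy : y ∈ (P : Subgroup G) := Subgroup.zpowers_le.2 y₀.2 hmem
  have ho : orderOf y = 5 := orderOf_P K hy hy1
  obtain ⟨Φ, hΦ1, hΦ⟩ := F.exists_vals (g := y) (by rw [ho]; norm_num) (by rw [ho]; norm_num)
  have hzero : ∀ d ∈ degList, 5 ∣ d → Φ d = 0 := fun d hd h5 => by
    obtain ⟨χ, hχ⟩ := F.exists_deg d hd
    have h := section_zero_of_dvd K hM (χ := χ) (hχ ▸ h5) (y := ⟨y, hy⟩) (fun h => hy1 (congrArg Subtype.val h)) 1
    rw [OneMemClass.coe_one, mul_one] at h
    have h2 := hΦ χ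
    rw [h, hχ] at h2
    exact_mod_cast h2.symm
  have hcong : ∀ d ∈ degList, (5 : ℤ) ∣ (d : ℤ) - Φ d := fun d hd => by
    obtain ⟨χ, hχ⟩ := F.exists_deg d hd
    have h := M12Uniq.dvd_sub_deg (p := 5) (IsIrrCharacter.isCharacter χ.2) (irr_one_eq_charDegree χ) (k := 1)
      (by rw [ho, pow_one]) (hΦ χ)
    rwa [hχ] at h
  have hnorm : (degList.map fun d => Φ d * Φ d).sum = 5 := by
    have h := column_orth_of_isConj (IsConj.refl y)
    rw [Finset.sum_congr rfl fun (χ : IrrCharacter G) _ => show (χ : G → ℂ) y * conj ((χ : G → ℂ) y) =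
      ((Φ (charDegree (χ : G → ℂ)) * Φ (charDegree (χ : G → ℂ)) : ℤ) : ℂ) by
        rw [hΦ χ, map_intCast, Int.cast_mul], ← Int.cast_sum, F.sum_by_deg fun d => Φ d * Φ d, F.cent5 y ho] at h
    exact_mod_cast h
  have e45 := hzero 45 (by decide) (by norm_num)
  have e210 := hzero 210 (by decide) (by norm_num)
  have e280 := hzero 280 (by decide) (by norm_num)
  have e55 := hzero 55 (by decide) (by norm_num)
  have e385 := hzero 385 (by decide) (by norm_num)
  simp only [degList, List.map_cons, List.map_nil, List.sum_cons, List.sum_nil, hΦ1, e45, e210, e280, e55, e385,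
    mul_zero, mul_one, add_zero, zero_add] at hnorm
  have c21 := hcong 21 (by decide)
  have c99 := hcong 99 (by decide)
  have c154 := hcong 154 (by decide)
  have c231 := hcong 231 (by decide)
  push_cast at c21 c99 c154 c231
  have sq : ∀ a : ℤ, a ≠ 0 → 1 ≤ a * a := fun a ha => by
    rcases lt_or_gt_of_ne ha with h | h <;> nlinarith
  have q21 := sq (Φ 21) (by intro h; rw [h] at c21; norm_num at c21)
  have q99 := sq (Φ 99) (by intro h; rw [h] at c99; norm_num at c99)
  have q154 := sq (Φ 154) (by intro h; rw [h] at c154; norm_num at c154)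
  have q231 := sq (Φ 231) (by intro h; rw [h] at c231; norm_num at c231)
  have one : ∀ a : ℤ, a * a = 1 → a = 1 ∨ a = -1 := fun a ha => mul_self_eq_one_iff.1 ha
  have v21 : Φ 21 = 1 := by rcases one (Φ 21) (by omega) with h | h <;> omega
  have v99 : Φ 99 = -1 := by rcases one (Φ 99) (by omega) with h | h <;> omega
  have v154 : Φ 154 = -1 := by rcases one (Φ 154) (by omega) with h | h <;> omega
  have v231 : Φ 231 = 1 := by rcases one (Φ 231) (by omega) with h | h <;> omega
  intro χ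
  rw [hΦ χ]
  have hm := F.deg_mem χ
  simp only [degList, List.mem_cons, List.not_mem_nil, or_false] at hm
  rcases hm with h | h | h | h | h | h | h | h | h | h | h | h <;> rw [h] <;>
    simp [yVal, hΦ1, v21, e45, e210, e280, e55, v99, v154, v231, e385]

/-- The values at an element of order eleven. -/
theorem eleven_vals : ∃ x : G, orderOf x = 11 ∧ ∀ z : G, z ≠ 1 → z ∈ Subgroup.zpowers x → ∀ χ : IrrCharacter G,
    charDegree (χ : G → ℂ) ≠ 280 → (χ : G → ℂ) z = (xVal (charDegree (χ : G → ℂ)) : ℂ) := by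
  classical
  haveI : Fact (Nat.Prime 11) := ⟨by norm_num⟩
  obtain ⟨P, V, K, hV⟩ := eleven_normalizer hG
  haveI : Fintype (P : Subgroup G) := Fintype.ofFinite _
  haveI : Fintype V := Fintype.ofFinite _
  haveI : Fintype (Subgroup.normalizer ((P : Subgroup G) : Set G)) := Fintype.ofFinite _
  haveI : Fintype ((P : Subgroup G) →* ℂˣ) := Fintype.ofFinite _
  obtain ⟨M, hM⟩ := exists_isPModular_witness 11
  haveI := IsPModular.isPrime hM
  obtain ⟨y₀, hy₀⟩ := exists_ne_one_P K
  refine ⟨y₀, orderOf_P K y₀.2 fun h => hy₀ (Subtype.ext h), fun y hy1 hmem => ?_⟩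
  have hy : y ∈ (P : Subgroup G) := Subgroup.zpowers_le.2 y₀.2 hmem
  have ho : orderOf y = 11 := orderOf_P K hy hy1
  have hint : ∀ χ : IrrCharacter G, charDegree (χ : G → ℂ) ≠ 280 → ∃ a : ℤ, (χ : G → ℂ) y = a := fun χ h =>
    M12Uniq.exists_int_of_agree χ y fun ψ hψ =>
      F.agree ψ χ hψ y (fun _ => by rw [ho]; norm_num) (fun h' => absurd (hψ ▸ h') h)
  choose! a ha using hint
  obtain ⟨c21, h21⟩ := F.exists_deg 21 (by decide)
  obtain ⟨c45, h45⟩ := F.exists_deg 45 (by decide)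
  obtain ⟨c210, h210⟩ := F.exists_deg 210 (by decide)
  have hcong : ∀ χ : IrrCharacter G, charDegree (χ : G → ℂ) ≠ 280 →
      (11 : ℤ) ∣ (charDegree (χ : G → ℂ) : ℤ) - a χ := fun χ h =>
    M12Uniq.dvd_sub_deg (p := 11) (IsIrrCharacter.isCharacter χ.2) (irr_one_eq_charDegree χ) (k := 1)
      (by rw [ho, pow_one]) (ha χ h)
  obtain ⟨c45', h45', hne⟩ : ∃ c : IrrCharacter G, charDegree (c : G → ℂ) = 45 ∧ c ≠ c45 := by
    by_contra hno
    push Not at hno
    have h := F.card_deg 45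
    rw [show (Finset.univ.filter fun χ : IrrCharacter G => charDegree (χ : G → ℂ) = 45) = {c45} from
      Finset.eq_singleton_iff_unique_mem.2 ⟨by simp [h45], fun χ hχ => hno χ (by simpa using hχ)⟩,
      Finset.card_singleton, show degList.count 45 = 2 by decide] at h
    omega
  have hp1 : charDegree (principal G : G → ℂ) = 1 := Cfsg.Agent.CharX.charDegree_one
  have n1 : ∀ {χ ψ : IrrCharacter G} {d e : ℕ}, charDegree (χ : G → ℂ) = d → charDegree (ψ : G → ℂ) = e → d ≠ e →
      χ ≠ ψ := fun {χ ψ d e} h1 h2 h h' => h (by rw [← h1, ← h2, h'])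
  have hnd : [principal G, c21, c45, c45', c210].Nodup := by
    simp only [List.nodup_cons, List.mem_cons, List.not_mem_nil, or_false, not_or, List.nodup_nil,
      and_true, not_false_eq_true]
    exact ⟨⟨n1 hp1 h21 (by norm_num), n1 hp1 h45 (by norm_num), n1 hp1 h45' (by norm_num), n1 hp1 h210 (by norm_num)⟩,
      ⟨n1 h21 h45 (by norm_num), n1 h21 h45' (by norm_num), n1 h21 h210 (by norm_num)⟩,
      ⟨Ne.symm hne, n1 h45 h210 (by norm_num)⟩, n1 h45' h210 (by norm_num)⟩
  have h280 : ∀ χ ∈ [principal G, c21, c45, c45', c210].toFinset, charDegree (χ : G → ℂ) ≠ 280 := fun χ hχ => by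
    simp only [List.mem_toFinset, List.mem_cons, List.not_mem_nil, or_false] at hχ
    rcases hχ with rfl | rfl | rfl | rfl | rfl <;>
      simp only [hp1, h21, h45, h45', h210] <;> norm_num
  have hle := M12Uniq.sum_sq_le y [principal G, c21, c45, c45', c210].toFinset a fun χ hχ => ha χ (h280 χ hχ)
  rw [List.sum_toFinset _ hnd, F.cent11 y ho] at hle
  simp only [List.map_cons, List.map_nil, List.sum_cons, List.sum_nil] at hle
  have ap : a (principal G) = 1 := by
    have h := ha (principal G) (by rw [hp1]; norm_num)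
    rw [show (principal G : G → ℂ) y = 1 from rfl] at h
    exact_mod_cast h.symm
  have a45' : a c45' = a c45 := by
    have h := F.agree c45' c45 (h45'.trans h45.symm) y (fun _ => by rw [ho]; norm_num) (by rw [h45']; norm_num)
    rw [ha _ (by rw [h45']; norm_num), ha _ (by rw [h45]; norm_num)] at h
    exact_mod_cast h
  have k21 := hcong c21 (by rw [h21]; norm_num)
  have k45 := hcong c45 (by rw [h45]; norm_num)
  have k210 := hcong c210 (by rw [h210]; norm_num)
  rw [h21] at k21; rw [h45] at k45; rw [h210] at k210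
  push_cast at k21 k45 k210
  rw [ap, a45'] at hle
  push_cast at hle
  have b21 : (a c21).natAbs ≤ 3 := by
    have : (a c21) ^ 2 ≤ 10 := by nlinarith [sq_nonneg (a c45), sq_nonneg (a c210)]
    have h' : (a c21).natAbs ^ 2 ≤ 10 := by zify; rw [sq_abs]; exact_mod_cast this
    nlinarith
  have b45 : (a c45).natAbs ≤ 3 := by
    have : (a c45) ^ 2 ≤ 10 := by nlinarith [sq_nonneg (a c21), sq_nonneg (a c210)]
    have h' : (a c45).natAbs ^ 2 ≤ 10 := by zify; rw [sq_abs]; exact_mod_cast this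
    nlinarith
  have b210 : (a c210).natAbs ≤ 3 := by
    have : (a c210) ^ 2 ≤ 10 := by nlinarith [sq_nonneg (a c45), sq_nonneg (a c21)]
    have h' : (a c210).natAbs ^ 2 ≤ 10 := by zify; rw [sq_abs]; exact_mod_cast this
    nlinarith
  intro χ hχ
  have hm := F.deg_mem χ
  simp only [degList, List.mem_cons, List.not_mem_nil, or_false] at hm
  rcases hm with h | h | h | h | h | h | h | h | h | h | h | h <;> rw [h]
  case inr.inr.inr.inr.inr.inl => exact absurd h hχ
  case inr.inr.inr.inr.inr.inr.inl => exact absurd h hχ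
  all_goals first
    | (rw [eq_principal hG h]; norm_num [xVal]; rfl)
    | (rw [F.unique_deg (by decide) h21 h, ha _ (by rw [h21]; norm_num), show a c21 = -1 by omega]; norm_num [xVal])
    | (rw [F.agree χ c45 (h.trans h45.symm) y (fun _ => by rw [ho]; norm_num) (by rw [h]; norm_num),
        ha _ (by rw [h45]; norm_num), show a c45 = 1 by omega]; norm_num [xVal])
    | (rw [F.unique_deg (by decide) h210 h, ha _ (by rw [h210]; norm_num), show a c210 = 1 by omega]; norm_num [xVal])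
    | (have h0 := section_zero_of_dvd K hM (χ := χ) (by rw [h]; norm_num) (y := ⟨y, hy⟩)
          (fun h => hy1 (congrArg Subtype.val h)) 1
       rw [OneMemClass.coe_one, mul_one] at h0
       rw [h0]; norm_num [xVal])

/-- The values at an element of order four satisfy the conditions. -/
theorem w_vals {w : G} (hw : orderOf w = 4) :
    ∃ Φ : ℕ → ℤ, (∀ χ : IrrCharacter G, (χ : G → ℂ) w = (Φ (charDegree (χ : G → ℂ)) : ℂ)) ∧ Φ 1 = 1 ∧
      Φ 99 = Φ 55 - 1 + Φ 45 ∧ wLin (Φ 21) (Φ 45) 0 (Φ 55) (Φ 154) + 6160 * Φ 210 = 0 ∧ wOK (Φ 21) (Φ 45) (Φ 210) (Φ 55) (Φ 154) = true ∧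
      (Φ 21).natAbs ≤ 19 ∧ (Φ 45).natAbs ≤ 13 ∧ (Φ 210).natAbs ≤ 19 ∧ (Φ 55).natAbs ≤ 19 ∧ (Φ 99).natAbs ≤ 19 ∧
      (Φ 154).natAbs ≤ 19 := by
  classical
  obtain ⟨Φ, hΦ1, hΦ⟩ := F.exists_vals (g := w) (by rw [hw]; norm_num) (by rw [hw]; norm_num)
  obtain ⟨r1, r2, r3⟩ := F.relations w (by rw [hw]; norm_num) (by rw [hw]; norm_num) (by rw [hw]; norm_num)
    (fun d => (Φ d : ℂ)) hΦ
  have r1' : 1 - Φ 21 + 2 * Φ 45 + Φ 210 - Φ 280 = 0 := by exact_mod_cast r1
  have r2' : 1 - Φ 55 + Φ 99 - Φ 45 = 0 := by exact_mod_cast r2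
  have r3' : 1 + Φ 21 - Φ 99 - Φ 154 + Φ 231 = 0 := by exact_mod_cast r3
  have hw1 : w ≠ 1 := fun h => by rw [h, orderOf_one] at hw; omega
  have horth : (degList.map fun d : ℕ => (d : ℤ) * Φ d).sum = 0 := by
    have h := column_orth_of_not_isConj (g := w) (h := 1) fun h => hw1 (isConj_one_left.1 h)
    rw [Finset.sum_congr rfl fun (χ : IrrCharacter G) _ => show (χ : G → ℂ) w * conj ((χ : G → ℂ) 1) =
      (((charDegree (χ : G → ℂ) : ℤ) * Φ (charDegree (χ : G → ℂ)) : ℤ) : ℂ) by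
        rw [hΦ χ, irr_one_eq_charDegree, map_natCast, Int.cast_mul, Int.cast_natCast, mul_comm],
      ← Int.cast_sum, F.sum_by_deg fun d => (d : ℤ) * Φ d] at h
    exact_mod_cast h
  set C := Nat.card (Subgroup.centralizer ({w} : Set G)) with hC
  have horthu : (degList.map fun d => sVal d * Φ d).sum = 0 := by
    haveI : Fact (Nat.Prime 2) := ⟨Nat.prime_two⟩
    obtain ⟨u, huo⟩ := exists_prime_orderOf_dvd_card' (G := G) 2 (by rw [hG]; norm_num)
    have h := column_orth_of_not_isConj (g := w) (h := u) fun h => by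
      obtain ⟨c, hc⟩ := isConj_iff.1 h
      have h' : orderOf (c * w * c⁻¹) = orderOf w := by rw [← MulAut.conj_apply, MulEquiv.orderOf_eq]
      rw [hc, huo, hw] at h'
      norm_num at h'
    rw [Finset.sum_congr rfl fun (χ : IrrCharacter G) _ => show (χ : G → ℂ) w * conj ((χ : G → ℂ) u) =
      ((sVal (charDegree (χ : G → ℂ)) * Φ (charDegree (χ : G → ℂ)) : ℤ) : ℂ) by
        rw [hΦ χ, (F.inv u huo).2 χ, map_intCast, Int.cast_mul, mul_comm],
      ← Int.cast_sum, F.sum_by_deg fun d => sVal d * Φ d] at h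
    exact_mod_cast h
  have hnorm : (degList.map fun d => (Φ d).natAbs * (Φ d).natAbs).sum = C := by
    have h := column_orth_of_isConj (IsConj.refl w)
    rw [Finset.sum_congr rfl fun (χ : IrrCharacter G) _ => show (χ : G → ℂ) w * conj ((χ : G → ℂ) w) =
      ((((Φ (charDegree (χ : G → ℂ))).natAbs * (Φ (charDegree (χ : G → ℂ))).natAbs : ℕ) : ℕ) : ℂ) by
        rw [hΦ χ, map_intCast, ← Int.cast_mul, ← Int.natAbs_mul_self, Int.cast_natCast],
      ← Nat.cast_sum, F.sum_by_deg fun d => (Φ d).natAbs * (Φ d).natAbs] at h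
    exact_mod_cast h
  have hdvd : C ∣ 384 := by
    have hsq : orderOf (w * w) = 2 := by rw [← pow_two, orderOf_pow, hw]; rfl
    rw [← (F.inv _ hsq).1]
    refine Subgroup.card_dvd_of_le fun g hg => ?_
    rw [Subgroup.mem_centralizer_singleton_iff] at hg ⊢
    rw [← mul_assoc, hg, mul_assoc, hg, mul_assoc]
  have hdiv : ∀ d ∈ degList, (443520 / C * (Φ d).natAbs) % d = 0 ∧ (((d : ℤ) - Φ d).natAbs) % 2 = 0 := fun d hd => by
    obtain ⟨χ, hχ⟩ := F.exists_deg d hd
    constructor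
    · have h := M12Uniq.dvd_index_mul χ (hΦ χ)
      have h2 : (Subgroup.centralizer ({w} : Set G)).index = 443520 / C := by
        rw [hC, ← hG, ← Subgroup.index_mul_card (Subgroup.centralizer ({w} : Set G)),
          Nat.mul_div_cancel _ Nat.card_pos]
      rw [hχ, h2] at h
      have h' := Int.natAbs_dvd_natAbs.2 h
      rw [Int.natAbs_mul, Int.natAbs_natCast, Int.natAbs_natCast] at h'
      exact Nat.mod_eq_zero_of_dvd h'
    · haveI : Fact (Nat.Prime 2) := ⟨Nat.prime_two⟩
      have h := M12Uniq.dvd_sub_deg (p := 2) (IsIrrCharacter.isCharacter χ.2) (irr_one_eq_charDegree χ) (k := 2)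
        (by rw [hw]; norm_num) (hΦ χ)
      rw [hχ] at h
      exact Nat.mod_eq_zero_of_dvd (Int.natCast_dvd.1 h)
  have hsd : ((degList.map fun d => (d, Φ d)).map fun z => (z.1 : ℤ) * z.2).sum = 0 := by
    rw [List.map_map]
    exact horth
  simp only [degList, List.map_cons, List.map_nil, List.sum_cons, List.sum_nil, hΦ1] at horth hnorm horthu
  simp only [show sVal 1 = 1 from rfl, show sVal 21 = 5 from rfl, show sVal 45 = -3 from rfl,
    show sVal 210 = 2 from rfl, show sVal 280 = -8 from rfl, show sVal 55 = 7 from rfl, show sVal 99 = 3 from rfl,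
    show sVal 154 = 10 from rfl, show sVal 231 = 7 from rfl, show sVal 385 = 1 from rfl] at horthu
  push_cast at horth
  have e1 : Φ 280 = 1 - Φ 21 + 2 * Φ 45 + Φ 210 := by omega
  have e2 : Φ 99 = Φ 55 - 1 + Φ 45 := by omega
  have e3 : Φ 231 = Φ 55 - 1 + Φ 45 + Φ 154 - 1 - Φ 21 := by omega
  have e4 : Φ 385 = -(1 + 5 * Φ 21 - 6 * Φ 45 + 2 * Φ 210 - 16 * (1 - Φ 21 + 2 * Φ 45 + Φ 210) + 7 * Φ 55 +
      3 * (Φ 55 - 1 + Φ 45) + 10 * Φ 154 + 7 * (Φ 55 - 1 + Φ 45 + Φ 154 - 1 - Φ 21)) := by omega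
  have hv : wVec (Φ 21) (Φ 45) (Φ 210) (Φ 55) (Φ 154) = degList.map fun d => (d, Φ d) := by
    simp only [wVec, degList, List.map_cons, List.map_nil, hΦ1, e1, e2, e3, e4]
  have hle := Nat.le_of_dvd (by norm_num) hdvd
  have hb : ∀ n : ℕ, n * n ≤ 384 → n ≤ 19 := fun n h => by nlinarith
  have hb' : ∀ n : ℕ, 2 * (n * n) ≤ 384 → n ≤ 13 := fun n h => by nlinarith
  have elin : wLin (Φ 21) (Φ 45) 0 (Φ 55) (Φ 154) + 6160 * Φ 210 = 0 := by
    simp only [wLin]
    omega
  refine ⟨Φ, hΦ, hΦ1, e2, elin, ?_, hb _ (by omega), hb' _ (by omega), hb _ (by omega), hb _ (by omega), hb _ (by omega),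
    hb _ (by omega)⟩
  have hq : ((degList.map fun d => (d, Φ d)).map fun z => z.2.natAbs * z.2.natAbs).sum = C := by
    rw [List.map_map, ← hnorm]
    simp only [degList, List.map_cons, List.map_nil, List.sum_cons, List.sum_nil, Function.comp_apply, hΦ1]
  simp only [wOK, hv, hq, Bool.and_eq_true, Nat.beq_eq, List.all_eq_true, List.mem_map, forall_exists_index,
    and_imp, forall_apply_eq_imp_iff₂]
  simp only [beq_iff_eq]
  exact ⟨⟨hsd, Nat.mod_eq_zero_of_dvd hdvd⟩, hdiv⟩

/-- An element of order four exists. -/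
theorem exists_four : ∃ w : G, orderOf w = 4 := by
  haveI : Fact (Nat.Prime 5) := ⟨by norm_num⟩
  obtain ⟨P, V, hV, K⟩ := F.normal5
  haveI : Fintype (P : Subgroup G) := Fintype.ofFinite _
  haveI : Fintype V := Fintype.ofFinite _
  haveI : Fintype (Subgroup.normalizer ((P : Subgroup G) : Set G)) := Fintype.ofFinite _
  haveI : Fintype ((P : Subgroup G) →* ℂˣ) := Fintype.ofFinite _
  obtain ⟨y, hy⟩ := exists_ne_one_P K
  have hy1 : (y : G) ≠ 1 := fun h => hy (Subtype.ext h)
  have hyo : orderOf (y : G) = 5 := orderOf_P K y.2 hy1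
  obtain ⟨x, hxN, hx⟩ := M12Uniq.conj_transitive K rfl y.2 hy1 (Subgroup.mul_mem _ y.2 y.2) (z := (y : G) * y)
    (fun h => by
      have h2 := orderOf_dvd_of_pow_eq_one ((pow_two (y : G)).trans h)
      rw [hyo] at h2; norm_num at h2)
  have hpow : ∀ n : ℕ, x ^ n * y * (x ^ n)⁻¹ = (y : G) ^ (2 ^ n) := by
    intro n
    induction n with
    | zero => simp
    | succ n ih =>
      calc x ^ (n + 1) * y * (x ^ (n + 1))⁻¹ = x * (x ^ n * y * (x ^ n)⁻¹) * x⁻¹ := by rw [pow_succ']; group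
        _ = (x * y * x⁻¹) ^ (2 ^ n) := by rw [ih, conj_pow]
        _ = _ := by rw [hx, ← pow_two, ← pow_mul, ← pow_succ']
  have h20 : x ^ 20 = 1 := by
    refine orderOf_dvd_iff_pow_eq_one.1 ?_
    have := Subgroup.orderOf_dvd_natCard _ hxN
    rw [K.D.hcard, K.hP, hV] at this
    exact this
  refine ⟨x ^ 5, orderOf_eq_prime_pow (p := 2) (n := 1) ?_ (by rw [← pow_mul]; exact h20)⟩
  intro h
  rw [← pow_mul] at h
  have h2 := hpow (5 * 2 ^ 1)
  rw [h, one_mul, inv_one, mul_one, ← pow_mod_orderOf (y : G) (2 ^ (5 * 2 ^ 1)), hyo] at h2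
  norm_num at h2
  have h3 : (y : G) ^ 3 = 1 := by
    refine mul_left_cancel (a := (y : G)) ?_
    rw [← pow_succ', mul_one]
    exact h2.symm
  have h4 := orderOf_dvd_of_pow_eq_one h3
  rw [hyo] at h4
  norm_num at h4

set_option maxHeartbeats 1600000 in
/-- The constituents of a small character from four of its values. -/
theorem decomp {χ : IrrCharacter G} (hd : charDegree (χ : G → ℂ) = 21) {y x u : G} (hy1 : y ≠ 1) (hx1 : x ≠ 1)
    (huo : orderOf u = 2)
    (hy : ∀ z : G, z ≠ 1 → z ∈ Subgroup.zpowers y → ∀ χ : IrrCharacter G,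
      (χ : G → ℂ) z = (yVal (charDegree (χ : G → ℂ)) : ℂ))
    (hx : ∀ z : G, z ≠ 1 → z ∈ Subgroup.zpowers x → ∀ χ : IrrCharacter G,
      charDegree (χ : G → ℂ) ≠ 280 → (χ : G → ℂ) z = (xVal (charDegree (χ : G → ℂ)) : ℂ))
    (φ : G → ℂ) (D p₀ vy vx vs : ℤ) (hφ : IsCharacter G φ) (hD : D ≤ 231) (hφ1 : φ 1 = D)
    (hp : classInner φ (principal G : G → ℂ) = p₀) (hvy : φ y = vy) (hvx : φ x = vx) (hvs : φ u = vs) :
      ∃ (m : IrrCharacter G → ℕ) (a B g c d f h : ℕ), φ = ∑ ψ, (m ψ : ℂ) • (ψ : G → ℂ) ∧ m χ = a ∧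
        (∀ ψ : IrrCharacter G, charDegree (ψ : G → ℂ) = 210 → m ψ = g) ∧
        (∀ ψ : IrrCharacter G, charDegree (ψ : G → ℂ) = 21 ∨ charDegree (ψ : G → ℂ) = 45 ∨ charDegree (ψ : G → ℂ) = 55 ∨
          charDegree (ψ : G → ℂ) = 99 ∨ charDegree (ψ : G → ℂ) = 154 ∨ charDegree (ψ : G → ℂ) = 231 →
          m ψ ≤ a + B + c + d + f + h) ∧
        (∀ ψ : IrrCharacter G, charDegree (ψ : G → ℂ) = 280 ∨ charDegree (ψ : G → ℂ) = 385 → m ψ = 0) ∧
        (m (principal G) : ℤ) = p₀ ∧
        D = p₀ + 21 * a + 45 * B + 210 * g + 55 * c + 99 * d + 154 * f + 231 * h ∧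
        vy = p₀ + a - d - f + h ∧ vx = p₀ - a + B + g ∧
        vs = p₀ + 5 * a - 3 * B + 2 * g + 7 * c + 3 * d + 10 * f + 7 * h ∧
        ∀ w : G, ∀ Φ : ℕ → ℤ, (∀ ψ : IrrCharacter G, (ψ : G → ℂ) w = (Φ (charDegree (ψ : G → ℂ)) : ℂ)) →
          φ w = ((p₀ * Φ 1 + a * Φ 21 + B * Φ 45 + g * Φ 210 + c * Φ 55 + d * Φ 99 + f * Φ 154 + h * Φ 231 : ℤ) : ℂ) := by
  classical
  obtain ⟨m, hm⟩ := IsCharacter.exists_decomp hφ
  set M : ℕ → ℕ := fun k => ∑ ψ ∈ Finset.univ.filter (fun ψ : IrrCharacter G => charDegree (ψ : G → ℂ) = k), m ψ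
    with hM
  have hmem : ∀ (ψ : IrrCharacter G) (k : ℕ), charDegree (ψ : G → ℂ) = k → m ψ ≤ M k := fun ψ k hk =>
    Finset.single_le_sum (f := m) (fun _ _ => Nat.zero_le _) (by simp [hk])
  have hone : ∀ (ψ : IrrCharacter G) (k : ℕ), degList.count k = 1 → charDegree (ψ : G → ℂ) = k → m ψ = M k :=
    fun ψ k hk hψ => by
      rw [hM]
      simp only
      rw [show (Finset.univ.filter fun ψ' : IrrCharacter G => charDegree (ψ' : G → ℂ) = k) = {ψ} from
        Finset.eq_singleton_iff_unique_mem.2 ⟨by simp [hψ], fun a ha => F.unique_deg hk hψ (by simpa using ha)⟩,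
        Finset.sum_singleton]
  have hmp : (M 1 : ℤ) = p₀ := by
    rw [← hone (principal G) 1 (by decide) Cfsg.Agent.CharX.charDegree_one]
    rw [hm, classInner_combination] at hp
    exact_mod_cast hp
  have heval : ∀ (g : G) (Φ : ℕ → ℤ), (∀ ψ : IrrCharacter G, m ψ ≠ 0 → (ψ : G → ℂ) g = (Φ (charDegree (ψ : G → ℂ)) : ℂ)) →
      φ g = ((dList.map fun k => (M k : ℤ) * Φ k).sum : ℤ) := fun g Φ hΦ => F.eval_by_deg m hm g Φ hΦ
  have e1 := heval 1 (fun k => (k : ℤ)) fun (ψ : IrrCharacter G) _ => by rw [irr_one_eq_charDegree]; norm_num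
  rw [hφ1] at e1
  simp only [dList, List.map_cons, List.map_nil, List.sum_cons, List.sum_nil] at e1
  have e1' : D = (M 1 : ℤ) * 1 + ((M 21 : ℤ) * 21 + ((M 45 : ℤ) * 45 + ((M 210 : ℤ) * 210 + ((M 280 : ℤ) * 280 +
      ((M 55 : ℤ) * 55 + ((M 99 : ℤ) * 99 + ((M 154 : ℤ) * 154 + ((M 231 : ℤ) * 231 + ((M 385 : ℤ) * 385 + 0))))))))) := by
    exact_mod_cast e1
  have h280 : M 280 = 0 := by omega
  have h385 : M 385 = 0 := by omega
  have hz : ∀ ψ : IrrCharacter G, charDegree (ψ : G → ℂ) = 280 ∨ charDegree (ψ : G → ℂ) = 385 → m ψ = 0 := fun (ψ : IrrCharacter G) hψ => by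
    rcases hψ with h | h
    · have := hmem ψ 280 h; omega
    · have := hmem ψ 385 h; omega
  have ey := heval y yVal fun (ψ : IrrCharacter G) _ => hy y hy1 (Subgroup.mem_zpowers y) ψ
  have ex := heval x xVal fun (ψ : IrrCharacter G) h => hx x hx1 (Subgroup.mem_zpowers x) ψ fun h' => h (hz ψ (Or.inl h'))
  have es := heval u sVal fun (ψ : IrrCharacter G) _ => (F.inv u huo).2 ψ
  rw [hvy] at ey
  rw [hvx] at ex
  rw [hvs] at es
  have ey' := Int.cast_injective ey
  have ex' := Int.cast_injective ex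
  have es' := Int.cast_injective es
  simp only [dList, List.map_cons, List.map_nil, List.sum_cons, List.sum_nil, show yVal 1 = 1 from rfl,
    show yVal 21 = 1 from rfl, show yVal 45 = 0 from rfl, show yVal 210 = 0 from rfl, show yVal 280 = 0 from rfl,
    show yVal 55 = 0 from rfl, show yVal 99 = -1 from rfl, show yVal 154 = -1 from rfl,
    show yVal 231 = 1 from rfl, show yVal 385 = 0 from rfl, show xVal 1 = 1 from rfl,
    show xVal 21 = -1 from rfl, show xVal 45 = 1 from rfl, show xVal 210 = 1 from rfl, show xVal 280 = 0 from rfl,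
    show xVal 55 = 0 from rfl, show xVal 99 = 0 from rfl, show xVal 154 = 0 from rfl,
    show xVal 231 = 0 from rfl, show xVal 385 = 0 from rfl, show sVal 1 = 1 from rfl, show sVal 21 = 5 from rfl,
    show sVal 45 = -3 from rfl, show sVal 210 = 2 from rfl, show sVal 280 = -8 from rfl, show sVal 55 = 7 from rfl,
    show sVal 99 = 3 from rfl, show sVal 154 = 10 from rfl, show sVal 231 = 7 from rfl,
    show sVal 385 = 1 from rfl] at ey' ex' es'
  refine ⟨m, M 21, M 45, M 210, M 55, M 99, M 154, M 231, hm, hone χ 21 (by decide) hd,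
    fun (ψ : IrrCharacter G) h => hone ψ 210 (by decide) h, fun (ψ : IrrCharacter G) h => ?_, hz, ?_, by omega, by omega, by omega, by omega,
    fun w Φ hΦ => ?_⟩
  · rcases h with h | h | h | h | h | h <;> have := hmem ψ _ h <;> omega
  · rw [hone (principal G) 1 (by decide) Cfsg.Agent.CharX.charDegree_one, hmp]
  · rw [heval w Φ fun (ψ : IrrCharacter G) _ => hΦ ψ]
    simp only [dList, List.map_cons, List.map_nil, List.sum_cons, List.sum_nil, h280, h385, hmp]
    push_cast
    ring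

set_option maxHeartbeats 1600000 in
/-- The character of degree 21. -/
theorem exists_char : ∃ χ : IrrCharacter G, charDegree (χ : G → ℂ) = 21 ∧ (∀ g, conj ((χ : G → ℂ) g) = (χ : G → ℂ) g) ∧
    classInner (fun g => (χ : G → ℂ) g * (χ : G → ℂ) g) (χ : G → ℂ) = 1 ∧
    IsIrrCharacter G (fun g => ((χ : G → ℂ) g * (χ : G → ℂ) g - (χ : G → ℂ) (g * g)) / 2) ∧
    (∀ u : G, orderOf u = 2 → (χ : G → ℂ) u = 5) ∧
    (∀ w : G, orderOf w = 4 → ∀ a : ℤ, (χ : G → ℂ) w = a → a ≤ 1) := by
  classical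
  obtain ⟨χ, hd⟩ := F.exists_deg 21 (by decide)
  have hval : ∀ g, ∃ a : ℤ, (χ : G → ℂ) g = a := M12Uniq.exists_int_of_unique χ fun ψ hψ =>
    F.unique_deg (by decide) hd (by
      rw [irr_one_eq_charDegree, irr_one_eq_charDegree] at hψ
      rw [← hd]; exact_mod_cast hψ)
  have hreal : ∀ g, conj ((χ : G → ℂ) g) = (χ : G → ℂ) g := fun g => by
    obtain ⟨a, ha⟩ := hval g; rw [ha, map_intCast]
  have hu : ∀ u : G, orderOf u = 2 → (χ : G → ℂ) u = 5 := fun u ho => by
    rw [(F.inv u ho).2 χ, hd, show sVal 21 = 5 by decide]; norm_num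
  have h1 : (χ : G → ℂ) 1 = 21 := by rw [irr_one_eq_charDegree, hd]; norm_num
  obtain ⟨y, hyo, hy⟩ := F.five_vals hG
  obtain ⟨x, hxo, hx⟩ := F.eleven_vals hG
  haveI : Fact (Nat.Prime 2) := ⟨Nat.prime_two⟩
  obtain ⟨u, huo⟩ := exists_prime_orderOf_dvd_card' (G := G) 2 (by rw [hG]; norm_num)
  have hy1 : y ≠ 1 := fun h => by rw [h, orderOf_one] at hyo; omega
  have hx1 : x ≠ 1 := fun h => by rw [h, orderOf_one] at hxo; omega
  have hyy : y * y ≠ 1 := fun h => by
    have h2 := orderOf_dvd_of_pow_eq_one ((pow_two y).trans h)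
    rw [hyo] at h2; norm_num at h2
  have hxx : x * x ≠ 1 := fun h => by
    have h2 := orderOf_dvd_of_pow_eq_one ((pow_two x).trans h)
    rw [hxo] at h2; norm_num at h2
  have huu : u * u = 1 := by rw [← pow_two, ← huo, pow_orderOf_eq_one]
  have χy : (χ : G → ℂ) y = 1 := by rw [hy y hy1 (Subgroup.mem_zpowers y) χ, hd]; norm_num [yVal]
  have χyy : (χ : G → ℂ) (y * y) = 1 := by
    rw [hy _ hyy (Subgroup.mul_mem _ (Subgroup.mem_zpowers y) (Subgroup.mem_zpowers y)) χ, hd]; norm_num [yVal]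
  have χx : (χ : G → ℂ) x = -1 := by
    rw [hx x hx1 (Subgroup.mem_zpowers x) χ (by rw [hd]; norm_num), hd]; norm_num [xVal]
  have χxx : (χ : G → ℂ) (x * x) = -1 := by
    rw [hx _ hxx (Subgroup.mul_mem _ (Subgroup.mem_zpowers x) (Subgroup.mem_zpowers x)) χ (by rw [hd]; norm_num), hd]
    norm_num [xVal]
  have hν : (Nat.card G : ℂ)⁻¹ * ∑ g : G, (χ : G → ℂ) (g * g) = 1 := by
    rcases FSchur.irr_indicator χ with ⟨h, -⟩ | ⟨-, h | ⟨-, m, hm, hm'⟩⟩
    · exact absurd hreal h
    · exact h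
    · exfalso
      rw [h1] at hm'
      have : m = 21 := by exact_mod_cast hm'.symm
      subst this
      exact absurd hm (by decide)
  have hsq : (Nat.card G : ℂ)⁻¹ * ∑ g : G, (χ : G → ℂ) g * (χ : G → ℂ) g = 1 := by
    have h := classInner_self_irr χ.2
    rw [classInner] at h
    simpa only [hreal] using h
  have hdec := F.decomp hG hd hy1 hx1 huo hy hx
  have hprin : ∀ g : G, (principal G : G → ℂ) g = 1 := fun g => rfl
  -- the exterior square
  obtain ⟨m, a, B, g, c, d, f, h, hm, hma, hmg, hmo, hmz, hm1, eD, ey, ex, es, ew⟩ :=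
    hdec (fun g => ((χ : G → ℂ) g * (χ : G → ℂ) g - (χ : G → ℂ) (g * g)) / 2) 210 0 0 1 2
      (DegreePTwo.isCharacter_extSquare (IsIrrCharacter.isCharacter χ.2)) (by norm_num)
      (by simp only [one_mul, h1]; norm_num)
      (by
        simp only [classInner, hprin, map_one, mul_one, ← Finset.sum_div, Finset.sum_sub_distrib]
        rw [← mul_div_assoc, mul_sub, hsq, hν]; norm_num)
      (by simp only [χy, χyy]; norm_num) (by simp only [χx, χxx]; norm_num)
      (by simp only [hu u huo, huu, h1]; norm_num)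
  -- the symmetric square
  obtain ⟨m', a', B', g', c', d', f', h', hm', hma', -, -, -, -, eD', ey', ex', es', ew'⟩ :=
    hdec (fun g => ((χ : G → ℂ) g * (χ : G → ℂ) g + (χ : G → ℂ) (g * g)) / 2) 231 1 1 0 23
      (M12Uniq.isCharacter_symSquare (IsIrrCharacter.isCharacter χ.2)) le_rfl
      (by simp only [one_mul, h1]; norm_num)
      (by
        simp only [classInner, hprin, map_one, mul_one, ← Finset.sum_div, Finset.sum_add_distrib]
        rw [← mul_div_assoc, mul_add, hsq, hν]; norm_num)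
      (by simp only [χy, χyy]; norm_num) (by simp only [χx, χxx]; norm_num)
      (by simp only [hu u huo, huu, h1]; norm_num)
  have hL : (a = 0 ∧ B = 0 ∧ g = 1 ∧ c = 0 ∧ d = 0 ∧ f = 0 ∧ h = 0) ∨
      (a = 1 ∧ B = 2 ∧ g = 0 ∧ c = 0 ∧ d = 1 ∧ f = 0 ∧ h = 0) := by
    have : h = 0 := by omega
    have : g ≤ 1 := by omega
    have : f ≤ 1 := by omega
    have : d ≤ 2 := by omega
    interval_cases g <;> interval_cases f <;> interval_cases d <;> omega
  have hS : (a' = 1 ∧ B' = 0 ∧ g' = 0 ∧ c' = 1 ∧ d' = 0 ∧ f' = 1 ∧ h' = 0) ∨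
      (a' = 1 ∧ B' = 0 ∧ g' = 0 ∧ c' = 2 ∧ d' = 1 ∧ f' = 0 ∧ h' = 0) := by
    have : h' = 0 := by omega
    have : g' ≤ 1 := by omega
    have : f' ≤ 1 := by omega
    have : d' ≤ 2 := by omega
    interval_cases g' <;> interval_cases f' <;> interval_cases d' <;> omega
  have hsqw : ∀ w : G, orderOf w = 4 → (χ : G → ℂ) (w * w) = 5 := fun w hw =>
    hu _ (by rw [← pow_two, orderOf_pow, hw]; rfl)
  -- the reducible case does not occur
  rcases hL with ⟨ra, rB, rg, rc, rd, rf, rh⟩ | ⟨ra, rB, rg, rc, rd, rf, rh⟩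
  swap
  · exfalso
    obtain ⟨w, hw⟩ := F.exists_four hG
    obtain ⟨Φ, hΦ, hΦ1, e99, elin, hok, b21, b45, b210, b55, b99, b154⟩ := F.w_vals hG hw
    have h := ew w Φ hΦ
    simp only [ra, rB, rg, rc, rd, rf, rh, hsqw w hw, hΦ χ, hd, Nat.cast_zero, Nat.cast_one, Nat.cast_ofNat] at h
    have h2 : Φ 21 * Φ 21 - 5 = 2 * (Φ 21 + 2 * Φ 45 + Φ 99) := by
      have h' : ((Φ 21 * Φ 21 - 5 : ℤ) : ℂ) = ((2 * (Φ 21 + 2 * Φ 45 + Φ 99) : ℤ) : ℂ) := by
        push_cast at h ⊢
        linear_combination 2 * h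
      exact_mod_cast h'
    have hc := List.all_eq_true.1 (List.all_eq_true.1 wCheckA_true _ (mem_ivals b21)) _ (mem_ivals b45)
    simp only [Bool.or_eq_true, Bool.not_eq_true', beq_eq_false_iff_ne, ne_eq, Nat.blt_eq] at hc
    have hd' : (Φ 21 * Φ 21 - 5) / 2 - Φ 21 - 2 * Φ 45 = Φ 99 := by omega
    rw [hd', show Φ 99 + 1 - Φ 45 = Φ 55 by omega] at hc
    rcases hc with hc | (hc | hc) | hc
    · exact hc (by omega)
    · omega
    · omega
    · have := List.all_eq_true.1 hc _ (mem_ivals b154)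
      simp only [Bool.or_eq_true, Bool.not_eq_true', beq_eq_false_iff_ne, ne_eq] at this
      rw [show -wLin (Φ 21) (Φ 45) 0 (Φ 55) (Φ 154) / 6160 = Φ 210 by omega, hok] at this
      exact this.elim (fun h => h (by omega)) fun h => by simp at h
  have hirr : IsIrrCharacter G (fun g => ((χ : G → ℂ) g * (χ : G → ℂ) g - (χ : G → ℂ) (g * g)) / 2) := by
    obtain ⟨c₂, hc₂⟩ := F.exists_deg 210 (by decide)
    rw [hm, Finset.sum_eq_single c₂ (fun ψ _ hne => ?_) (fun h => absurd (Finset.mem_univ _) h), hmg c₂ hc₂, rg,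
      Nat.cast_one, one_smul]
    · exact c₂.2
    · have hψ : m ψ = 0 := by
        have hmem := F.deg_mem ψ
        simp only [degList, List.mem_cons, List.not_mem_nil, or_false] at hmem
        by_cases h210 : charDegree (ψ : G → ℂ) = 210
        · exact absurd (F.unique_deg (by decide) hc₂ h210) hne
        by_cases h1' : charDegree (ψ : G → ℂ) = 1
        · rw [eq_principal hG h1']; omega
        by_cases hbig : charDegree (ψ : G → ℂ) = 280 ∨ charDegree (ψ : G → ℂ) = 385
        · exact hmz ψ hbig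
        have := hmo ψ (by omega)
        omega
      rw [hψ, Nat.cast_zero, zero_smul]
  refine ⟨χ, hd, hreal, ?_, hirr, hu, fun w hw z hz => ?_⟩
  · have e : (fun g => (χ : G → ℂ) g * (χ : G → ℂ) g) =
        (fun g => ((χ : G → ℂ) g * (χ : G → ℂ) g - (χ : G → ℂ) (g * g)) / 2) +
          (fun g => ((χ : G → ℂ) g * (χ : G → ℂ) g + (χ : G → ℂ) (g * g)) / 2) := by
      funext g; rw [Pi.add_apply]; ring
    rw [e, classInner_add_left, hm, hm', classInner_combination, classInner_combination, hma, hma', ra,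
      (show a' = 1 by omega)]
    norm_num
  · obtain ⟨Φ, hΦ, hΦ1, e99, elin, hok, b21, b45, b210, b55, b99, b154⟩ := F.w_vals hG hw
    have hzΦ : z = Φ 21 := by
      have := hΦ χ
      rw [hz, hd] at this
      exact_mod_cast this
    by_contra hgt
    have hL' := ew w Φ hΦ
    have hS' := ew' w Φ hΦ
    simp only [ra, rB, rg, rc, rd, rf, rh, hsqw w hw, hΦ χ, hd, Nat.cast_zero, Nat.cast_one, Nat.cast_ofNat,
      hΦ1] at hL' hS'
    have hl : Φ 21 * Φ 21 - 5 = 2 * Φ 210 := by
      have h' : ((Φ 21 * Φ 21 - 5 : ℤ) : ℂ) = ((2 * Φ 210 : ℤ) : ℂ) := by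
        push_cast at hL' ⊢
        linear_combination 2 * hL'
      exact_mod_cast h'
    have hs : Φ 21 * Φ 21 + 5 = 2 * (1 + Φ 21 + Φ 55 + Φ 154) ∨
        Φ 21 * Φ 21 + 5 = 2 * (1 + Φ 21 + 2 * Φ 55 + Φ 99) := by
      rcases hS with ⟨qa, qB, qg, qc, qd, qf, qh⟩ | ⟨qa, qB, qg, qc, qd, qf, qh⟩
      · left
        simp only [qa, qB, qg, qc, qd, qf, qh] at hS'
        have h' : ((Φ 21 * Φ 21 + 5 : ℤ) : ℂ) = ((2 * (1 + Φ 21 + Φ 55 + Φ 154) : ℤ) : ℂ) := by
          push_cast at hS' ⊢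
          linear_combination 2 * hS'
        exact_mod_cast h'
      · right
        simp only [qa, qB, qg, qc, qd, qf, qh] at hS'
        have h' : ((Φ 21 * Φ 21 + 5 : ℤ) : ℂ) = ((2 * (1 + Φ 21 + 2 * Φ 55 + Φ 99) : ℤ) : ℂ) := by
          push_cast at hS' ⊢
          linear_combination 2 * hS'
        exact_mod_cast h'
    have hc := List.all_eq_true.1 wCheckB_true _ (mem_ivals b21)
    simp only [Bool.or_eq_true, Bool.not_eq_true', beq_eq_false_iff_ne, ne_eq, Nat.blt_eq, decide_eq_true_eq] at hc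
    rw [show (Φ 21 * Φ 21 - 5) / 2 = Φ 210 by omega] at hc
    rcases hc with hc | hc | hc | hc
    · omega
    · exact hc (by omega)
    · omega
    · have := List.all_eq_true.1 (List.all_eq_true.1 (List.all_eq_true.1 hc _ (mem_ivals b45)) _ (mem_ivals b55)) _
        (mem_ivals b154)
      rw [hok] at this
      simp only [Bool.not_true, Bool.or_false, Bool.not_eq_true', Bool.or_eq_false_iff, beq_eq_false_iff_ne,
        ne_eq] at this
      rw [e99] at hs
      rcases hs with hs | hs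
      · exact this.1 (by omega)
      · exact this.2 (by omega)

end Frame

end Cfsg.Agent.M22Uniq
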