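import Cfsg.Agent.Lib.M22Uniq.Reduce

/-!
The twelve degrees of a simple group of order 443520 and the column at the involutions.
-/

set_option linter.unusedSectionVars false
set_option linter.style.haveILetI false

namespace Cfsg.Agent.M22Uniq

open Cfsg Cfsg.Agent.Char Cfsg.Agent.Blocks Cfsg.Agent.CCSylow Cfsg.Agent.DefOne

open scoped ComplexConjugate

universe u

/-- The degrees. -/
def degList : List ℕ := [1, 21, 45, 45, 210, 280, 280, 55, 99, 154, 231, 385]

/-- The values at an involution, by degree. -/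
def sVal (d : ℕ) : ℤ :=
  if Nat.beq d 1 then 1 else if Nat.beq d 21 then 5 else if Nat.beq d 45 then -3 else if Nat.beq d 210 then 2
  else if Nat.beq d 280 then -8 else if Nat.beq d 55 then 7 else if Nat.beq d 99 then 3
  else if Nat.beq d 154 then 10 else if Nat.beq d 231 then 7 else if Nat.beq d 385 then 1 else 0

/-- The column of the nine known degrees at an involution. -/
def sCol : List (ℕ × ℤ) :=
  [(21, 5), (45, -3), (45, -3), (210, 2), (280, -8), (280, -8), (55, 7), (99, 3), (154, 10), (231, 7)]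

/-- The possible columns at an involution, once the blocks are known. -/
def invRows : List Engine.Column :=
  ((((List.range 1153).filter fun C => Nat.blt 0 C && Nat.beq (C % 2) 0 && Nat.beq (1152 % C) 0).flatMap
    (Engine.rowsEleven [21, 45, 45, 210] 280 (Engine.dlt 11 ([21, 45, 45, 210], 280)) fun _ => 4)).flatMap
    (Engine.ext 7 3 1 Engine.closed₀ false ([55, 99], 45))).flatMap
    (Engine.ext 5 4 1 (Engine.closed₁ 7) false ([21, 99, 154], 231))

/-- The orthogonality to the degrees and the norm, completed by a character of degree 385. -/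
def invCond (r : Engine.Column) : Bool :=
  let S := 1 + (r.2.map fun z => (z.1 : ℤ) * z.2).sum
  (S % 385 == 0) && Nat.beq (Engine.normKn r.2 + (S / 385).natAbs * (S / 385).natAbs) r.1

set_option maxRecDepth 20000 in
theorem inv_check : (invRows.all fun r => !(invCond r) || r == (384, sCol)) = true := by
  decide +kernel

theorem sCol_val : ∀ z ∈ sCol, z.2 = sVal z.1 := by decide

variable {G : Type u} [Group G] [Fintype G]

theorem list_sum_natCast_mul (l : List (ℕ × ℤ)) :
    ((l.map fun z => (z.1 : ℤ) * z.2).sum : ℂ) = (l.map fun z => (z.1 : ℂ) * (z.2 : ℂ)).sum := by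
  rw [Int.cast_list_sum, List.map_map]
  exact congrArg List.sum (List.map_congr_left fun z _ => by simp)

/-- The facts about the characters that the end of the proof uses. -/
structure Frame (G : Type u) [Group G] [Fintype G] : Prop where
  degrees : (Finset.univ : Finset (IrrCharacter G)).val.map
    (fun χ : IrrCharacter G => charDegree (χ : G → ℂ)) = ↑degList
  agree : ∀ χ ψ : IrrCharacter G, charDegree (χ : G → ℂ) = charDegree (ψ : G → ℂ) → ∀ g : G,
    (charDegree (χ : G → ℂ) = 45 → ¬ 7 ∣ orderOf g) → (charDegree (χ : G → ℂ) = 280 → ¬ 11 ∣ orderOf g) →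
    (χ : G → ℂ) g = (ψ : G → ℂ) g
  relations : ∀ g : G, ¬ 5 ∣ orderOf g → ¬ 7 ∣ orderOf g → ¬ 11 ∣ orderOf g → ∀ F : ℕ → ℂ,
    (∀ χ : IrrCharacter G, (χ : G → ℂ) g = F (charDegree (χ : G → ℂ))) →
    1 - F 21 + 2 * F 45 + F 210 - F 280 = 0 ∧ 1 - F 55 + F 99 - F 45 = 0 ∧
    1 + F 21 - F 99 - F 154 + F 231 = 0
  cent5 : ∀ z : G, orderOf z = 5 → Nat.card (Subgroup.centralizer ({z} : Set G)) = 5
  cent7 : ∀ z : G, orderOf z = 7 → Nat.card (Subgroup.centralizer ({z} : Set G)) = 7
  cent11 : ∀ z : G, orderOf z = 11 → Nat.card (Subgroup.centralizer ({z} : Set G)) = 11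
  normal5 : ∃ (P : Sylow 5 G) (V : Subgroup G), Nat.card V = 1 ∧
    Conf 5 (P : Subgroup G) V (Subgroup.normalizer ((P : Subgroup G) : Set G)) 4
  inv : ∀ u : G, orderOf u = 2 → Nat.card (Subgroup.centralizer ({u} : Set G)) = 384 ∧
    ∀ χ : IrrCharacter G, (χ : G → ℂ) u = (sVal (charDegree (χ : G → ℂ)) : ℂ)

variable [IsSimpleGroup G] (hG : Nat.card G = 443520)

include hG

/-- The degree 385 and nothing else remains. -/
theorem exists_last {L : List (IrrCharacter G)}
    (hK : Known (fun d => Engine.closed₁ 7 d || !(Nat.beq (d % 5) 0)) L)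
    (hdeg : L.map (fun χ : IrrCharacter G => charDegree (χ : G → ℂ)) = sCol.map Prod.fst) :
    ∃ ω : IrrCharacter G, charDegree (ω : G → ℂ) = 385 ∧ ω ∉ L ∧ ω ≠ principal G ∧
      (Finset.univ : Finset (IrrCharacter G)).val = principal G ::ₘ ω ::ₘ (↑L : Multiset (IrrCharacter G)) := by
  classical
  have hp : principal G ∉ L := fun h => ((hK.2 _).1 h).1 rfl
  set R := (Finset.univ.erase (principal G)) \ L.toFinset with hR
  have hRd : ∀ χ ∈ R, 385 ∣ charDegree (χ : G → ℂ) := fun χ hχ => by
    obtain ⟨h1, h2⟩ := Finset.mem_sdiff.1 hχ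
    obtain ⟨h1, -⟩ := Finset.mem_erase.1 h1
    have h3 : (Engine.closed₁ 7 (charDegree (χ : G → ℂ)) || !(Nat.beq (charDegree (χ : G → ℂ) % 5) 0)) = false :=
      Bool.eq_false_iff.2 fun h => h2 (List.mem_toFinset.2 ((hK.2 χ).2 ⟨h1, h⟩))
    simp only [Engine.closed₁, Bool.or_eq_false_iff, Bool.not_eq_false', Nat.beq_eq] at h3
    obtain ⟨⟨a, b⟩, c⟩ := h3
    omega
  have hsum : ∑ χ : IrrCharacter G, charDegree (χ : G → ℂ) ^ 2 = 443520 := by
    rw [Cfsg.Agent.CharX.sum_deg_sq, hG]
  rw [← Finset.add_sum_erase _ _ (Finset.mem_univ (principal G)),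
    ← Finset.sum_sdiff (show L.toFinset ⊆ Finset.univ.erase (principal G) from fun χ hχ =>
      Finset.mem_erase.2 ⟨fun h => hp (h ▸ List.mem_toFinset.1 hχ), Finset.mem_univ _⟩),
    List.sum_toFinset _ hK.1, show charDegree (principal G : G → ℂ) = 1 from Cfsg.Agent.CharX.charDegree_one,
    show (L.map fun χ : IrrCharacter G => charDegree (χ : G → ℂ) ^ 2) =
      (sCol.map Prod.fst).map (fun d => d ^ 2) by rw [← hdeg, List.map_map]; rfl,
    show ((sCol.map Prod.fst).map fun d => d ^ 2).sum = 295294 by decide, one_pow, ← hR] at hsum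
  have hRsum : ∑ χ ∈ R, charDegree (χ : G → ℂ) ^ 2 = 148225 := by omega
  have hge : ∀ χ ∈ R, 385 ≤ charDegree (χ : G → ℂ) := fun χ hχ => Nat.le_of_dvd (charDegree_pos χ) (hRd χ hχ)
  have hcard : R.card * 148225 ≤ 148225 := by
    have := Finset.card_nsmul_le_sum R (fun χ : IrrCharacter G => charDegree (χ : G → ℂ) ^ 2) 148225
      fun χ hχ => by have := Nat.pow_le_pow_left (hge χ hχ) 2; omega
    rw [smul_eq_mul, hRsum] at this
    exact this
  obtain ⟨ω, hω⟩ : ∃ ω, R = {ω} := Finset.card_eq_one.1 (by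
    have : R.card ≠ 0 := fun h => by rw [Finset.card_eq_zero.1 h, Finset.sum_empty] at hRsum; omega
    omega)
  rw [hω, Finset.sum_singleton] at hRsum
  have hωd : charDegree (ω : G → ℂ) = 385 :=
    Nat.pow_left_injective two_ne_zero (hRsum.trans (by norm_num))
  have hωR : ω ∈ R := by rw [hω]; simp
  obtain ⟨h1, h2⟩ := Finset.mem_sdiff.1 hωR
  obtain ⟨h1, -⟩ := Finset.mem_erase.1 h1
  have hωL : ω ∉ L := fun h => h2 (List.mem_toFinset.2 h)
  refine ⟨ω, hωd, hωL, h1, ?_⟩
  have hnd : (principal G ::ₘ ω ::ₘ (↑L : Multiset (IrrCharacter G))).Nodup := by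
    simp only [Multiset.nodup_cons, Multiset.mem_cons, Multiset.mem_coe, Multiset.coe_nodup, not_or]
    exact ⟨⟨Ne.symm h1, hp⟩, hωL, hK.1⟩
  refine (Multiset.Nodup.ext Finset.univ.nodup hnd).2 fun χ => ⟨fun _ => ?_, fun _ => Finset.mem_univ χ⟩
  simp only [Multiset.mem_cons, Multiset.mem_coe]
  by_cases hχ : χ = principal G
  · exact Or.inl hχ
  by_cases hL : χ ∈ L
  · exact Or.inr (Or.inr hL)
  refine Or.inr (Or.inl ?_)
  have : χ ∈ R := Finset.mem_sdiff.2 ⟨Finset.mem_erase.2 ⟨hχ, Finset.mem_univ χ⟩, fun h => hL (List.mem_toFinset.1 h)⟩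
  rwa [hω, Finset.mem_singleton] at this

set_option maxHeartbeats 800000 in
/-- The facts hold. -/
theorem frame : Frame G := by
  classical
  haveI : Fact (Nat.Prime 11) := ⟨by norm_num⟩
  haveI : Fact (Nat.Prime 5) := ⟨by norm_num⟩
  haveI : Fact (Nat.Prime 7) := ⟨by norm_num⟩
  obtain ⟨s, P₅, V₅, P₇, V₇, P, V, cs, ths, cs₇, ths₇, cs₅, ths₅, hs, -, K, hV, B, K₇, hV₇, B₇, K₅, hV₅, B₅,
    hcol⟩ := reduce hG
  set L₁ := extList Engine.closed₀ (cs ++ ths) (cs₇ ++ ths₇) with hL₁def
  set L := extList (Engine.closed₁ 7) L₁ (cs₅ ++ ths₅) with hLdef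
  have hL₀ : Known Engine.closed₀ (cs ++ ths) := by
    have h := known_ext (p := 11) (by norm_num) (by norm_num) hV B known_none
    show Known (fun d => !(Nat.beq (d % 11) 0)) (cs ++ ths)
    simpa [extList] using h
  have hL₁ : Known (Engine.closed₁ 7) L₁ := known_ext (by norm_num) (by norm_num) hV₇ B₇ hL₀
  have hK : Known (fun d => Engine.closed₁ 7 d || !(Nat.beq (d % 5) 0)) L :=
    known_ext (by norm_num) (by norm_num) hV₅ B₅ hL₁
  have hdeg : L.map (fun χ : IrrCharacter G => charDegree (χ : G → ℂ)) = sCol.map Prod.fst := by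
    have := congrArg (List.map Prod.fst) hcol
    rw [List.map_map] at this
    exact this
  obtain ⟨ω, hωd, hωL, hωp, huniv⟩ := exists_last hG hK hdeg
  have hdegs : (Finset.univ : Finset (IrrCharacter G)).val.map
      (fun χ : IrrCharacter G => charDegree (χ : G → ℂ)) = ↑degList := by
    rw [huniv, Multiset.map_cons, Multiset.map_cons, Multiset.map_coe, hdeg, hωd,
      show charDegree (principal G : G → ℂ) = 1 from Cfsg.Agent.CharX.charDegree_one]
    decide
  have hcount : ∀ d, (Finset.univ.filter fun χ : IrrCharacter G => charDegree (χ : G → ℂ) = d).card =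
      degList.count d := fun d => by
    rw [← Multiset.coe_count, ← hdegs, Multiset.count_map, Finset.card, Finset.filter_val]
    exact congrArg Multiset.card (Multiset.filter_congr fun χ _ => eq_comm)
  have hall : ∀ (l : List (IrrCharacter G)) (d : ℕ), l.Nodup → degList.count d ≤ l.length →
      (∀ χ ∈ l, charDegree (χ : G → ℂ) = d) → ∀ χ : IrrCharacter G, charDegree (χ : G → ℂ) = d → χ ∈ l := by
    intro l d hl hlen hd χ hχ
    have hsub : l.toFinset ⊆ Finset.univ.filter fun χ : IrrCharacter G => charDegree (χ : G → ℂ) = d :=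
      fun a ha => Finset.mem_filter.2 ⟨Finset.mem_univ a, hd a (List.mem_toFinset.1 ha)⟩
    have := Finset.eq_of_subset_of_card_le hsub (by rw [hcount, List.toFinset_card_of_nodup hl]; exact hlen)
    rw [← List.mem_toFinset, this]
    exact Finset.mem_filter.2 ⟨Finset.mem_univ χ, hχ⟩
  have hthsd : ∀ {p e : ℕ} {W : Subgroup G} {tp : Engine.Tup} {a b : List (IrrCharacter G)},
      Blk p e W tp a b → b.length = (p - 1) / e ∧ ∀ χ ∈ b, charDegree (χ : G → ℂ) = tp.2 := fun {p e W tp a b} Bl => by
    have h1 := congrArg List.length Bl.degY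
    rw [List.length_map, List.length_replicate] at h1
    exact ⟨h1, fun χ hχ => List.eq_of_mem_replicate (Bl.degY ▸ List.mem_map_of_mem hχ)⟩
  have hagreeY : ∀ {p e : ℕ} {W : Subgroup G} {tp : Engine.Tup} {a b : List (IrrCharacter G)},
      Blk p e W tp a b → degList.count tp.2 ≤ (p - 1) / e → ∀ χ ψ : IrrCharacter G,
      charDegree (χ : G → ℂ) = tp.2 → charDegree (ψ : G → ℂ) = tp.2 → ∀ g : G, ¬ p ∣ orderOf g →
      (χ : G → ℂ) g = (ψ : G → ℂ) g := fun {p e W tp a b} Bl hc χ ψ h1 h2 g hg => by
    obtain ⟨hlen, hd⟩ := hthsd Bl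
    have hnd : b.Nodup := (List.nodup_append.1 Bl.nodup).2.1
    have m1 := hall b _ hnd (by omega) hd χ h1
    have m2 := hall b _ hnd (by omega) hd ψ h2
    have r1 := Bl.relation g hg χ m1
    have r2 := Bl.relation g hg ψ m2
    rcases dlt_sign p tp with e1 | e1 <;> rw [e1] at r1 r2 <;> push_cast at r1 r2
    · linear_combination r1 - r2
    · linear_combination r2 - r1
  have hagree : ∀ χ ψ : IrrCharacter G, charDegree (χ : G → ℂ) = charDegree (ψ : G → ℂ) → ∀ g : G,
      (charDegree (χ : G → ℂ) = 45 → ¬ 7 ∣ orderOf g) → (charDegree (χ : G → ℂ) = 280 → ¬ 11 ∣ orderOf g) →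
      (χ : G → ℂ) g = (ψ : G → ℂ) g := by
    intro χ ψ he g h45 h280
    by_cases e1 : charDegree (χ : G → ℂ) = 45
    · exact hagreeY B₇ (by decide) χ ψ e1 (he ▸ e1) g (h45 e1)
    by_cases e2 : charDegree (χ : G → ℂ) = 280
    · exact hagreeY B (by decide) χ ψ e2 (he ▸ e2) g (h280 e2)
    have hm : charDegree (χ : G → ℂ) ∈ degList := by
      rw [← Multiset.mem_coe, ← hdegs]
      exact Multiset.mem_map_of_mem _ (Finset.mem_univ χ)
    have h1 : degList.count (charDegree (χ : G → ℂ)) ≤ 1 := by
      simp only [degList, List.mem_cons, List.not_mem_nil, or_false] at hm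
      rcases hm with h | h | h | h | h | h | h | h | h | h | h | h <;>
        first | exact absurd h e1 | exact absurd h e2 | (rw [h]; decide)
    have := hall [χ] _ (List.nodup_singleton χ) h1 (fun a ha => by rw [List.mem_singleton.1 ha]) ψ he.symm
    rw [List.mem_singleton.1 this]
  have hrels : ∀ {p e : ℕ} {W : Subgroup G} {tp : Engine.Tup} {a b : List (IrrCharacter G)},
      Blk p e W tp a b → ∀ g : G, ¬ p ∣ orderOf g → ∀ F : ℕ → ℂ,
      (∀ χ : IrrCharacter G, (χ : G → ℂ) g = F (charDegree (χ : G → ℂ))) →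
      1 + (tp.1.map fun d => (Engine.sgn p d : ℂ) * F d).sum + (Engine.dlt p tp : ℂ) * F tp.2 = 0 :=
    fun {p e W tp a b} Bl g hg F hF => by
      obtain ⟨θ, hθ⟩ := List.exists_mem_of_ne_nil _ Bl.nonempty
      have h := Bl.relation g hg θ hθ
      rw [hF θ, (hthsd Bl).2 θ hθ] at h
      rw [← Bl.degX, List.map_map]
      refine Eq.trans ?_ h
      congr 2
      exact congrArg List.sum (List.map_congr_left fun χ _ => by simp only [Function.comp_apply, hF χ])
  refine
    { degrees := hdegs, agree := hagree, relations := ?_, cent5 := ?_, cent7 := ?_, cent11 := cent_eleven hG,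
      normal5 := ⟨P₅, V₅, hV₅, K₅⟩, inv := ?_ }
  · intro g h5 h7 h11 F hF
    have r1 := hrels B g h11 F hF
    have r2 := hrels B₇ g h7 F hF
    have r3 := hrels B₅ g h5 F hF
    simp only [show Engine.dlt 11 ([21, 45, 45, 210], 280) = -1 by decide,
      show Engine.dlt 7 ([55, 99], 45) = -1 by decide, show Engine.dlt 5 ([21, 99, 154], 231) = 1 by decide,
      List.map_cons, List.map_nil, List.sum_cons, List.sum_nil,
      show Engine.sgn 11 21 = -1 by decide, show Engine.sgn 11 45 = 1 by decide,
      show Engine.sgn 11 210 = 1 by decide, show Engine.sgn 7 55 = -1 by decide, show Engine.sgn 7 99 = 1 by decide,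
      show Engine.sgn 5 21 = 1 by decide, show Engine.sgn 5 99 = -1 by decide,
      show Engine.sgn 5 154 = -1 by decide] at r1 r2 r3
    push_cast at r1 r2 r3
    exact ⟨by linear_combination r1, by linear_combination r2, by linear_combination r3⟩
  · intro z hz; rw [cent_card K₅ hz, hV₅, mul_one]
  · intro z hz; rw [cent_card K₇ hz, hV₇, mul_one]
  · intro u hu
    have h5 : ¬ 5 ∣ Nat.card (Subgroup.centralizer ({u} : Set G)) :=
      not_dvd_cent Nat.prime_two (by norm_num) (fun z hz => by rw [cent_card K₅ hz, hV₅, mul_one]) hu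
    have h7 : ¬ 7 ∣ Nat.card (Subgroup.centralizer ({u} : Set G)) :=
      not_dvd_cent Nat.prime_two (by norm_num) (fun z hz => by rw [cent_card K₇ hz, hV₇, mul_one]) hu
    obtain ⟨hd, -⟩ := cent_dvd hG hu
    set C := Nat.card (Subgroup.centralizer ({u} : Set G)) with hC
    have hd' : C ∣ 1152 := by
      have hco : Nat.Coprime C 35 := by
        rw [show (35 : ℕ) = 5 * 7 from rfl]
        exact Nat.Coprime.mul_right (((Nat.Prime.coprime_iff_not_dvd (by norm_num)).2 h5).symm)
          (((Nat.Prime.coprime_iff_not_dvd (by norm_num)).2 h7).symm)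
      exact hco.dvd_of_dvd_mul_right (by simpa using hd)
    have h2 : 2 ∣ C := by
      rw [hC, ← hu]
      exact Subgroup.orderOf_dvd_natCard _ (Subgroup.mem_centralizer_singleton_iff.2 rfl)
    have hrow : colOf L u ∈ invRows := by
      have hCmem : C ∈ (List.range 1153).filter fun C => Nat.blt 0 C && Nat.beq (C % 2) 0 && Nat.beq (1152 % C) 0 := by
        have := Nat.le_of_dvd (by norm_num) hd'
        refine List.mem_filter.2 ⟨List.mem_range.2 (by omega), ?_⟩
        simp only [Bool.and_eq_true, Nat.blt_eq, Nat.beq_eq]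
        exact ⟨⟨Nat.card_pos, Nat.mod_eq_zero_of_dvd h2⟩, Nat.mod_eq_zero_of_dvd hd'⟩
      have a1 := mem_rowsEleven hG B hu (fun _ => 4) fun χ hχ => four_dvd hG (B.ne_principal χ hχ) hu
      have a2 := mem_ext hG B₇ hL₀ hu (by norm_num) (cong := false) (by simp)
      have a3 := mem_ext hG B₅ hL₁ hu (by norm_num) (cong := false) (by simp)
      rw [hV₇] at a2
      rw [hV₅] at a3
      exact List.mem_flatMap.2 ⟨_, List.mem_flatMap.2 ⟨_, List.mem_flatMap.2 ⟨_, hCmem, a1⟩, a2⟩, a3⟩
    have hu1 : u ≠ 1 := fun h => by rw [h, orderOf_one] at hu; omega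
    have hval := ival_spec hu
    have hpr : (principal G : G → ℂ) u = 1 := rfl
    have horth : 1 + ((colOf L u).2.map fun z => (z.1 : ℤ) * z.2).sum + 385 * ival u ω = 0 := by
      have h := column_orth_of_not_isConj (g := u) (h := 1) fun h => hu1 (isConj_one_left.1 h)
      rw [Finset.sum_eq_multiset_sum, huniv, Multiset.map_cons, Multiset.map_cons, Multiset.sum_cons,
        Multiset.sum_cons, Multiset.map_coe, Multiset.sum_coe, irr_one_eq_charDegree, irr_one_eq_charDegree,
        show charDegree (principal G : G → ℂ) = 1 from Cfsg.Agent.CharX.charDegree_one, hωd, hpr, hval ω] at h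
      simp only [map_natCast] at h
      have e : ((((colOf L u).2.map fun z => (z.1 : ℤ) * z.2).sum : ℤ) : ℂ) =
          (L.map fun χ : IrrCharacter G => (χ : G → ℂ) u * conj ((χ : G → ℂ) 1)).sum := by
        rw [list_sum_natCast_mul, colOf, List.map_map]
        congr 1
        refine List.map_congr_left fun χ _ => ?_
        simp only [Function.comp_apply, irr_one_eq_charDegree, map_natCast, hval χ]
        ring
      have : ((1 + ((colOf L u).2.map fun z => (z.1 : ℤ) * z.2).sum + 385 * ival u ω : ℤ) : ℂ) = ((0 : ℤ) : ℂ) := by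
        push_cast
        rw [← Int.cast_list_sum, e]
        push_cast at h
        linear_combination h
      exact_mod_cast this
    have hnorm : Engine.normKn (colOf L u).2 + (ival u ω).natAbs * (ival u ω).natAbs = C := by
      have h := column_orth_of_isConj (IsConj.refl u)
      rw [Finset.sum_eq_multiset_sum, huniv, Multiset.map_cons, Multiset.map_cons, Multiset.sum_cons,
        Multiset.sum_cons, Multiset.map_coe, Multiset.sum_coe, hpr, hval ω, map_intCast, map_one, one_mul] at h
      have e : (((L.map fun χ => (ival u χ).natAbs * (ival u χ).natAbs).sum : ℕ) : ℂ) =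
          (L.map fun χ : IrrCharacter G => (χ : G → ℂ) u * conj ((χ : G → ℂ) u)).sum := by
        rw [Nat.cast_list_sum, List.map_map]
        congr 1
        refine List.map_congr_left fun χ _ => ?_
        simp only [Function.comp_apply, hval χ, map_intCast]
        rw [← Int.cast_mul, ← Int.natAbs_mul_self, Int.cast_natCast]
      have hk : (((ival u ω).natAbs * (ival u ω).natAbs : ℕ) : ℂ) = (ival u ω : ℂ) * (ival u ω : ℂ) := by
        rw [← Int.cast_mul, ← Int.natAbs_mul_self, Int.cast_natCast]
      have hq : Engine.normKn (colOf L u).2 = 1 + (L.map fun χ => (ival u χ).natAbs * (ival u χ).natAbs).sum := by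
        simp [Engine.normKn, colOf, List.map_map, Function.comp_def]
      have : (((Engine.normKn (colOf L u).2 + (ival u ω).natAbs * (ival u ω).natAbs : ℕ)) : ℂ) = (C : ℂ) := by
        rw [hq, Nat.cast_add, Nat.cast_add, e, hk, Nat.cast_one]
        linear_combination h
      exact_mod_cast this
    set S := 1 + ((colOf L u).2.map fun z => (z.1 : ℤ) * z.2).sum with hS
    have hSk : S / 385 = -ival u ω := by omega
    have hcond : invCond (colOf L u) = true := by
      simp only [invCond, ← hS, Bool.and_eq_true, beq_iff_eq, Nat.beq_eq]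
      refine ⟨by omega, ?_⟩
      rw [hSk, Int.natAbs_neg]
      exact hnorm
    have h := List.all_eq_true.1 inv_check _ hrow
    rw [hcond] at h
    simp only [Bool.not_true, Bool.false_or, beq_iff_eq, colOf, Prod.mk.injEq] at h
    obtain ⟨hC384, hLcol⟩ := h
    refine ⟨hC384, fun χ => ?_⟩
    have hmem : χ ∈ (Finset.univ : Finset (IrrCharacter G)).val := Finset.mem_univ χ
    rw [huniv] at hmem
    simp only [Multiset.mem_cons, Multiset.mem_coe] at hmem
    rcases hmem with rfl | rfl | hm
    · rw [show charDegree (principal G : G → ℂ) = 1 from Cfsg.Agent.CharX.charDegree_one, hpr,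
        show sVal 1 = 1 by decide, Int.cast_one]
    · have hk : ival u χ = 1 := by
        have e1 : ((colOf L u).2.map fun z => (z.1 : ℤ) * z.2).sum = -386 := by
          rw [show (colOf L u).2 = sCol from hLcol]; decide
        rw [e1] at hS
        omega
      rw [hωd, hval χ, hk, show sVal 385 = 1 by decide]
    · rw [hval χ]
      have := sCol_val _ (hLcol ▸ List.mem_map_of_mem (f := fun χ : IrrCharacter G =>
        (charDegree (χ : G → ℂ), ival u χ)) hm)
      exact congrArg _ this

end Cfsg.Agent.M22Uniq
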